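import Cfsg.Agent.Mrg.Omega.VP
import Cfsg.Agent.Mrg.Omega.SQ1.Choice
import Cfsg.Agent.Mrg.Omega.FrameI

section


/-!
# LEMMA OL (one line), abstract part

`S` a Sylow 2-subgroup of `G`, `Z = Ω₁(Z(S)) = zc S`, `V_P = zl S P`.

* `Blk S P` : `P ∈ P*(S)`, `C_V(a) = Z` for all `a ∈ S - O₂(P)`, `[V, S] ≤ Z`, `|V : Z| = |S : O₂(P)|` (the shape of
  a natural `SL₂(q)`-module, modulo `C_Z(P)`);
* `Blk.replace` : `A ∈ A(S)`, `A ≰ O₂(P)`: `(A ∩ O₂(P))V ∈ A(S)`, `|A : A ∩ O₂(P)| = |S : O₂(P)|`;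
* `Blk.zc_o2` : `Ω₁(Z(O₂(P))) = V` if `J(S) ≰ O₂(P)`;
* `Blk.zj_eq` : `Ω₁(Z(J(S))) = Z` if moreover `Z ∩ Z^x = 1` for some `x ∈ P` and `|V| = |Z|²`;
* `one_line` (file `Step.lean`) : then every `P' ∈ P*(S)` which satisfies `Blk` and `|V_{P'}| ≤ |Z|²` has `V_{P'} = V_P`, provided that
  there is no mutual pair.
-/

set_option autoImplicit false
set_option linter.unusedSectionVars false
set_option linter.unusedVariables false

namespace Cfsg.Agent.Omega.NO3S.OneLine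

open Subgroup Cfsg Cfsg.Agent.ZN Cfsg.Agent.ZN.ChoiceBase Cfsg.Agent.Omega.MinPar
open Cfsg.Agent.Omega.SQ1.Bau (mem_AA_of_comm zj_le_AA elem_comm elem_sq mem_sup_comm card_sup_comm mem_sup_norm)
open Cfsg.Agent.PLocal.ElemAbSup Cfsg.Agent.PLocal.ThompsonJ
open Cfsg.Agent.MinSimple.VModule (zc_le zc_le_zl zl_le le_o2 le_normalizer_zl)

universe u

variable {G : Type u} [Group G]

/-- `V_P` has the shape of a natural module (modulo `C_Z(P)`). -/
structure Blk (S P : Subgroup G) : Prop where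
  star : IsParS S P
  fix : ∀ a ∈ S, a ∉ o2 P → ∀ v ∈ zl S P, a * v = v * a → v ∈ zc S
  comm : ∀ a ∈ S, ∀ v ∈ zl S P, a * v * a⁻¹ * v⁻¹ ∈ zc S
  card : Nat.card (zl S P) = Nat.card (zc S) * (o2 P).relIndex S

section general

theorem card_mul_relIndex {H K : Subgroup G} (h : H ≤ K) : Nat.card H * H.relIndex K = Nat.card K := by
  rw [← Nat.card_congr (Subgroup.subgroupOfEquivOfLe h).toEquiv, relIndex, Subgroup.card_mul_index]

theorem card_sup_norm {H N : Subgroup G} (h : H ≤ normalizer (N : Set G)) :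
    Nat.card ↥(H ⊔ N) * Nat.card ↥(H ⊓ N) = Nat.card H * Nat.card N := by
  rw [← Cfsg.Agent.Lib.ProductSet.card_mul_card_inf H N]
  congr 1
  exact Nat.card_congr (Equiv.setCongr (Subgroup.coe_mul_of_left_le_normalizer_right H N h))

theorem conj_mem {P V : Subgroup G} (h : P ≤ normalizer (V : Set G)) {g v : G} (hg : g ∈ P) (hv : v ∈ V) :
    g * v * g⁻¹ ∈ V := (mem_normalizer_iff.1 (h hg) v).1 hv

/-- `[N, S, ..., S]` -/
def ser (S N : Subgroup G) : ℕ → Subgroup G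
  | 0 => N
  | n + 1 => ⁅S, ser S N n⁆

/-- A nontrivial step in a normal series of a 2-group: `M < N` normal in `S`, some `y ∈ N - M` has `[y, S] ≤ M`. -/
theorem exists_fixed [Finite G] {S M N : Subgroup G} (hS : IsPGroup 2 S) (hNS : N ≤ S)
    (hN : S ≤ normalizer (N : Set G)) (hne : ¬ N ≤ M) :
    ∃ y ∈ N, y ∉ M ∧ ∀ s ∈ S, s * y * s⁻¹ * y⁻¹ ∈ M := by
  -- the last term of the series `[N, S, ..., S]` not in `M`
  obtain ⟨f, hf⟩ : ∃ f, f = ser S N := ⟨_, rfl⟩
  have hf0 : f 0 = N := by rw [hf]; rfl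
  have hfs : ∀ n, f (n + 1) = ⁅S, f n⁆ := fun n => by rw [hf]; rfl
  have hfn : ∀ n, f n ≤ N ∧ S ≤ normalizer ((f n : Subgroup G) : Set G) := by
    intro n
    induction n with
    | zero => rw [hf0]; exact ⟨le_rfl, hN⟩
    | succ n ih =>
      have h1 : ⁅S, f n⁆ ≤ f n := by
        rw [commutator_le]
        intro s hs x hx
        rw [commutatorElement_def]
        exact mul_mem (conj_mem ih.2 hs hx) (inv_mem hx)
      refine ⟨(hfs n ▸ h1).trans ih.1, ?_⟩
      rw [hfs]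
      intro s hs
      apply mem_normalizer_of_cj_le
      rw [cj, map_commutator]
      refine commutator_mono ?_ ?_
      · exact (cj_eq_of_mem_normalizer (le_normalizer hs)).le
      · exact (cj_eq_of_mem_normalizer (ih.2 hs)).le
  have hlow : ∀ n, f n ≤ S.lowerCentralSeries n := by
    intro n
    induction n with
    | zero => rw [hf0]; exact hNS
    | succ n ih =>
      rw [hfs, Subgroup.lowerCentralSeries_succ, commutator_comm]
      exact commutator_mono ih le_rfl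
  obtain ⟨k, hk⟩ := (Subgroup.isNilpotent_iff_lowerCentralSeries S).1 hS.isNilpotent
  have hbot : f k ≤ M := by
    refine (hlow k).trans ?_
    rw [hk]
    exact bot_le
  -- the first index with `f n ≤ M`
  classical
  have hex : ∃ n, f n ≤ M := ⟨k, hbot⟩
  obtain ⟨m, hm⟩ : ∃ m, Nat.find hex = m + 1 := by
    refine Nat.exists_eq_succ_of_ne_zero fun h0 => ?_
    have h1 := Nat.find_spec hex
    rw [h0, hf0] at h1
    exact hne h1
  have h1 : ¬ f m ≤ M := Nat.find_min hex (by omega)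
  have h2 : f (m + 1) ≤ M := hm ▸ Nat.find_spec hex
  obtain ⟨y, hy, hyM⟩ := SetLike.not_le_iff_exists.1 h1
  refine ⟨y, (hfn m).1 hy, hyM, fun s hs => ?_⟩
  apply h2
  rw [hfs]
  exact commutator_mem_commutator hs hy

end general

section blk

variable [Finite G] {S : Sylow 2 G} {P : Subgroup G}

theorem zc_le_AA {T A : Subgroup G} (hA : A ∈ AA T) : zc T ≤ A := fun _ hz =>
  mem_AA_of_comm hA (mem_zc.1 hz).1 (mem_zc.1 hz).2.1 fun a ha => (mem_zc.1 hz).2.2 a (hA.2.1 ha)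

theorem zc_elem (T : Subgroup G) : IsElementaryAbelian 2 (zc T) :=
  isElementaryAbelian_iff.2 ⟨fun a ha b hb => (mem_zc.1 hb).2.2 a (mem_zc.1 ha).1, fun a ha => (mem_zc.1 ha).2.1⟩

theorem o2_le (S : Sylow 2 G) {P : Subgroup G} (hP : IsPar (S : Subgroup G) P) : o2 P ≤ (S : Subgroup G) :=
  hP.isLoc.o2_le S

namespace Blk

variable (hG : IsCharacteristicTwoType G) (h : Blk (S : Subgroup G) P)
include hG h

theorem zl_le_zc : zl (S : Subgroup G) P ≤ zc (o2 P) := h.star.isLoc.zl_le S hG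

theorem zl_le_o2 : zl (S : Subgroup G) P ≤ o2 P := (zl_le_zc hG h).trans (zc_le _)

theorem zl_elem : IsElementaryAbelian 2 (zl (S : Subgroup G) P) :=
  isElementaryAbelian_mono (zc_elem (o2 P)) (zl_le_zc hG h)

theorem comm_o2 : ∀ a ∈ o2 P, ∀ v ∈ zl (S : Subgroup G) P, a * v = v * a := fun a ha v hv =>
  (mem_zc.1 (zl_le_zc hG h hv)).2.2 a ha

theorem mem_o2_of_comm {a v : G} (ha : a ∈ (S : Subgroup G)) (hv : v ∈ zl (S : Subgroup G) P)
    (hvZ : v ∉ zc (S : Subgroup G)) (hav : a * v = v * a) : a ∈ o2 P := by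
  by_contra hc
  exact hvZ (h.fix a ha hc v hv hav)

omit [Finite G] hG in
theorem exists_not_zc : ∃ v ∈ zl (S : Subgroup G) P, v ∉ zc (S : Subgroup G) := by
  by_contra hc
  push Not at hc
  have h1 : zl (S : Subgroup G) P = zc (S : Subgroup G) := le_antisymm hc (zc_le_zl _ _)
  exact h.star.not_zc (h1 ▸ le_normalizer_zl _ _)

/-- `A ∩ V = Z` for `A ∈ A(S)`, `A ≰ O₂(P)`. -/
theorem inf_eq {A : Subgroup G} (hA : A ∈ AA (S : Subgroup G)) (hAQ : ¬ A ≤ o2 P) :
    A ⊓ zl (S : Subgroup G) P = zc (S : Subgroup G) := by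
  apply le_antisymm
  · rintro v ⟨hvA, hvV⟩
    obtain ⟨a, ha, haQ⟩ := SetLike.not_le_iff_exists.1 hAQ
    exact h.fix a (hA.2.1 ha) haQ v hvV (elem_comm hA.1 a ha v hvA)
  · exact le_inf (zc_le_AA hA) (zc_le_zl _ _)

omit hG in
/-- `|A| ≤ |A ∩ Q| |S : Q|` -/
theorem card_le {A : Subgroup G} (hA : A ≤ (S : Subgroup G)) :
    Nat.card A ≤ Nat.card ↥(A ⊓ o2 P) * (o2 P).relIndex (S : Subgroup G) := by
  have h1 := card_mul_relIndex (inf_le_left : A ⊓ o2 P ≤ A)
  rw [inf_relIndex_left] at h1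
  rw [← h1]
  refine Nat.mul_le_mul_left _ (relIndex_le_of_le_right hA ?_)
  rw [relIndex]
  exact Subgroup.index_ne_zero_of_finite

/-- `(A ∩ Q) V` for an elementary abelian `A ≤ S` with `A ∩ V = Z`. -/
theorem card_sup {A : Subgroup G} (hinf : A ⊓ zl (S : Subgroup G) P = zc (S : Subgroup G)) :
    Nat.card ↥((A ⊓ o2 P) ⊔ zl (S : Subgroup G) P) =
      Nat.card ↥(A ⊓ o2 P) * (o2 P).relIndex (S : Subgroup G) := by
  have h2 := card_sup_comm (A := A ⊓ o2 P) (B := zl (S : Subgroup G) P)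
    fun a ha v hv => comm_o2 hG h a ha.2 v hv
  have h3 : (A ⊓ o2 P) ⊓ zl (S : Subgroup G) P = zc (S : Subgroup G) := by
    rw [inf_assoc, inf_eq_right.2 (zl_le_o2 hG h), hinf]
  rw [h3, h.card] at h2
  have hp : 0 < Nat.card (zc (S : Subgroup G)) := Nat.card_pos
  have e : Nat.card ↥((A ⊓ o2 P) ⊔ zl (S : Subgroup G) P) * Nat.card (zc (S : Subgroup G)) =
      Nat.card ↥(A ⊓ o2 P) * (o2 P).relIndex (S : Subgroup G) * Nat.card (zc (S : Subgroup G)) := by
    rw [h2]; ring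
  exact Nat.eq_of_mul_eq_mul_right hp e

theorem sup_elem {A : Subgroup G} (hA : IsElementaryAbelian 2 A) :
    IsElementaryAbelian 2 ((A ⊓ o2 P) ⊔ zl (S : Subgroup G) P : Subgroup G) :=
  isElementaryAbelian_sup (isElementaryAbelian_mono hA inf_le_left) (zl_elem hG h)
    fun v hv => mem_centralizer_iff.2 fun a ha => comm_o2 hG h a ha.2 v hv

theorem sup_le_o2 (A : Subgroup G) : (A ⊓ o2 P) ⊔ zl (S : Subgroup G) P ≤ o2 P :=
  sup_le inf_le_right (zl_le_o2 hG h)

/-- **Replacement**: `(A ∩ Q) V ∈ A(S)`. -/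
theorem replace {A : Subgroup G} (hA : A ∈ AA (S : Subgroup G)) (hAQ : ¬ A ≤ o2 P) :
    (A ⊓ o2 P) ⊔ zl (S : Subgroup G) P ∈ AA (S : Subgroup G) := by
  rw [mem_AA_iff]
  refine ⟨sup_elem hG h hA.1, (sup_le_o2 hG h A).trans (o2_le S h.star.toIsPar), ?_⟩
  rw [card_sup hG h (inf_eq hG h hA hAQ), mm_eq hA]
  exact card_le h hA.2.1

/-- `|A| = |A ∩ Q| |S : Q|` -/
theorem card_eq {A : Subgroup G} (hA : A ∈ AA (S : Subgroup G)) (hAQ : ¬ A ≤ o2 P) :
    Nat.card A = Nat.card ↥(A ⊓ o2 P) * (o2 P).relIndex (S : Subgroup G) := by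
  rw [← card_sup hG h (inf_eq hG h hA hAQ), ← mm_eq hA, mm_eq (replace hG h hA hAQ)]

omit hG in
theorem S_norm : (S : Subgroup G) ≤ normalizer (o2 P : Set G) := h.star.le.trans (MinSimple.VModule.le_normalizer_o2 P)

/-- `S = A Q` -/
theorem sup_eq {A : Subgroup G} (hA : A ∈ AA (S : Subgroup G)) (hAQ : ¬ A ≤ o2 P) :
    A ⊔ o2 P = (S : Subgroup G) := by
  have hle := sup_le hA.2.1 (o2_le S h.star.toIsPar)
  refine Subgroup.eq_of_le_of_card_ge hle ?_
  have h1 := card_sup_norm (H := A) (N := o2 P) (hA.2.1.trans h.S_norm)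
  have h2 := card_eq hG h hA hAQ
  have h3 := card_mul_relIndex (o2_le S h.star.toIsPar)
  rw [h2] at h1
  have hp : 0 < Nat.card ↥(A ⊓ o2 P) := Nat.card_pos
  have e : Nat.card ↥(A ⊔ o2 P) * Nat.card ↥(A ⊓ o2 P) = Nat.card (S : Subgroup G) * Nat.card ↥(A ⊓ o2 P) := by
    rw [h1, ← h3]; ring
  exact (Nat.eq_of_mul_eq_mul_right hp e).ge

/-- (T6) `Ω₁(Z(Q)) = V`. -/
theorem zc_o2 {A : Subgroup G} (hA : A ∈ AA (S : Subgroup G)) (hAQ : ¬ A ≤ o2 P) :
    zc (o2 P) = zl (S : Subgroup G) P := by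
  symm
  refine Subgroup.eq_of_le_of_card_ge (zl_le_zc hG h) ?_
  have hQS := o2_le S h.star.toIsPar
  have hc : ∀ a ∈ A ⊓ o2 P, ∀ y ∈ zc (o2 P), a * y = y * a := fun a ha y hy => (mem_zc.1 hy).2.2 a ha.2
  -- `A ∩ Y ≤ Z`
  have h1 : (A ⊓ o2 P) ⊓ zc (o2 P) ≤ zc (S : Subgroup G) := by
    rintro y ⟨⟨hyA, hyQ⟩, hyY⟩
    refine mem_zc.2 ⟨hQS hyQ, (mem_zc.1 hyY).2.1, fun s hs => ?_⟩
    rw [← sup_eq hG h hA hAQ] at hs
    obtain ⟨a, ha, x, hx, rfl⟩ := mem_sup_norm (hA.2.1.trans h.S_norm) hs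
    have e1 := elem_comm hA.1 a ha y hyA
    have e2 := (mem_zc.1 hyY).2.2 x hx
    calc a * x * y = a * (x * y) := mul_assoc _ _ _
      _ = (a * y) * x := by rw [e2, mul_assoc]
      _ = y * (a * x) := by rw [e1, mul_assoc]
  have h2 : IsElementaryAbelian 2 ((A ⊓ o2 P) ⊔ zc (o2 P) : Subgroup G) :=
    isElementaryAbelian_sup (isElementaryAbelian_mono hA.1 inf_le_left) (zc_elem _)
      fun y hy => mem_centralizer_iff.2 fun a ha => hc a ha y hy
  have h3 := hA.2.2 _ h2 (sup_le (inf_le_right.trans hQS) ((zc_le _).trans hQS))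
  have h4 := card_sup_comm hc
  have h5 : Nat.card ↥((A ⊓ o2 P) ⊓ zc (o2 P)) ≤ Nat.card (zc (S : Subgroup G)) :=
    Subgroup.card_le_of_le h1
  rw [card_eq hG h hA hAQ] at h3
  rw [h.card]
  have hp : 0 < Nat.card ↥(A ⊓ o2 P) := Nat.card_pos
  have e : Nat.card ↥(A ⊓ o2 P) * Nat.card (zc (o2 P)) ≤
      Nat.card ↥(A ⊓ o2 P) * (Nat.card (zc (S : Subgroup G)) * (o2 P).relIndex (S : Subgroup G)) := by
    rw [← h4]
    calc _ ≤ Nat.card ↥(A ⊓ o2 P) * (o2 P).relIndex (S : Subgroup G) * Nat.card (zc (S : Subgroup G)) :=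
          Nat.mul_le_mul h3 h5
      _ = _ := by ring
  exact Nat.le_of_mul_le_mul_left e hp

end Blk

/-- Some `A ∈ A(S)` is not contained in `O₂(P)`. -/
theorem exists_AA (hG : IsCharacteristicTwoType G) (hP : IsParS (S : Subgroup G) P)
    (hJ : ¬ jj (S : Subgroup G) ≤ centralizer (zl (S : Subgroup G) P : Set G)) :
    ∃ A ∈ AA (S : Subgroup G), ¬ A ≤ o2 P := by
  by_contra hc
  push Not at hc
  apply hJ
  rw [jj_eq]
  refine sSup_le fun A hA => ?_
  have h1 := hc A hA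
  rw [← IsParS.inf_centralizer S hG hP] at h1
  exact h1.trans inf_le_right

namespace Blk

variable (hG : IsCharacteristicTwoType G) (h : Blk (S : Subgroup G) P)
include hG h

/-- **`Ω₁(Z(J(S))) = Z`.** -/
theorem zj_eq {A : Subgroup G} (hA : A ∈ AA (S : Subgroup G)) (hAQ : ¬ A ≤ o2 P)
    (hsq : Nat.card (zl (S : Subgroup G) P) = Nat.card (zc (S : Subgroup G)) ^ 2)
    {x : G} (hx : x ∈ P) (hxZ : zc (S : Subgroup G) ⊓ cj x (zc (S : Subgroup G)) = ⊥) :
    zj (S : Subgroup G) = zc (S : Subgroup G) := by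
  have hQS := o2_le S h.star.toIsPar
  have hA' := replace hG h hA hAQ
  have hA'Q := sup_le_o2 hG h A
  -- `A' = (A ∩ Q) V ∈ A(Q)`
  have hmm : mm (S : Subgroup G) ≤ mm (o2 P) := by
    rw [mm_eq hA']
    exact card_le_mm hA'.1 hA'Q
  have hA'' : (A ⊓ o2 P) ⊔ zl (S : Subgroup G) P ∈ AA (o2 P) :=
    ⟨hA'.1, hA'Q, fun B hB hBQ => hA'.2.2 B hB (hBQ.trans hQS)⟩
  have hjj : jj (o2 P) ≤ jj (S : Subgroup G) := jj_mono hQS hmm
  set Z := zc (S : Subgroup G) with hZ
  set V := zl (S : Subgroup G) P with hV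
  set Y := zj (o2 P) with hY
  have hYc : ∀ y ∈ Y, ∀ w ∈ Y, y * w = w * y := fun y hy w hw => (mem_zj.1 hw).2.2 y (mem_zj.1 hy).1
  have hYe : IsElementaryAbelian 2 Y := isElementaryAbelian_iff.2 ⟨hYc, fun a ha => (mem_zj.1 ha).2.1⟩
  have hVY : V ≤ Y := fun v hv => mem_zj.2 ⟨le_jj hA'' (mem_sup_right hv), elem_sq (zl_elem hG h) v hv,
    fun y hy => comm_o2 hG h y (jj_le _ hy) v hv⟩
  have hYA' : Y ≤ (A ⊓ o2 P) ⊔ V := zj_le_AA hA''
  have hZJ : Z ≤ zj (S : Subgroup G) := zc_le_zj _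
  have hPY : P ≤ normalizer (Y : Set G) := (MinSimple.VModule.le_normalizer_o2 P).trans
    (normalizer_le_of_cj (F := zj) zj_cj (o2 P))
  have hPV : P ≤ normalizer (V : Set G) := le_normalizer_zl _ _
  -- `C_Y(A)`
  let YA : Subgroup G := Y ⊓ centralizer (A : Set G)
  have hYsplit : ∀ y ∈ Y, ∃ v ∈ V, ∃ c ∈ YA, y = v * c := by
    intro y hy
    obtain ⟨a, ha, v, hv, rfl⟩ := mem_sup_comm (A := A ⊓ o2 P) (B := V)
      (fun a ha v hv => comm_o2 hG h a ha.2 v hv) (hYA' hy)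
    refine ⟨v, hv, a, ⟨?_, mem_centralizer_iff.2 fun b hb => elem_comm hA.1 b hb a ha.1⟩,
      comm_o2 hG h a ha.2 v hv⟩
    have h1 := mul_mem hy (inv_mem (hVY hv))
    rwa [mul_inv_cancel_right] at h1
  have hVYA : V ⊓ YA = Z := by
    apply le_antisymm
    · rintro v ⟨hv, -, hvA⟩
      obtain ⟨a, ha, haQ⟩ := SetLike.not_le_iff_exists.1 hAQ
      exact h.fix a (hA.2.1 ha) haQ v hv (mem_centralizer_iff.1 hvA a ha)
    · refine le_inf (zc_le_zl _ _) (le_inf ((zc_le_zl _ _).trans hVY) fun z hz => ?_)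
      exact mem_centralizer_iff.2 fun a ha => (mem_zc.1 hz).2.2 a (hA.2.1 ha)
  have hVsupYA : V ⊔ YA = Y := by
    apply le_antisymm (sup_le hVY inf_le_left)
    intro y hy
    obtain ⟨v, hv, c, hc, rfl⟩ := hYsplit y hy
    exact mul_mem_sup hv hc
  have hcYA : Nat.card Y * Nat.card Z = Nat.card V * Nat.card YA := by
    have h1 := card_sup_comm (A := V) (B := YA) fun v hv c hc => hYc v (hVY hv) c hc.1
    rwa [hVsupYA, hVYA] at h1
  have hYY : Nat.card Y = Nat.card Z * Nat.card YA := by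
    have hp : 0 < Nat.card Z := Nat.card_pos
    rw [hsq] at hcYA
    have e : Nat.card Y * Nat.card Z = Nat.card Z * Nat.card YA * Nat.card Z := by rw [hcYA]; ring
    exact Nat.eq_of_mul_eq_mul_right hp e
  -- `D = C_Y(⟨A, A^x⟩)`
  have hxY : cj x Y = Y := cj_eq_of_mem_normalizer (hPY hx)
  have hxV : cj x V = V := cj_eq_of_mem_normalizer (hPV hx)
  let YB : Subgroup G := cj x YA
  have hYB : YB ≤ Y := by
    have h1 : cj x YA ≤ cj x Y := cj_mono x inf_le_left
    rwa [hxY] at h1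
  have hcYB : Nat.card YB = Nat.card YA := card_cj _ _
  let C : Subgroup G := YA ⊓ YB
  have hVC : V ⊓ C = ⊥ := by
    rw [eq_bot_iff, ← hxZ]
    rintro v ⟨hv, hvA, hvB⟩
    refine ⟨hVYA ▸ ⟨hv, hvA⟩, ?_⟩
    rw [← hVYA, cj_inf, hxV]
    exact ⟨hv, hvB⟩
  have hCcard : Nat.card Y ≤ Nat.card V * Nat.card C := by
    have h1 := card_sup_comm (A := YA) (B := YB) fun a ha b hb => hYc a ha.1 b (hYB hb)
    have h2 : Nat.card ↥(YA ⊔ YB) ≤ Nat.card Y := Subgroup.card_le_of_le (sup_le inf_le_left hYB)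
    have h3 : Nat.card YA * Nat.card YB ≤ Nat.card Y * Nat.card C := by
      rw [← h1]
      exact Nat.mul_le_mul_right _ h2
    rw [hcYB] at h3
    have hp : 0 < Nat.card YA := Nat.card_pos
    rw [hYY, hsq]
    rw [hYY] at h3
    have e : Nat.card YA * Nat.card YA ≤ Nat.card YA * (Nat.card Z * Nat.card C) := by
      calc _ ≤ Nat.card Z * Nat.card YA * Nat.card C := h3
        _ = _ := by ring
    have h4 := Nat.le_of_mul_le_mul_left e hp
    calc Nat.card Z * Nat.card YA ≤ Nat.card Z * (Nat.card Z * Nat.card C) := Nat.mul_le_mul_left _ h4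
      _ = Nat.card Z ^ 2 * Nat.card C := by ring
  have hVsupC : V ⊔ C = Y := by
    refine Subgroup.eq_of_le_of_card_ge (sup_le hVY (inf_le_left.trans inf_le_left)) ?_
    have h1 := card_sup_comm (A := V) (B := C) fun v hv c hc => hYc v (hVY hv) c hc.1.1
    rw [hVC, Subgroup.card_bot, mul_one] at h1
    rw [h1]
    exact hCcard
  -- the final argument
  refine le_antisymm ?_ hZJ
  by_contra hne
  obtain ⟨y, hy, hyZ, hyS⟩ := exists_fixed (M := Z) S.isPGroup' ((fun _ hx => jj_le _ (mem_zj.1 hx).1) :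
    zj (S : Subgroup G) ≤ (S : Subgroup G))
    (le_normalizer.trans (normalizer_le_of_cj (F := zj) zj_cj (S : Subgroup G))) hne
  have hy' := mem_zj.1 hy
  have hyA : ∀ B ∈ AA (S : Subgroup G), y ∈ B := fun B hB => zj_le_AA hB hy
  have hyQ : y ∈ o2 P := hA'Q (hyA _ hA')
  have hyY : y ∈ Y := mem_zj.2 ⟨le_jj hA'' (hyA _ hA'), hy'.2.1, fun w hw => hy'.2.2 w (hjj hw)⟩
  have hyA1 : y ∈ YA := ⟨hyY, mem_centralizer_iff.2 fun a ha => hy'.2.2 a (le_jj hA ha)⟩
  obtain ⟨z, hz, c, hc, hyzc⟩ : ∃ z ∈ Z, ∃ c ∈ C, y = z * c := by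
    rw [← hVsupC] at hyY
    obtain ⟨v, hv, c, hc, rfl⟩ := mem_sup_comm (A := V) (B := C)
      (fun v hv c hc => hYc v (hVY hv) c hc.1.1) hyY
    refine ⟨v, ?_, c, hc, rfl⟩
    rw [← hVYA]
    refine ⟨hv, ?_⟩
    have h1 := mul_mem hyA1 (inv_mem hc.1)
    rwa [mul_inv_cancel_right] at h1
  have hcZ : c ∉ Z := fun h1 => hyZ (hyzc ▸ mul_mem hz h1)
  have hcY : c ∈ Y := hc.1.1
  have hcQ0 : c ∈ o2 P := jj_le _ (mem_zj.1 hcY).1
  have hcS : ∀ s ∈ (S : Subgroup G), s * c * s⁻¹ * c⁻¹ ∈ Z := by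
    intro s hs
    have h1 := hyS s hs
    have h2 : s * z = z * s := (mem_zc.1 hz).2.2 s hs
    have e : s * y * s⁻¹ * y⁻¹ = s * c * s⁻¹ * c⁻¹ := by
      rw [hyzc]
      have h4 : s * (z * c) * s⁻¹ * (z * c)⁻¹ = (s * z) * c * s⁻¹ * c⁻¹ * z⁻¹ := by group
      have h5 : z * (s * c * s⁻¹ * c⁻¹) = s * c * s⁻¹ * c⁻¹ * z := by
        have h6 : s * c * s⁻¹ * c⁻¹ ∈ (S : Subgroup G) :=
          mul_mem (mul_mem (mul_mem hs (hQS hcQ0)) (inv_mem hs)) (inv_mem (hQS hcQ0))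
        exact ((mem_zc.1 hz).2.2 _ h6).symm
      rw [h4, h2]
      calc z * s * c * s⁻¹ * c⁻¹ * z⁻¹ = z * (s * c * s⁻¹ * c⁻¹) * z⁻¹ := by group
        _ = s * c * s⁻¹ * c⁻¹ := by rw [h5]; group
    rwa [e] at h1
  -- `c` centralises `Q`
  obtain ⟨a₀, ha₀, ha₀Q⟩ := SetLike.not_le_iff_exists.1 hAQ
  have hcQ : ∀ t ∈ o2 P, t * c = c * t := by
    intro t ht
    have hbP : x * a₀ * x⁻¹ ∈ P := mul_mem (mul_mem hx (h.star.le (hA.2.1 ha₀))) (inv_mem hx)
    set b := x * a₀ * x⁻¹ with hb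
    have hbc : b * c = c * b := by
      have h1 : c ∈ YB := hc.2
      have h2 : c ∈ cj x (centralizer (A : Set G)) := cj_mono x inf_le_right h1
      rw [mem_cj, mem_centralizer_iff] at h2
      have h3 := h2 a₀ ha₀
      have h4 : x * (a₀ * (x⁻¹ * c * x)) * x⁻¹ = x * (x⁻¹ * c * x * a₀) * x⁻¹ := by rw [h3]
      rw [hb]
      calc x * a₀ * x⁻¹ * c = x * (a₀ * (x⁻¹ * c * x)) * x⁻¹ := by group
        _ = x * (x⁻¹ * c * x * a₀) * x⁻¹ := h4
        _ = c * (x * a₀ * x⁻¹) := by group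
    set e := t * c * t⁻¹ * c⁻¹ with he
    have heZ : e ∈ Z := hcS t (hQS ht)
    have heV : e ∈ V := zc_le_zl _ _ heZ
    have heZ' : b * e * b⁻¹ ∈ Z := by
      have h1 : b * t * b⁻¹ ∈ o2 P := conj_mem (MinSimple.VModule.le_normalizer_o2 P) hbP ht
      have h2 := hcS _ (hQS h1)
      have h3 : b * c * b⁻¹ = c := by rw [hbc]; group
      have h4 : b * e * b⁻¹ = (b * t * b⁻¹) * (b * c * b⁻¹) * (b * t * b⁻¹)⁻¹ * (b * c * b⁻¹)⁻¹ := by
        rw [he]; group
      rw [h4, h3]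
      exact h2
    -- `[b, e] ∈ Z ∩ Z^x = 1`
    have h1 : b * e * b⁻¹ * e⁻¹ ∈ Z ⊓ cj x Z := by
      refine mem_inf.2 ⟨mul_mem heZ' (inv_mem heZ), ?_⟩
      rw [mem_cj]
      have h2 : x⁻¹ * e * x ∈ V := by
        have := conj_mem hPV (inv_mem hx) heV
        rwa [inv_inv] at this
      have h3 := h.comm a₀ (hA.2.1 ha₀) _ h2
      have h4 : x⁻¹ * (b * e * b⁻¹ * e⁻¹) * x = a₀ * (x⁻¹ * e * x) * a₀⁻¹ * (x⁻¹ * e * x)⁻¹ := by
        rw [hb]; group
      rw [h4]
      exact h3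
    rw [hxZ, mem_bot] at h1
    have h2 : e ∈ cj x Z := by
      rw [mem_cj]
      have h3 : x⁻¹ * e * x ∈ V := by
        have := conj_mem hPV (inv_mem hx) heV
        rwa [inv_inv] at this
      refine h.fix a₀ (hA.2.1 ha₀) ha₀Q _ h3 ?_
      have h4 : b * e = e * b := by
        have := mul_inv_eq_one.1 h1
        calc b * e = b * e * b⁻¹ * b := by group
          _ = e * b := by rw [this]
      have h5 : x⁻¹ * (b * e) * x = x⁻¹ * (e * b) * x := by rw [h4]
      calc a₀ * (x⁻¹ * e * x) = x⁻¹ * (b * e) * x := by rw [hb]; group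
        _ = x⁻¹ * (e * b) * x := h5
        _ = x⁻¹ * e * x * a₀ := by rw [hb]; group
    have h3 : e ∈ Z ⊓ cj x Z := ⟨heZ, h2⟩
    rw [hxZ, mem_bot, he] at h3
    have := mul_inv_eq_one.1 h3
    calc t * c = t * c * t⁻¹ * t := by group
      _ = c * t := by rw [this]
  have hcV : c ∈ V := by
    rw [hV, ← zc_o2 hG h hA hAQ]
    exact mem_zc.2 ⟨hcQ0, (mem_zj.1 hcY).2.1, hcQ⟩
  have h1 : c ∈ V ⊓ C := ⟨hcV, hc⟩
  rw [hVC, mem_bot] at h1
  exact hcZ (h1 ▸ one_mem _)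

end Blk

end blk

end Cfsg.Agent.Omega.NO3S.OneLine

end

section


/-!
# Levels above `J(S)` (helper781, #16560; referee report #16843)

`J₀ = J(S)`, `X_i = Ω₁(Z(J_i))`, `J_{i+1} = ⟨best offenders of S on X_i⟩ C_S(X_i)`.

* `BO S K` : the best offenders on `Ω₁(Z(K))` which lie in `S`;
* `nxt S K`, `lev S n` : the levels;
* `Lev S K` : `J(S) ≤ K ≤ S` and `N_G(T) ≤ N_G(K)` for all `K ≤ T ≤ S`; `Lev.zero`, `Lev.next`, `lev_isLev`;
* `Lev.le_norm_of_o2` : `K ≤ O₂(H) ≤ S` implies `H ≤ N_G(K)`;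
* `Lev.zc_o2_le` : `Ω₁(Z(O₂(H))) ≤ Ω₁(Z(K))`.
-/

set_option autoImplicit false
set_option linter.unusedSectionVars false

namespace Cfsg.Agent.Omega.NO3S.Level

open Subgroup Cfsg Cfsg.Agent.ZN Cfsg.Agent.ZN.ChoiceBase Cfsg.Agent.Omega.MinPar
open Cfsg.Agent.Omega.NO1.BestOff (Best)
open Cfsg.Agent.PLocal.ThompsonJ
open Cfsg.Agent.MinSimple.VModule (zc_le le_normalizer_o2)

universe u

variable {G : Type u} [Group G]

/-- The best offenders on `Ω₁(Z(K))` in `S`. -/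
def BO (S K : Subgroup G) : Set (Subgroup G) := {A | A ≤ S ∧ Best (zc K) A}

/-- The next level. -/
def nxt (S K : Subgroup G) : Subgroup G := (S ⊓ centralizer (zc K : Set G)) ⊔ sSup (BO S K)

/-- The levels. -/
noncomputable def lev (S : Subgroup G) : ℕ → Subgroup G
  | 0 => jj S
  | n + 1 => nxt S (lev S n)

theorem zc_cj (g : G) (T : Subgroup G) : zc (cj g T) = cj g (zc T) := by
  ext x
  rw [mem_cj, ChoiceBase.mem_zc, ChoiceBase.mem_zc, mem_cj]
  have e2 : (g⁻¹ * x * g) ^ 2 = 1 ↔ x ^ 2 = 1 := by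
    have : (g⁻¹ * x * g) ^ 2 = g⁻¹ * x ^ 2 * g := by rw [pow_two, pow_two]; group
    rw [this]
    constructor
    · intro h
      have : x ^ 2 = g * (g⁻¹ * x ^ 2 * g) * g⁻¹ := by group
      rw [this, h]; group
    · intro h
      rw [h]; group
  rw [e2]
  refine and_congr_right fun _ => and_congr_right fun _ => ?_
  constructor
  · intro h y hy
    have hy' : g * y * g⁻¹ ∈ cj g T := by
      rw [mem_cj]
      have : g⁻¹ * (g * y * g⁻¹) * g = y := by group
      rwa [this]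
    have h1 := h _ hy'
    have e1 : y * (g⁻¹ * x * g) = g⁻¹ * (g * y * g⁻¹ * x) * g := by group
    have e3 : g⁻¹ * x * g * y = g⁻¹ * (x * (g * y * g⁻¹)) * g := by group
    rw [e1, e3, h1]
  · intro h y hy
    have h1 := h _ (mem_cj.1 hy)
    have e1 : y * x = g * (g⁻¹ * y * g * (g⁻¹ * x * g)) * g⁻¹ := by group
    have e3 : x * y = g * (g⁻¹ * x * g * (g⁻¹ * y * g)) * g⁻¹ := by group
    rw [e1, e3, h1]

theorem normalizer_le_zc (T : Subgroup G) :
    normalizer (T : Set G) ≤ normalizer ((zc T : Subgroup G) : Set G) :=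
  normalizer_le_of_cj (F := zc) zc_cj T

theorem nxt_le (S K : Subgroup G) : nxt S K ≤ S := sup_le inf_le_left (sSup_le fun _ h => h.1)

theorem BO.le_nxt {S K A : Subgroup G} (h : A ∈ BO S K) : A ≤ nxt S K := (le_sSup h).trans le_sup_right

theorem inf_centralizer_le_nxt (S K : Subgroup G) : S ⊓ centralizer (zc K : Set G) ≤ nxt S K := le_sup_left

theorem le_centralizer_zc (K : Subgroup G) : K ≤ centralizer (zc K : Set G) := fun k hk =>
  mem_centralizer_iff.2 fun _ hz => ((ChoiceBase.mem_zc.1 hz).2.2 k hk).symm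

theorem le_nxt {S K : Subgroup G} (h : K ≤ S) : K ≤ nxt S K :=
  (le_inf h (le_centralizer_zc K)).trans le_sup_left

/-- Conjugates of best offenders in `S` under elements of `N_G(K)`. -/
theorem BO.conj {S K A : Subgroup G} (h : A ∈ BO S K) {g : G} (hg : g ∈ normalizer (K : Set G))
    (hS : cj g A ≤ S) : cj g A ∈ BO S K :=
  ⟨hS, h.2.conj (normalizer_le_zc K hg)⟩

/-- **A level**: `J(S) ≤ K ≤ S`, `N_G(T) ≤ N_G(K)` for all `K ≤ T ≤ S`. -/
structure Lev (S K : Subgroup G) : Prop where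
  le : K ≤ S
  jjle : jj S ≤ K
  norm : ∀ T : Subgroup G, K ≤ T → T ≤ S → normalizer (T : Set G) ≤ normalizer (K : Set G)

theorem Lev.zero [Finite G] (S : Subgroup G) : Lev S (jj S) where
  le := jj_le S
  jjle := le_rfl
  norm := fun T h1 h2 => by
    have h3 := normalizer_le_jj T
    rwa [jj_eq_of_jj_le h1 h2] at h3

theorem Lev.next [Finite G] {S K : Subgroup G} (h : Lev S K) : Lev S (nxt S K) where
  le := nxt_le S K
  jjle := h.jjle.trans (le_nxt h.le)
  norm := fun T h1 h2 g hg => by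
    have hgK : g ∈ normalizer (K : Set G) := h.norm T ((le_nxt h.le).trans h1) h2 hg
    have hT : cj g T = T := cj_eq_of_mem_normalizer hg
    have hX : cj g (zc K) = zc K := cj_eq_of_mem_normalizer (normalizer_le_zc K hgK)
    apply mem_normalizer_of_cj_le
    show Subgroup.map _ _ ≤ _
    rw [nxt, Subgroup.map_sup]
    refine sup_le ?_ ?_
    · refine le_trans ?_ (inf_centralizer_le_nxt S K)
      refine le_inf ?_ ?_
      · exact (cj_mono g ((inf_centralizer_le_nxt S K).trans h1)).trans (hT.le.trans h2)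
      · refine (cj_mono g inf_le_right).trans ?_
        rw [cj_centralizer, hX]
    · rw [Subgroup.map_le_iff_le_comap]
      refine sSup_le fun A hA => ?_
      rw [← Subgroup.map_le_iff_le_comap]
      refine BO.le_nxt (BO.conj hA hgK ?_)
      exact (cj_mono g ((BO.le_nxt hA).trans h1)).trans (hT.le.trans h2)

theorem lev_isLev [Finite G] (S : Subgroup G) : ∀ n, Lev S (lev S n)
  | 0 => Lev.zero S
  | n + 1 => (lev_isLev S n).next

theorem lev_le [Finite G] (S : Subgroup G) (n : ℕ) : lev S n ≤ S := (lev_isLev S n).le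

theorem lev_le_succ [Finite G] (S : Subgroup G) (n : ℕ) : lev S n ≤ lev S (n + 1) := le_nxt (lev_le S n)

theorem lev_mono [Finite G] (S : Subgroup G) : Monotone (lev S) := monotone_nat_of_le_succ (lev_le_succ S)

namespace Lev

variable {S K : Subgroup G}

/-- An involution of `S` which centralises `K' ≥ J(S)` lies in `J(S)`. -/
theorem mem_of_comm [Finite G] (h : Lev S K) {x : G} (hx : x ∈ S) (h2 : x ^ 2 = 1)
    (hc : ∀ y ∈ K, y * x = x * y) : x ∈ zc K := by
  refine ChoiceBase.mem_zc.2 ⟨h.jjle ?_, h2, hc⟩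
  exact mem_jj_of_comm hx h2 fun y hy => hc y (h.jjle hy)

theorem zc_le_zc [Finite G] (h : Lev S K) {K' : Subgroup G} (h1 : K ≤ K') (h2 : K' ≤ S) : zc K' ≤ zc K := by
  intro x hx
  have hx' := ChoiceBase.mem_zc.1 hx
  exact h.mem_of_comm (h2 hx'.1) hx'.2.1 fun y hy => hx'.2.2 y (h1 hy)

theorem zc_le [Finite G] (h : Lev S K) : zc S ≤ zc K := h.zc_le_zc h.le le_rfl

/-- `K ≤ O₂(H) ≤ S` implies `H ≤ N_G(K)`. -/
theorem le_norm_of_o2 (h : Lev S K) {H : Subgroup G} (h1 : K ≤ o2 H) (h2 : o2 H ≤ S) :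
    H ≤ normalizer (K : Set G) :=
  (le_normalizer_o2 H).trans (h.norm _ h1 h2)

/-- `Ω₁(Z(O₂(H))) ≤ Ω₁(Z(K))` if `K ≤ O₂(H)`. -/
theorem zc_o2_le [Finite G] (h : Lev S K) {H : Subgroup G} (h1 : K ≤ o2 H) (h2 : o2 H ≤ S) :
    zc (o2 H) ≤ zc K := h.zc_le_zc h1 h2

theorem S_norm (h : Lev S K) : S ≤ normalizer (K : Set G) := le_normalizer.trans (h.norm S h.le le_rfl)

theorem zc_comm {x y : G} (hx : x ∈ zc K) (hy : y ∈ zc K) : x * y = y * x :=
  (ChoiceBase.mem_zc.1 hy).2.2 x (ChoiceBase.mem_zc.1 hx).1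

end Lev

end Cfsg.Agent.Omega.NO3S.Level

end

section


/-!
# LEMMA OL (one line), the main step

`P`, `P'` ∈ P*(S) with `Blk`, no mutual pair, `J(S) ≰ C(V_P)`, `|V_P| = |Z|²`, `C_Z(P) = 1`, `|V_{P'}| ≤ |Z|²`:
then `V_{P'} = V_P`.
-/

set_option autoImplicit false
set_option linter.unusedSectionVars false
set_option linter.unusedVariables false

namespace Cfsg.Agent.Omega.NO3S.OneLine

open Subgroup Cfsg Cfsg.Agent.ZN Cfsg.Agent.ZN.ChoiceBase Cfsg.Agent.Omega.MinPar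
open Cfsg.Agent.Omega.SQ1.Bau (mem_AA_of_comm zj_le_AA elem_comm elem_sq mem_sup_comm card_sup_comm mem_sup_norm)
open Cfsg.Agent.PLocal.ElemAbSup Cfsg.Agent.PLocal.ThompsonJ
open Cfsg.Agent.MinSimple.VModule (zc_le zc_le_zl zl_le le_o2 le_normalizer_zl le_normalizer_o2)

open scoped commutatorElement

universe u

variable {G : Type u} [Group G] [Finite G] {S : Sylow 2 G}

/-- NOFF: two members of `P*(S)` generate a local subgroup. -/
theorem sup_isLoc (hG : IsCharacteristicTwoType G) (hF : ¬ FF (S : Subgroup G)) {P P' : Subgroup G}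
    (hP : IsParS (S : Subgroup G) P) (hP' : IsParS (S : Subgroup G) P') : IsLoc (S : Subgroup G) (P ⊔ P') := by
  refine ⟨hP.le.trans le_sup_left, fun core => ?_⟩
  obtain ⟨b, -, -, i, -, h2, -⟩ := IsPar.odd_of_not_FF hG S hF (P := fun b => cond b P' P)
    (by rintro (_ | _); exacts [hP.toIsPar, hP'.toIsPar]) core
  cases i
  · exact hP'.not_zc h2
  · exact hP.not_zc h2

theorem zl_mono (T : Subgroup G) {P L : Subgroup G} (h : P ≤ L) : zl T P ≤ zl T L := by
  refine iSup_le fun g => ?_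
  exact le_iSup (fun g : L => (zc T).map (MulAut.conj (g : G)).toMonoidHom) ⟨g, h g.2⟩

/-- Subgroups of `Ω₁(Z(S))` normalised by `P ∈ P(S)` are centralised by `P`. -/
theorem le_centralizer_of_le_zc {P E : Subgroup G} (hP : IsPar (S : Subgroup G) P)
    (hE : E ≤ zc (S : Subgroup G)) (hn : P ≤ normalizer (E : Set G)) : P ≤ centralizer (E : Set G) := by
  have h1 : P ≤ normalizer ((P ⊓ centralizer (E : Set G) : Subgroup G) : Set G) := by
    intro p hp
    apply mem_normalizer_of_cj_le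
    rw [cj_inf, cj_centralizer, cj_eq_of_mem_normalizer (le_normalizer hp), cj_eq_of_mem_normalizer (hn hp)]
  have hSE : (S : Subgroup G) ≤ centralizer (E : Set G) := fun s hs =>
    mem_centralizer_iff.2 fun e he => ((mem_zc.1 (hE he)).2.2 s hs).symm
  rcases hP.sup_eq_or_inf_le S (N := P ⊓ centralizer (E : Set G)) inf_le_left h1 with h2 | h2
  · rw [sup_eq_left.2 (le_inf hP.le hSE)] at h2
    exact inf_eq_left.1 h2
  · exfalso
    have h3 : (S : Subgroup G) ≤ o2 P := (le_inf le_rfl (le_inf hP.le hSE)).trans h2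
    have h4 : o2 P = (S : Subgroup G) := le_antisymm (hP.isLoc.o2_le S) h3
    exact hP.not_le (h4 ▸ le_normalizer_o2 P)

/-- **The step**: `A ∈ A(S)`, `A ≰ C(U)`, `|A ∩ C(U)|` maximal, `A ≰ O₂(P₁)` imply
`[V₂, O₂(P₁)] ≤ C_Z(P₁)`. -/
theorem step (hG : IsCharacteristicTwoType G) {P₁ P₂ L : Subgroup G} (h₁ : Blk (S : Subgroup G) P₁)
    (h₂ : Blk (S : Subgroup G) P₂) (hL : IsLoc (S : Subgroup G) L) (hP₁ : P₁ ≤ L) (hP₂ : P₂ ≤ L)
    {A : Subgroup G} (hA : A ∈ AA (S : Subgroup G))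
    (hAU : ¬ A ≤ centralizer (zl (S : Subgroup G) L : Set G))
    (hmax : ∀ B ∈ AA (S : Subgroup G), ¬ B ≤ centralizer (zl (S : Subgroup G) L : Set G) →
      Nat.card ↥(B ⊓ centralizer (zl (S : Subgroup G) L : Set G)) ≤
        Nat.card ↥(A ⊓ centralizer (zl (S : Subgroup G) L : Set G)))
    (hAQ : ¬ A ≤ o2 P₁) :
    ∀ v ∈ zl (S : Subgroup G) P₂, ∀ t ∈ o2 P₁, t * v * t⁻¹ * v⁻¹ ∈ zc (S : Subgroup G) ⊓ centralizer (P₁ : Set G) := by
  set U := zl (S : Subgroup G) L with hU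
  set Z := zc (S : Subgroup G) with hZ
  set V₁ := zl (S : Subgroup G) P₁ with hV₁
  set V₂ := zl (S : Subgroup G) P₂ with hV₂
  have hUL : U ≤ zc (o2 L) := hL.zl_le S hG
  have hUe : IsElementaryAbelian 2 U := isElementaryAbelian_mono (zc_elem (o2 L)) hUL
  have hUS : U ≤ (S : Subgroup G) := (hUL.trans (zc_le _)).trans (hL.o2_le S)
  have hV₁U : V₁ ≤ U := zl_mono _ hP₁
  have hV₂U : V₂ ≤ U := zl_mono _ hP₂
  have hQS := o2_le S h₁.star.toIsPar
  have hUc : U ≤ centralizer (U : Set G) := fun u hu => mem_centralizer_iff.2 fun w hw => elem_comm hUe w hw u hu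
  -- `A ∩ C(U) ≤ A ∩ Q₁`
  have hCQ : A ⊓ centralizer (U : Set G) ≤ A ⊓ o2 P₁ := by
    refine le_inf inf_le_left ?_
    rw [← IsParS.inf_centralizer S hG h₁.star]
    exact inf_le_inf hA.2.1 (centralizer_le hV₁U)
  have hinf := Blk.inf_eq hG h₁ hA hAQ
  have hA₁ := Blk.replace hG h₁ hA hAQ
  -- `A₁ ≤ C(U)`
  have hA₁U : (A ⊓ o2 P₁) ⊔ V₁ ≤ centralizer (U : Set G) := by
    by_contra hcon
    have h1 := hmax _ hA₁ hcon
    have h2 : (A ⊓ centralizer (U : Set G)) ⊔ V₁ ≤ ((A ⊓ o2 P₁) ⊔ V₁) ⊓ centralizer (U : Set G) :=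
      le_inf (sup_le_sup_right hCQ _) (sup_le inf_le_right (hV₁U.trans hUc))
    have h3 := (Subgroup.card_le_of_le h2).trans h1
    have h4 : A ⊓ centralizer (U : Set G) = (A ⊓ centralizer (U : Set G)) ⊔ V₁ :=
      Subgroup.eq_of_le_of_card_ge le_sup_left h3
    have h5 : V₁ ≤ A := by
      have : V₁ ≤ A ⊓ centralizer (U : Set G) := by rw [h4]; exact le_sup_right
      exact this.trans inf_le_left
    obtain ⟨v, hv, hvZ⟩ := Blk.exists_not_zc h₁
    exact hvZ (hinf ▸ ⟨h5 hv, hv⟩)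
  have hAQC : A ⊓ o2 P₁ = A ⊓ centralizer (U : Set G) :=
    le_antisymm (le_inf inf_le_left (le_sup_left.trans hA₁U)) hCQ
  -- `U = V₁ (A ∩ U)`
  have hsplit : V₁ ⊔ (A ⊓ U) = U := by
    refine Subgroup.eq_of_le_of_card_ge (sup_le hV₁U inf_le_right) ?_
    have hc1 : ∀ a ∈ A ⊓ o2 P₁, ∀ u ∈ U, a * u = u * a := fun a ha u hu =>
      (mem_centralizer_iff.1 ((hAQC ▸ ha : a ∈ A ⊓ centralizer (U : Set G))).2 u hu).symm
    have h2 : IsElementaryAbelian 2 ((A ⊓ o2 P₁) ⊔ U : Subgroup G) :=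
      isElementaryAbelian_sup (isElementaryAbelian_mono hA.1 inf_le_left) hUe
        fun u hu => mem_centralizer_iff.2 fun a ha => hc1 a ha u hu
    have h3 := hA.2.2 _ h2 (sup_le (inf_le_right.trans hQS) hUS)
    have h4 := card_sup_comm hc1
    have h5 : (A ⊓ o2 P₁) ⊓ U = A ⊓ U := by
      apply le_antisymm (inf_le_inf_right _ inf_le_left)
      rintro x ⟨hx, hx'⟩
      have h6 : x ∈ A ⊓ o2 P₁ := by rw [hAQC]; exact ⟨hx, hUc hx'⟩
      exact ⟨h6, hx'⟩
    rw [h5] at h4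
    have h6 := card_sup_comm (A := V₁) (B := A ⊓ U) fun v hv a ha => elem_comm hUe v (hV₁U hv) a ha.2
    have h7 : V₁ ⊓ (A ⊓ U) = Z := by
      rw [hZ, ← hinf]
      apply le_antisymm
      · rintro x ⟨hx, hx', -⟩
        exact ⟨hx', hx⟩
      · rintro x ⟨hx, hx'⟩
        exact ⟨hx', hx, hV₁U hx'⟩
    rw [h7] at h6
    have h8 := h₁.card
    rw [Blk.card_eq hG h₁ hA hAQ] at h3
    have hp : 0 < Nat.card ↥(A ⊓ o2 P₁) := Nat.card_pos
    have hpZ : 0 < Nat.card Z := Nat.card_pos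
    -- `|U| ≤ |S : Q₁| |A ∩ U|`
    have h9 : Nat.card U ≤ (o2 P₁).relIndex (S : Subgroup G) * Nat.card ↥(A ⊓ U) := by
      have e : Nat.card ↥(A ⊓ o2 P₁) * Nat.card U ≤
          Nat.card ↥(A ⊓ o2 P₁) * ((o2 P₁).relIndex (S : Subgroup G) * Nat.card ↥(A ⊓ U)) := by
        rw [← h4]
        calc _ ≤ Nat.card ↥(A ⊓ o2 P₁) * (o2 P₁).relIndex (S : Subgroup G) * Nat.card ↥(A ⊓ U) :=
              Nat.mul_le_mul_right _ h3
          _ = _ := by ring
      exact Nat.le_of_mul_le_mul_left e hp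
    have e : Nat.card Z * Nat.card U ≤ Nat.card Z * Nat.card ↥(V₁ ⊔ (A ⊓ U)) := by
      calc _ ≤ Nat.card Z * ((o2 P₁).relIndex (S : Subgroup G) * Nat.card ↥(A ⊓ U)) := Nat.mul_le_mul_left _ h9
        _ = Nat.card V₁ * Nat.card ↥(A ⊓ U) := by rw [h8]; ring
        _ = _ := by rw [← h6]; ring
    exact Nat.le_of_mul_le_mul_left e hpZ
  -- the elements of `P₁` which centralise `U / V₁`
  have hLU : L ≤ normalizer (U : Set G) := le_normalizer_zl _ _
  have hP₁U : P₁ ≤ normalizer (U : Set G) := hP₁.trans hLU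
  have hP₁V : P₁ ≤ normalizer (V₁ : Set G) := le_normalizer_zl _ _
  let N : Subgroup G :=
    { carrier := {g | g ∈ P₁ ∧ ∀ u ∈ U, g * u * g⁻¹ * u⁻¹ ∈ V₁}
      mul_mem' := by
        rintro a b ⟨ha, ha'⟩ ⟨hb, hb'⟩
        refine ⟨mul_mem ha hb, fun y hy => ?_⟩
        have e : a * b * y * (a * b)⁻¹ * y⁻¹ =
          (a * (b * y * b⁻¹ * y⁻¹) * a⁻¹) * (a * y * a⁻¹ * y⁻¹) := by group
        rw [e]
        exact mul_mem (conj_mem hP₁V ha (hb' y hy)) (ha' y hy)
      one_mem' := ⟨one_mem _, fun y _ => by simp⟩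
      inv_mem' := by
        rintro a ⟨ha, ha'⟩
        refine ⟨inv_mem ha, fun y hy => ?_⟩
        have e : a⁻¹ * y * a⁻¹⁻¹ * y⁻¹ = a⁻¹ * (a * y * a⁻¹ * y⁻¹)⁻¹ * a⁻¹⁻¹ := by group
        rw [e]
        exact conj_mem hP₁V (inv_mem ha) (inv_mem (ha' y hy)) }
  have hNP : N ≤ P₁ := fun g hg => hg.1
  have hPN : P₁ ≤ normalizer (N : Set G) := by
    intro p hp
    apply mem_normalizer_of_cj_le
    intro x hx
    rw [mem_cj] at hx
    obtain ⟨hx1, hx2⟩ := hx
    refine ⟨?_, fun u hu => ?_⟩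
    · have := mul_mem (mul_mem hp hx1) (inv_mem hp)
      have e : p * (p⁻¹ * x * p) * p⁻¹ = x := by group
      rwa [e] at this
    · have h1 : p⁻¹ * u * p ∈ U := by
        have := conj_mem hP₁U (inv_mem hp) hu
        rwa [inv_inv] at this
      have h2 := conj_mem hP₁V hp (hx2 _ h1)
      have e : p * (p⁻¹ * x * p * (p⁻¹ * u * p) * (p⁻¹ * x * p)⁻¹ * (p⁻¹ * u * p)⁻¹) * p⁻¹ =
          x * u * x⁻¹ * u⁻¹ := by group
      rwa [e] at h2
  have hAN : A ≤ N := by
    intro a ha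
    refine ⟨h₁.star.le (hA.2.1 ha), fun u hu => ?_⟩
    rw [← hsplit] at hu
    obtain ⟨v, hv, w, hw, rfl⟩ := mem_sup_comm (A := V₁) (B := A ⊓ U)
      (fun v hv a ha => elem_comm hUe v (hV₁U hv) a ha.2) hu
    have e1 : a * w = w * a := elem_comm hA.1 a ha w hw.1
    have e2 : a * (v * w) * a⁻¹ * (v * w)⁻¹ = a * v * a⁻¹ * v⁻¹ := by
      have e3 : a * (v * w) * a⁻¹ * (v * w)⁻¹ = a * v * (w * a⁻¹ * w⁻¹) * v⁻¹ := by group
      have e4 : w * a⁻¹ * w⁻¹ = a⁻¹ := by
        have : w * a⁻¹ = a⁻¹ * w := by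
          calc w * a⁻¹ = a⁻¹ * (a * w) * a⁻¹ := by group
            _ = a⁻¹ * w := by rw [e1]; group
        rw [this]; group
      rw [e3, e4]
    rw [e2]
    exact mul_mem (conj_mem hP₁V (h₁.star.le (hA.2.1 ha)) hv) (inv_mem hv)
  have hNS : N ⊔ (S : Subgroup G) = P₁ := by
    rcases h₁.star.toIsPar.sup_eq_or_inf_le S hNP hPN with h | h
    · exact h
    · exact absurd ((le_inf hA.2.1 hAN).trans h) hAQ
  -- `W = V₁ V₂` is normal in `P₁`
  have hW : P₁ ≤ normalizer ((V₁ ⊔ V₂ : Subgroup G) : Set G) := by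
    have hc : ∀ v ∈ V₁, ∀ w ∈ V₂, v * w = w * v := fun v hv w hw => elem_comm hUe v (hV₁U hv) w (hV₂U hw)
    rw [← hNS]
    refine sup_le (fun g hg => ?_) (fun s hs => ?_)
    · apply mem_normalizer_of_cj_le
      rw [cj, Subgroup.map_sup]
      refine sup_le ?_ ?_
      · exact (cj_eq_of_mem_normalizer (hP₁V hg.1)).le.trans le_sup_left
      · rintro _ ⟨w, hw, rfl⟩
        simp only [MulEquiv.toMonoidHom_eq_coe, MonoidHom.coe_coe, MulAut.conj_apply]
        have h1 := hg.2 w (hV₂U hw)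
        have h2 := mul_mem (mem_sup_left h1 : _ ∈ V₁ ⊔ V₂) (mem_sup_right hw : w ∈ V₁ ⊔ V₂)
        rwa [inv_mul_cancel_right] at h2
    · apply mem_normalizer_of_cj_le
      rw [cj, Subgroup.map_sup]
      exact sup_le_sup (cj_eq_of_mem_normalizer (hP₁V (h₁.star.le hs))).le
        (cj_eq_of_mem_normalizer ((le_normalizer_zl _ _ : P₂ ≤ normalizer (V₂ : Set G)) (h₂.star.le hs))).le
  -- `E = [V₁ V₂, Q₁] ≤ Z`
  let E : Subgroup G := ⁅V₁ ⊔ V₂, o2 P₁⁆
  have hPE : P₁ ≤ normalizer (E : Set G) := by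
    intro p hp
    apply mem_normalizer_of_cj_le
    rw [cj, Subgroup.map_commutator]
    exact commutator_mono (cj_eq_of_mem_normalizer (hW hp)).le
      (cj_eq_of_mem_normalizer (le_normalizer_o2 P₁ hp)).le
  have hEZ : E ≤ Z := by
    rw [commutator_le]
    intro w hw t ht
    obtain ⟨v, hv, w', hw', rfl⟩ := mem_sup_comm (A := V₁) (B := V₂)
      (fun v hv w hw => elem_comm hUe v (hV₁U hv) w (hV₂U hw)) hw
    have h1 : t * v = v * t := Blk.comm_o2 hG h₁ t ht v hv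
    have h2 := h₂.comm t (hQS ht) w' hw'
    have h3 : v * (t * w' * t⁻¹ * w'⁻¹) = t * w' * t⁻¹ * w'⁻¹ * v := by
      have h4 := (mem_zc.1 h2).2.2 v ((hV₁U hv |> fun h => hUS h))
      exact h4
    rw [commutatorElement_def]
    have e : v * w' * t * (v * w')⁻¹ * t⁻¹ = (v * (t * w' * t⁻¹ * w'⁻¹) * v⁻¹)⁻¹ := by
      have e1 : (v * (t * w' * t⁻¹ * w'⁻¹) * v⁻¹)⁻¹ = v * w' * t * w'⁻¹ * (v * t)⁻¹ := by group
      rw [e1, ← h1]
      group
    rw [e, h3]
    rw [mul_inv_cancel_right]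
    exact inv_mem h2
  have hEc := le_centralizer_of_le_zc h₁.star.toIsPar hEZ hPE
  intro v hv t ht
  have h1 : t * v * t⁻¹ * v⁻¹ ∈ E := by
    have h2 : ⁅v, t⁆ ∈ E := commutator_mem_commutator (mem_sup_right hv) ht
    have h3 := inv_mem h2
    rwa [commutatorElement_inv, commutatorElement_def] at h3
  exact ⟨hEZ h1, mem_centralizer_iff.2 fun p hp => (mem_centralizer_iff.1 (hEc hp) _ h1).symm⟩

/-- `g ∈ S - O₂(P)` has `[V, g] = Z` if `|V : Z| = |Z|`. -/
theorem Blk.exists_comm {P : Subgroup G} (h : Blk (S : Subgroup G) P)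
    (hc : ∀ v ∈ zl (S : Subgroup G) P, ∀ w ∈ zl (S : Subgroup G) P, v * w = w * v)
    (hsq : Nat.card (zl (S : Subgroup G) P) = Nat.card (zc (S : Subgroup G)) ^ 2) {g : G}
    (hg : g ∈ (S : Subgroup G)) (hgQ : g ∉ o2 P) {z : G} (hz : z ∈ zc (S : Subgroup G)) :
    ∃ v ∈ zl (S : Subgroup G) P, g * v * g⁻¹ * v⁻¹ = z := by
  have hPV : P ≤ normalizer (zl (S : Subgroup G) P : Set G) := le_normalizer_zl _ _
  let φ : zl (S : Subgroup G) P →* zc (S : Subgroup G) := MonoidHom.mk' (fun v => ⟨g * v * g⁻¹ * (v : G)⁻¹, h.comm g hg v v.2⟩) (by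
    rintro ⟨v, hv⟩ ⟨w, hw⟩
    apply Subtype.ext
    have h1 := h.comm g hg w hw
    have h2 : v * (g * w * g⁻¹ * w⁻¹) = (g * w * g⁻¹ * w⁻¹) * v :=
      hc v hv _ (zc_le_zl _ _ h1)
    show g * (v * w) * g⁻¹ * (v * w)⁻¹ = g * v * g⁻¹ * v⁻¹ * (g * w * g⁻¹ * w⁻¹)
    calc g * (v * w) * g⁻¹ * (v * w)⁻¹ = g * v * g⁻¹ * (g * w * g⁻¹ * w⁻¹) * v⁻¹ := by group
      _ = g * v * g⁻¹ * (v⁻¹ * (v * (g * w * g⁻¹ * w⁻¹))) * v⁻¹ := by group
      _ = g * v * g⁻¹ * (v⁻¹ * ((g * w * g⁻¹ * w⁻¹) * v)) * v⁻¹ := by rw [h2]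
      _ = _ := by group)
  have hker : ∀ v, v ∈ φ.ker ↔ (v : G) ∈ zc (S : Subgroup G) := by
    rintro ⟨v, hv⟩
    rw [MonoidHom.mem_ker, Subtype.ext_iff]
    show g * v * g⁻¹ * v⁻¹ = 1 ↔ v ∈ zc (S : Subgroup G)
    constructor
    · intro h1
      refine h.fix g hg hgQ v hv ?_
      have h2 := mul_inv_eq_one.1 h1
      calc g * v = g * v * g⁻¹ * g := by group
        _ = v * g := by rw [h2]
    · intro h1
      have h2 : g * v = v * g := (mem_zc.1 h1).2.2 g hg
      rw [h2]; group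
  have hkc : Nat.card φ.ker = Nat.card (zc (S : Subgroup G)) := by
    refine Nat.card_congr ⟨fun v => ⟨v.1.1, (hker v.1).1 v.2⟩,
      fun z => ⟨⟨z.1, zc_le_zl _ _ z.2⟩, (hker _).2 z.2⟩, fun _ => rfl, fun _ => rfl⟩
  have h1 : Nat.card φ.ker * Nat.card φ.range = Nat.card (zl (S : Subgroup G) P) := by
    rw [← Subgroup.index_ker, Subgroup.card_mul_index]
  have hp : 0 < Nat.card (zc (S : Subgroup G)) := Nat.card_pos
  rw [hkc, hsq, pow_two] at h1
  have h2 := Nat.eq_of_mul_eq_mul_left hp h1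
  have h3 : φ.range = ⊤ := Subgroup.eq_top_of_card_eq _ h2
  obtain ⟨v, hv⟩ : (⟨z, hz⟩ : zc (S : Subgroup G)) ∈ φ.range := by rw [h3]; trivial
  exact ⟨v, v.2, congrArg Subtype.val hv⟩

/-- **LEMMA OL (one line)**: `V_{P'} = V_P`. -/
theorem one_line (hG : IsCharacteristicTwoType G) (hF : ¬ FF (S : Subgroup G)) {P P' : Subgroup G}
    (h : Blk (S : Subgroup G) P) (h' : Blk (S : Subgroup G) P')
    (hJ : ¬ jj (S : Subgroup G) ≤ centralizer (zl (S : Subgroup G) P : Set G))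
    (hJ' : ¬ jj (S : Subgroup G) ≤ centralizer (zl (S : Subgroup G) P' : Set G))
    (hsq : Nat.card (zl (S : Subgroup G) P) = Nat.card (zc (S : Subgroup G)) ^ 2)
    (hcen : zc (S : Subgroup G) ⊓ centralizer (P : Set G) = ⊥)
    (hle : Nat.card (zl (S : Subgroup G) P') ≤ Nat.card (zc (S : Subgroup G)) ^ 2) :
    zl (S : Subgroup G) P' = zl (S : Subgroup G) P := by
  have hL := sup_isLoc hG hF h.star h'.star
  set L := P ⊔ P' with hLdef
  set U := zl (S : Subgroup G) L with hU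
  obtain ⟨A₀, hA₀, hA₀Q⟩ := exists_AA hG h.star hJ
  obtain ⟨A₀', hA₀', hA₀Q'⟩ := exists_AA hG h'.star hJ'
  have hpZ : 0 < Nat.card (zc (S : Subgroup G)) := Nat.card_pos
  -- members of `A(S)` not centralising `U`
  let s : Set (Subgroup G) := {B | B ∈ AA (S : Subgroup G) ∧ ¬ B ≤ centralizer (U : Set G)}
  have hne : s.Nonempty := by
    refine ⟨A₀, hA₀, fun h1 => hA₀Q ?_⟩
    rw [← IsParS.inf_centralizer S hG h.star]
    exact le_inf hA₀.2.1 (h1.trans (centralizer_le (zl_mono _ le_sup_left)))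
  obtain ⟨B, hB, hmax⟩ := Set.exists_max_image s (fun B => Nat.card ↥(B ⊓ centralizer (U : Set G)))
    (Set.toFinite s) hne
  have hLU : L ≤ normalizer (U : Set G) := le_normalizer_zl _ _
  -- a conjugate outside `O₂(P) ∩ O₂(P')`
  obtain ⟨l, hl, hlS, hlQ⟩ : ∃ l ∈ L, cj l B ≤ (S : Subgroup G) ∧ ¬ cj l B ≤ o2 P ⊓ o2 P' := by
    by_contra hcon
    push Not at hcon
    have key : ∀ l ∈ L, ∀ m ∈ L, cj m B ≤ (S : Subgroup G) → cj (l * m) B ≤ (S : Subgroup G) := by
      intro l hl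
      rw [hLdef, sup_eq_closure] at hl
      induction hl using closure_induction with
      | mem x hx =>
        intro m hm h1
        have h2 := hcon m hm h1
        rw [← cj_cj]
        rcases hx with hx | hx
        · have h3 := cj_mono x (h2.trans inf_le_left)
          rw [cj_eq_of_mem_normalizer (le_normalizer_o2 P hx)] at h3
          exact h3.trans (o2_le S h.star.toIsPar)
        · have h3 := cj_mono x (h2.trans inf_le_right)
          rw [cj_eq_of_mem_normalizer (le_normalizer_o2 P' hx)] at h3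
          exact h3.trans (o2_le S h'.star.toIsPar)
      | one => intro m hm h1; rwa [one_mul]
      | mul x y hx hy ihx ihy =>
        intro m hm h1
        rw [mul_assoc]
        refine ihx (y * m) (mul_mem ?_ hm) (ihy m hm h1)
        rwa [hLdef, sup_eq_closure]
      | inv x hx ih =>
        intro m hm h1
        -- `x⁻¹` is a power of `x`
        obtain ⟨n, hn⟩ : ∃ n : ℕ, x⁻¹ = x ^ n := by
          refine ⟨orderOf x - 1, ?_⟩
          rw [inv_eq_iff_mul_eq_one, ← pow_succ', Nat.sub_add_cancel (orderOf_pos x), pow_orderOf_eq_one]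
        rw [hn]
        have hxL : x ∈ L := by rwa [hLdef, sup_eq_closure]
        clear hn
        induction n with
        | zero => rwa [pow_zero, one_mul]
        | succ n ihn =>
          rw [pow_succ', mul_assoc]
          exact ih _ (mul_mem (pow_mem hxL n) hm) ihn
    -- so the normal closure of `B` in `L` is a 2-group
    let N : Subgroup G := ⨆ l : L, cj (l : G) B
    have hNS : N ≤ (S : Subgroup G) := iSup_le fun l => by
      have := key l l.2 1 (one_mem _) (by rw [cj_one]; exact hB.1.2.1)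
      rwa [mul_one] at this
    have hLN : L ≤ normalizer (N : Set G) := by
      intro g hg
      apply mem_normalizer_of_cj_le
      show Subgroup.map _ (⨆ l : L, cj (l : G) B) ≤ _
      rw [Subgroup.map_iSup]
      refine iSup_le fun l => ?_
      have h1 : Subgroup.map (MulAut.conj g).toMonoidHom (cj (l : G) B) = cj (g * l) B := cj_cj g l B
      rw [h1]
      exact le_iSup (fun l : L => cj (l : G) B) ⟨g * l, mul_mem hg l.2⟩
    have hN2 : N ≤ o2 L := le_o2 (hNS.trans hL.le) (S.isPGroup'.to_le hNS) hLN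
    apply hB.2
    have h1 : B ≤ N := by
      have := le_iSup (fun l : L => cj (l : G) B) 1
      rwa [OneMemClass.coe_one, cj_one] at this
    refine (h1.trans hN2).trans fun x hx => mem_centralizer_iff.2 fun u hu => ?_
    exact ((mem_zc.1 (hL.zl_le S hG hu)).2.2 x hx).symm
  -- `A = B^l`
  set A := cj l B with hAdef
  have hA : A ∈ AA (S : Subgroup G) := by
    rw [mem_AA_iff]
    refine ⟨isElementaryAbelian_cj l hB.1.1, hlS, ?_⟩
    rw [hAdef, card_cj, mm_eq hB.1]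
  have hUl : cj l U = U := cj_eq_of_mem_normalizer (hLU hl)
  have hcUl : cj l (centralizer (U : Set G)) = centralizer (U : Set G) := by rw [cj_centralizer, hUl]
  have hAU : ¬ A ≤ centralizer (U : Set G) := by
    intro h1
    apply hB.2
    rw [hAdef, cj_le_iff] at h1
    have h2 : cj l⁻¹ (centralizer (U : Set G)) = centralizer (U : Set G) := by
      nth_rewrite 1 [← hcUl]
      rw [cj_inv_cj]
    rwa [h2] at h1
  have hmax' : ∀ C ∈ AA (S : Subgroup G), ¬ C ≤ centralizer (U : Set G) →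
      Nat.card ↥(C ⊓ centralizer (U : Set G)) ≤ Nat.card ↥(A ⊓ centralizer (U : Set G)) := by
    intro C hC hC'
    have h1 := hmax C ⟨hC, hC'⟩
    have h2 : A ⊓ centralizer (U : Set G) = cj l (B ⊓ centralizer (U : Set G)) := by
      rw [cj_inf, hcUl]
    rw [h2, card_cj]
    exact h1
  have hVc : ∀ v ∈ zl (S : Subgroup G) P, ∀ w ∈ zl (S : Subgroup G) P, v * w = w * v :=
    elem_comm (Blk.zl_elem hG h)
  have hcardP := h.card
  have hcardP' := h'.card
  have hidx : (o2 P).relIndex (S : Subgroup G) = Nat.card (zc (S : Subgroup G)) := by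
    rw [hsq, pow_two] at hcardP
    exact (Nat.eq_of_mul_eq_mul_left hpZ hcardP).symm
  have hidx' : (o2 P').relIndex (S : Subgroup G) ≤ Nat.card (zc (S : Subgroup G)) := by
    rw [hcardP', pow_two] at hle
    exact Nat.le_of_mul_le_mul_left hle hpZ
  rcases not_and_or.1 (fun hc : A ≤ o2 P ∧ A ≤ o2 P' => hlQ (le_inf hc.1 hc.2)) with hAQ | hAQ
  · -- `P₁ = P`
    have h1 := step hG h h' hL le_sup_left le_sup_right hA hAU hmax' hAQ
    have h2 : zl (S : Subgroup G) P' ≤ zl (S : Subgroup G) P := by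
      have h3 : ∀ v ∈ zl (S : Subgroup G) P', ∀ t ∈ o2 P, t * v = v * t := by
        intro v hv t ht
        have h4 := h1 v hv t ht
        rw [hcen, mem_bot] at h4
        have h5 := mul_inv_eq_one.1 h4
        calc t * v = t * v * t⁻¹ * t := by group
          _ = v * t := by rw [h5]
      intro v hv
      rw [← Blk.zc_o2 hG h hA hAQ]
      have hvS : v ∈ (S : Subgroup G) := o2_le S h'.star.toIsPar (Blk.zl_le_o2 hG h' hv)
      have hvQ : v ∈ o2 P := h.star.isLoc.char2 S hG ⟨h.star.le hvS, mem_centralizer_iff.2 fun t ht => h3 v hv t ht⟩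
      exact mem_zc.2 ⟨hvQ, elem_sq (Blk.zl_elem hG h') v hv, fun t ht => h3 v hv t ht⟩
    obtain ⟨v', hv', hv'Z⟩ := Blk.exists_not_zc h'
    have hQ : o2 P' = o2 P := by
      apply le_antisymm
      · intro t ht
        exact Blk.mem_o2_of_comm hG h (o2_le S h'.star.toIsPar ht) (h2 hv') hv'Z
          (Blk.comm_o2 hG h' t ht v' hv')
      · rw [← IsParS.inf_centralizer S hG h.star, ← IsParS.inf_centralizer S hG h'.star]
        exact inf_le_inf_left _ (centralizer_le h2)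
    refine Subgroup.eq_of_le_of_card_ge h2 ?_
    rw [hcardP, hcardP', hQ]
  · -- `P₁ = P'`
    have h1 := step hG h' h hL le_sup_right le_sup_left hA hAU hmax' hAQ
    have hQQ : o2 P' ≤ o2 P := by
      by_contra hcon
      obtain ⟨g, hg, hgQ⟩ := SetLike.not_le_iff_exists.1 hcon
      apply h'.star.not_zc
      refine le_trans ?_ (centralizer_le_normalizer _)
      intro p hp
      rw [mem_centralizer_iff]
      intro z hz
      obtain ⟨v, hv, rfl⟩ := Blk.exists_comm h hVc hsq (o2_le S h'.star.toIsPar hg) hgQ hz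
      exact (mem_centralizer_iff.1 (h1 v hv g hg).2 p hp).symm
    have hQ : o2 P' = o2 P := by
      refine Subgroup.eq_of_le_of_card_ge hQQ ?_
      have e1 := card_mul_relIndex (o2_le S h.star.toIsPar)
      have e2 := card_mul_relIndex (o2_le S h'.star.toIsPar)
      rw [hidx] at e1
      have e3 : Nat.card (o2 P) * Nat.card (zc (S : Subgroup G)) ≤ Nat.card (o2 P') * Nat.card (zc (S : Subgroup G)) := by
        rw [e1, ← e2]
        exact Nat.mul_le_mul_left _ hidx'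
      exact Nat.le_of_mul_le_mul_right e3 hpZ
    rw [← Blk.zc_o2 hG h' hA₀' hA₀Q', ← Blk.zc_o2 hG h hA₀ hA₀Q, hQ]

end Cfsg.Agent.Omega.NO3S.OneLine

end

section


/-!
# LEMMA UNIQ at every level, abstract part

`X` is an elementary abelian group, `AA` a family of subgroups of `S` which are best offenders on `X`
(`BFam S X L AA`, helper555's structure, #16891; instances: the members of `A(S)`, and the best offenders `bo S X`).

* `BFam.mono` : a family for `X` is a family for every `Y ≤ X`;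
* `bo_fam` : the best offenders of `S` on `X`;
* `Blk.off` : an offender `A ≰ O₂(P)` on `V_P` has `S = A O₂(P)`, `|A : A ∩ O₂(P)| = |V : Z|`, `C_V(A) = Z`;
* `Blk.zc_o2_fam` : (T6) `Ω₁(Z(O₂(P))) = V_P`;
* `Blk.cent_fam` : `C_X(AA) = Z` if `C_Z(P) = 1`.
-/

set_option autoImplicit false
set_option linter.unusedSectionVars false
set_option linter.unusedVariables false

namespace Cfsg.Agent.Omega.NO3S.OneLine

open Subgroup Cfsg Cfsg.Agent.ZN Cfsg.Agent.ZN.ChoiceBase Cfsg.Agent.Omega.MinPar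
open Cfsg.Agent.Omega.SQ1.Bau (mem_AA_of_comm zj_le_AA elem_comm elem_sq mem_sup_comm card_sup_comm mem_sup_norm)
open Cfsg.Agent.PLocal.ElemAbSup Cfsg.Agent.PLocal.ThompsonJ
open Cfsg.Agent.MinSimple.VModule (zc_le zc_le_zl zl_le le_o2 le_normalizer_zl le_normalizer_o2)
open Cfsg.Agent.Omega.FFThm (ElemM)

universe u

variable {G : Type u} [Group G]

/-- `AA` is a family of best offenders of `S` on `U`, closed under conjugation by `L` (helper555 #16891). -/
structure BFam (S U L : Subgroup G) (AA : Set (Subgroup G)) : Prop where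
  le : ∀ A ∈ AA, A ≤ S
  elem : ∀ A ∈ AA, ElemM U A
  best : ∀ A ∈ AA, ∀ B : Subgroup G, A ⊓ centralizer (U : Set G) ≤ B → B ≤ A →
    Nat.card B * Nat.card ↥(U ⊓ centralizer (B : Set G)) ≤ Nat.card A * Nat.card ↥(U ⊓ centralizer (A : Set G))
  cut : ∀ A ∈ AA, ∀ B : Subgroup G, A ⊓ centralizer (U : Set G) ≤ B → B ≤ A →
    Nat.card B * Nat.card ↥(U ⊓ centralizer (B : Set G)) = Nat.card A * Nat.card ↥(U ⊓ centralizer (A : Set G)) →
      ∃ B' ∈ AA, B' ⊔ centralizer (U : Set G) = B ⊔ centralizer (U : Set G)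
  conj : ∀ A ∈ AA, ∀ g ∈ L, cj g A ≤ S → cj g A ∈ AA

/-- The best offenders of `S` on `X`. -/
def bo (S X : Subgroup G) : Set (Subgroup G) :=
  {A | A ≤ S ∧ ElemM X A ∧ ∀ B : Subgroup G, A ⊓ centralizer (X : Set G) ≤ B → B ≤ A →
    Nat.card B * Nat.card ↥(X ⊓ centralizer (B : Set G)) ≤ Nat.card A * Nat.card ↥(X ⊓ centralizer (A : Set G))}

section general

variable [Finite G] {S X Y L A B : Subgroup G} {AA : Set (Subgroup G)}

/-- `|C_Y(B)| |C_X(A)| ≤ |C_X(B)| |C_Y(A)|` for `Y ≤ X`, `B ≤ A`. -/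
theorem card_cent_mul (hX : ∀ x ∈ X, ∀ y ∈ X, x * y = y * x) (hYX : Y ≤ X) (hBA : B ≤ A) :
    Nat.card ↥(Y ⊓ centralizer (B : Set G)) * Nat.card ↥(X ⊓ centralizer (A : Set G)) ≤
      Nat.card ↥(X ⊓ centralizer (B : Set G)) * Nat.card ↥(Y ⊓ centralizer (A : Set G)) := by
  have h1 := card_sup_comm (A := Y ⊓ centralizer (B : Set G)) (B := X ⊓ centralizer (A : Set G))
    fun y hy x hx => hX y (hYX hy.1) x hx.1
  rw [← h1]
  refine Nat.mul_le_mul (Subgroup.card_le_of_le ?_) (Subgroup.card_le_of_le ?_)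
  · exact sup_le (inf_le_inf_right _ hYX) (inf_le_inf_left _ (centralizer_le hBA))
  · rintro x ⟨⟨h2, -⟩, -, h3⟩
    exact ⟨h2, h3⟩

theorem elemM_mono (h : ElemM X A) (hYX : Y ≤ X) (hBA : B ≤ A) : ElemM Y B :=
  ⟨fun a ha => centralizer_le hYX (h.sq a (hBA ha)), fun a ha b hb => centralizer_le hYX (h.comm a (hBA ha) b (hBA hb))⟩

/-- A family for `X` is a family for every `Y ≤ X`. -/
theorem BFam.mono (h : BFam S X L AA) (hX : ∀ x ∈ X, ∀ y ∈ X, x * y = y * x) (hYX : Y ≤ X) {M : Subgroup G}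
    (hML : M ≤ L) : BFam S Y M AA where
  le := h.le
  elem A hA := elemM_mono (h.elem A hA) hYX le_rfl
  best A hA B hAB hBA := by
    have h1 := h.best A hA B ((inf_le_inf_left _ (centralizer_le hYX)).trans hAB) hBA
    have h2 := card_cent_mul hX hYX hBA
    have hp : 0 < Nat.card ↥(X ⊓ centralizer (A : Set G)) := Nat.card_pos
    refine Nat.le_of_mul_le_mul_right ?_ hp
    calc _ = Nat.card B * (Nat.card ↥(Y ⊓ centralizer (B : Set G)) * Nat.card ↥(X ⊓ centralizer (A : Set G))) := by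
          ring
      _ ≤ Nat.card B * (Nat.card ↥(X ⊓ centralizer (B : Set G)) * Nat.card ↥(Y ⊓ centralizer (A : Set G))) :=
          Nat.mul_le_mul_left _ h2
      _ = (Nat.card B * Nat.card ↥(X ⊓ centralizer (B : Set G))) * Nat.card ↥(Y ⊓ centralizer (A : Set G)) := by
          ring
      _ ≤ (Nat.card A * Nat.card ↥(X ⊓ centralizer (A : Set G))) * Nat.card ↥(Y ⊓ centralizer (A : Set G)) :=
          Nat.mul_le_mul_right _ h1
      _ = _ := by ring
  cut A hA B hAB hBA he := by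
    have hAB' := (inf_le_inf_left A (centralizer_le hYX)).trans hAB
    have h1 := h.best A hA B hAB' hBA
    have h2 := card_cent_mul hX hYX hBA
    have hp : 0 < Nat.card ↥(Y ⊓ centralizer (A : Set G)) := Nat.card_pos
    have h3 : Nat.card A * Nat.card ↥(X ⊓ centralizer (A : Set G)) ≤
        Nat.card B * Nat.card ↥(X ⊓ centralizer (B : Set G)) := by
      refine Nat.le_of_mul_le_mul_right ?_ hp
      calc _ = (Nat.card A * Nat.card ↥(Y ⊓ centralizer (A : Set G))) * Nat.card ↥(X ⊓ centralizer (A : Set G)) := by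
            ring
        _ = Nat.card B * (Nat.card ↥(Y ⊓ centralizer (B : Set G)) * Nat.card ↥(X ⊓ centralizer (A : Set G))) := by
            rw [← he]; ring
        _ ≤ Nat.card B * (Nat.card ↥(X ⊓ centralizer (B : Set G)) * Nat.card ↥(Y ⊓ centralizer (A : Set G))) :=
            Nat.mul_le_mul_left _ h2
        _ = _ := by ring
    obtain ⟨B', hB', h4⟩ := h.cut A hA B hAB' hBA (le_antisymm h1 h3)
    refine ⟨B', hB', ?_⟩
    have h5 : centralizer (X : Set G) ≤ centralizer (Y : Set G) := centralizer_le hYX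
    have h6 : ∀ C : Subgroup G, C ⊔ centralizer (Y : Set G) = (C ⊔ centralizer (X : Set G)) ⊔ centralizer (Y : Set G) :=
      fun C => by rw [sup_assoc, sup_eq_right.2 h5]
    rw [h6 B', h6 B, h4]
  conj A hA g hg h1 := h.conj A hA g (hML hg) h1

/-- The members of the family are offenders on every subgroup of `X`. -/
theorem BFam.off (h : BFam S X L AA) (hX : ∀ x ∈ X, ∀ y ∈ X, x * y = y * x) (hYX : Y ≤ X) (hA : A ∈ AA) :
    Nat.card Y * Nat.card ↥(A ⊓ centralizer (Y : Set G)) ≤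
      Nat.card A * Nat.card ↥(Y ⊓ centralizer (A : Set G)) := by
  have h1 := (h.mono hX hYX (M := L) le_rfl).best A hA (A ⊓ centralizer (Y : Set G)) le_rfl inf_le_left
  have h2 : Y ⊓ centralizer ((A ⊓ centralizer (Y : Set G) : Subgroup G) : Set G) = Y := by
    refine inf_eq_left.2 fun y hy => mem_centralizer_iff.2 fun a ha => ?_
    exact (mem_centralizer_iff.1 ha.2 y hy).symm
  rw [h2, mul_comm] at h1
  exact h1

theorem cj_elemM {g : G} (hg : g ∈ normalizer (X : Set G)) (h : ElemM X A) : ElemM X (cj g A) := by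
  have hc : ∀ c : G, c ∈ centralizer (X : Set G) → g * c * g⁻¹ ∈ centralizer (X : Set G) := by
    intro c hc
    have h1 : cj g (centralizer (X : Set G)) = centralizer (X : Set G) := by
      rw [cj_centralizer, cj_eq_of_mem_normalizer hg]
    rw [← h1, mem_cj]
    have e : g⁻¹ * (g * c * g⁻¹) * g = c := by group
    rwa [e]
  constructor
  · intro a ha
    rw [mem_cj] at ha
    have h1 := hc _ (h.sq _ ha)
    have e : g * (g⁻¹ * a * g) ^ 2 * g⁻¹ = a ^ 2 := by rw [pow_two, pow_two]; group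
    rwa [e] at h1
  · intro a ha b hb
    rw [mem_cj] at ha hb
    have h1 := hc _ (h.comm _ ha _ hb)
    have e : g * (g⁻¹ * a * g * (g⁻¹ * b * g) * (g⁻¹ * a * g)⁻¹ * (g⁻¹ * b * g)⁻¹) * g⁻¹ =
        a * b * a⁻¹ * b⁻¹ := by group
    rwa [e] at h1

/-- The best offenders form a family. -/
theorem bo_fam (S X : Subgroup G) : BFam S X (normalizer (X : Set G)) (bo S X) where
  le A hA := hA.1
  elem A hA := hA.2.1
  best A hA := hA.2.2
  cut A hA B hAB hBA he := by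
    refine ⟨B, ⟨hBA.trans hA.1, elemM_mono hA.2.1 le_rfl hBA, fun C hC hCB => ?_⟩, rfl⟩
    rw [he]
    exact hA.2.2 C ((le_inf hAB inf_le_right).trans hC) (hCB.trans hBA)
  conj A hA g hg hle := by
    refine ⟨hle, cj_elemM hg hA.2.1, fun B hB hBA => ?_⟩
    have hgi := inv_mem hg
    have h1 : cj g⁻¹ (centralizer (X : Set G)) = centralizer (X : Set G) := by
      rw [cj_centralizer, cj_eq_of_mem_normalizer hgi]
    have h2 := hA.2.2 (cj g⁻¹ B) ?_ ?_
    · have h3 : ∀ C : Subgroup G, Nat.card ↥(X ⊓ centralizer (cj g⁻¹ C : Set G)) =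
          Nat.card ↥(X ⊓ centralizer (C : Set G)) := by
        intro C
        have e : X ⊓ centralizer (cj g⁻¹ C : Set G) = cj g⁻¹ (X ⊓ centralizer (C : Set G)) := by
          rw [cj_inf, cj_centralizer, cj_eq_of_mem_normalizer hgi]
        rw [e, card_cj]
      have h4 := h3 (cj g A)
      rw [cj_inv_cj] at h4
      rw [card_cj, h3] at h2
      rw [card_cj, ← h4]
      exact h2
    · have h3 := cj_mono g⁻¹ hB
      rwa [cj_inf, h1, cj_inv_cj] at h3
    · have h3 := cj_mono g⁻¹ hBA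
      rwa [cj_inv_cj] at h3

end general

section blk

variable [Finite G] {S : Sylow 2 G} {P : Subgroup G}

namespace Blk

variable (hG : IsCharacteristicTwoType G) (h : Blk (S : Subgroup G) P)
include hG h

omit hG in
/-- `C_V(A) = Z` for `A ≤ S`, `A ≰ O₂(P)` -/
theorem cent_eq {A : Subgroup G} (hA : A ≤ (S : Subgroup G)) (hAQ : ¬ A ≤ o2 P) :
    zl (S : Subgroup G) P ⊓ centralizer (A : Set G) = zc (S : Subgroup G) := by
  apply le_antisymm
  · rintro v ⟨hvV, hvA⟩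
    obtain ⟨a, ha, haQ⟩ := SetLike.not_le_iff_exists.1 hAQ
    exact h.fix a (hA ha) haQ v hvV (mem_centralizer_iff.1 hvA a ha)
  · exact le_inf (zc_le_zl _ _) fun z hz => mem_centralizer_iff.2 fun a ha => (mem_zc.1 hz).2.2 a (hA ha)

theorem inf_cent {A : Subgroup G} (hA : A ≤ (S : Subgroup G)) :
    A ⊓ centralizer (zl (S : Subgroup G) P : Set G) = A ⊓ o2 P := by
  rw [← IsParS.inf_centralizer S hG h.star, ← inf_assoc, inf_eq_left.2 hA]

/-- An offender `A ≤ S` on `V`, `A ≰ O₂(P)`: `|A| = |A ∩ Q| |S : Q|` -/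
theorem off_card {A : Subgroup G} (hA : A ≤ (S : Subgroup G)) (hAQ : ¬ A ≤ o2 P)
    (ho : Nat.card (zl (S : Subgroup G) P) * Nat.card ↥(A ⊓ centralizer (zl (S : Subgroup G) P : Set G)) ≤
      Nat.card A * Nat.card ↥(zl (S : Subgroup G) P ⊓ centralizer (A : Set G))) :
    Nat.card A = Nat.card ↥(A ⊓ o2 P) * (o2 P).relIndex (S : Subgroup G) := by
  refine le_antisymm (card_le h hA) ?_
  rw [inf_cent hG h hA, cent_eq h hA hAQ, h.card] at ho
  have hp : 0 < Nat.card (zc (S : Subgroup G)) := Nat.card_pos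
  refine Nat.le_of_mul_le_mul_right ?_ hp
  calc _ = Nat.card (zc (S : Subgroup G)) * (o2 P).relIndex (S : Subgroup G) * Nat.card ↥(A ⊓ o2 P) := by ring
    _ ≤ _ := ho

omit hG in
/-- `S = A Q` -/
theorem off_sup {A : Subgroup G} (hA : A ≤ (S : Subgroup G))
    (hc : Nat.card A = Nat.card ↥(A ⊓ o2 P) * (o2 P).relIndex (S : Subgroup G)) :
    A ⊔ o2 P = (S : Subgroup G) := by
  have hle := sup_le hA (o2_le S h.star.toIsPar)
  refine Subgroup.eq_of_le_of_card_ge hle ?_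
  have h1 := card_sup_norm (H := A) (N := o2 P) (hA.trans h.S_norm)
  have h3 := card_mul_relIndex (o2_le S h.star.toIsPar)
  rw [hc] at h1
  have hp : 0 < Nat.card ↥(A ⊓ o2 P) := Nat.card_pos
  have e : Nat.card ↥(A ⊔ o2 P) * Nat.card ↥(A ⊓ o2 P) = Nat.card (S : Subgroup G) * Nat.card ↥(A ⊓ o2 P) := by
    rw [h1, ← h3]; ring
  exact (Nat.eq_of_mul_eq_mul_right hp e).ge

variable {X L : Subgroup G} {AA : Set (Subgroup G)} (hB : BFam (S : Subgroup G) X L AA)
  (hX : ∀ x ∈ X, ∀ y ∈ X, x * y = y * x)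
include hB hX

theorem fam_card (hVX : zl (S : Subgroup G) P ≤ X) {A : Subgroup G} (hA : A ∈ AA) (hAQ : ¬ A ≤ o2 P) :
    Nat.card A = Nat.card ↥(A ⊓ o2 P) * (o2 P).relIndex (S : Subgroup G) :=
  off_card hG h (hB.le A hA) hAQ (hB.off hX hVX hA)

theorem fam_sup (hVX : zl (S : Subgroup G) P ≤ X) {A : Subgroup G} (hA : A ∈ AA) (hAQ : ¬ A ≤ o2 P) :
    A ⊔ o2 P = (S : Subgroup G) := off_sup h (hB.le A hA) (fam_card hG h hB hX hVX hA hAQ)

/-- (T6) `Ω₁(Z(Q)) = V`. -/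
theorem zc_o2_fam (hQX : zc (o2 P) ≤ X) {A : Subgroup G} (hA : A ∈ AA) (hAQ : ¬ A ≤ o2 P) :
    zc (o2 P) = zl (S : Subgroup G) P := by
  symm
  have hVX := (zl_le_zc hG h).trans hQX
  have hAS := hB.le A hA
  refine Subgroup.eq_of_le_of_card_ge (zl_le_zc hG h) ?_
  have hQS := o2_le S h.star.toIsPar
  -- `C_Y(A) ≤ Z`
  have h1 : zc (o2 P) ⊓ centralizer (A : Set G) ≤ zc (S : Subgroup G) := by
    rintro y ⟨hyY, hyA⟩
    refine mem_zc.2 ⟨hQS (mem_zc.1 hyY).1, (mem_zc.1 hyY).2.1, fun s hs => ?_⟩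
    rw [← fam_sup hG h hB hX hVX hA hAQ] at hs
    obtain ⟨a, ha, x, hx, rfl⟩ := mem_sup_norm (hAS.trans h.S_norm) hs
    have e1 := mem_centralizer_iff.1 hyA a ha
    have e2 := (mem_zc.1 hyY).2.2 x hx
    calc a * x * y = a * (x * y) := mul_assoc _ _ _
      _ = (a * y) * x := by rw [e2, mul_assoc]
      _ = y * (a * x) := by rw [e1, mul_assoc]
  have h2 : A ⊓ o2 P ≤ A ⊓ centralizer (zc (o2 P) : Set G) :=
    inf_le_inf_left _ fun x hx => mem_centralizer_iff.2 fun y hy => ((mem_zc.1 hy).2.2 x hx).symm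
  have h3 := hB.off hX hQX hA
  have h4 := fam_card hG h hB hX hVX hA hAQ
  rw [h.card]
  have hp : 0 < Nat.card ↥(A ⊓ o2 P) := Nat.card_pos
  refine Nat.le_of_mul_le_mul_right ?_ hp
  calc Nat.card (zc (o2 P)) * Nat.card ↥(A ⊓ o2 P)
      ≤ Nat.card (zc (o2 P)) * Nat.card ↥(A ⊓ centralizer (zc (o2 P) : Set G)) :=
        Nat.mul_le_mul_left _ (Subgroup.card_le_of_le h2)
    _ ≤ Nat.card A * Nat.card ↥(zc (o2 P) ⊓ centralizer (A : Set G)) := h3
    _ ≤ Nat.card A * Nat.card (zc (S : Subgroup G)) := Nat.mul_le_mul_left _ (Subgroup.card_le_of_le h1)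
    _ = _ := by rw [h4]; ring

/-- `|A ∩ Q| |C_X(A ∩ Q)| = |A| |C_X(A)|` and `C_X(A ∩ Q) = V C_X(A)`. -/
theorem fam_cut (hVX : zl (S : Subgroup G) P ≤ X) {A : Subgroup G} (hA : A ∈ AA) (hAQ : ¬ A ≤ o2 P) :
    Nat.card ↥(A ⊓ o2 P) * Nat.card ↥(X ⊓ centralizer ((A ⊓ o2 P : Subgroup G) : Set G)) =
        Nat.card A * Nat.card ↥(X ⊓ centralizer (A : Set G)) ∧
      zl (S : Subgroup G) P ⊔ (X ⊓ centralizer (A : Set G)) =
        X ⊓ centralizer ((A ⊓ o2 P : Subgroup G) : Set G) := by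
  have hAS := hB.le A hA
  have hc := fam_card hG h hB hX hVX hA hAQ
  have hle : zl (S : Subgroup G) P ⊔ (X ⊓ centralizer (A : Set G)) ≤
      X ⊓ centralizer ((A ⊓ o2 P : Subgroup G) : Set G) := by
    refine sup_le (le_inf hVX fun v hv => mem_centralizer_iff.2 fun a ha => comm_o2 hG h a ha.2 v hv) ?_
    exact inf_le_inf_left _ (centralizer_le inf_le_left)
  have h1 := card_sup_comm (A := zl (S : Subgroup G) P) (B := X ⊓ centralizer (A : Set G))
    fun v hv x hx => hX v (hVX hv) x hx.1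
  have h2 : zl (S : Subgroup G) P ⊓ (X ⊓ centralizer (A : Set G)) = zc (S : Subgroup G) := by
    rw [← cent_eq h hAS hAQ, ← inf_assoc, inf_eq_left.2 hVX]
  rw [h2, h.card] at h1
  have hp : 0 < Nat.card (zc (S : Subgroup G)) := Nat.card_pos
  have h3 : Nat.card ↥(zl (S : Subgroup G) P ⊔ (X ⊓ centralizer (A : Set G))) =
      (o2 P).relIndex (S : Subgroup G) * Nat.card ↥(X ⊓ centralizer (A : Set G)) := by
    refine Nat.eq_of_mul_eq_mul_right hp ?_
    rw [h1]; ring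
  have h4 : Nat.card ↥(A ⊓ o2 P) * Nat.card ↥(X ⊓ centralizer ((A ⊓ o2 P : Subgroup G) : Set G)) ≤
      Nat.card A * Nat.card ↥(X ⊓ centralizer (A : Set G)) := by
    refine hB.best A hA _ ?_ inf_le_left
    rw [← inf_cent hG h hAS]
    exact inf_le_inf_left _ (centralizer_le hVX)
  have h5 := Nat.mul_le_mul_left (Nat.card ↥(A ⊓ o2 P)) (Subgroup.card_le_of_le hle)
  have h6 : Nat.card ↥(A ⊓ o2 P) * Nat.card ↥(zl (S : Subgroup G) P ⊔ (X ⊓ centralizer (A : Set G))) =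
      Nat.card A * Nat.card ↥(X ⊓ centralizer (A : Set G)) := by
    rw [h3, hc]; ring
  have h7 := le_antisymm h4 (h6 ▸ h5)
  refine ⟨h7, Subgroup.eq_of_le_of_card_ge hle ?_⟩
  have hp' : 0 < Nat.card ↥(A ⊓ o2 P) := Nat.card_pos
  exact Nat.le_of_mul_le_mul_left (h7.trans h6.symm).le hp'

end Blk

theorem mem_cent_sSup {AA : Set (Subgroup G)} {y : G} :
    y ∈ centralizer ((sSup AA : Subgroup G) : Set G) ↔ ∀ B ∈ AA, ∀ b ∈ B, b * y = y * b := by
  constructor
  · intro h B hB b hb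
    exact mem_centralizer_iff.1 h b (le_sSup hB hb)
  · intro h
    have h1 : sSup AA ≤ centralizer {y} := sSup_le fun B hB b hb => by
      rw [mem_centralizer_singleton_iff]
      exact h B hB b hb
    exact mem_centralizer_iff.2 fun b hb => mem_centralizer_singleton_iff.1 (h1 hb)

/-- **`C_X(AA) = Z`.** -/
theorem Blk.cent_fam (hG : IsCharacteristicTwoType G) (h : Blk (S : Subgroup G) P) {X L : Subgroup G}
    {AA : Set (Subgroup G)} (hB : BFam (S : Subgroup G) X L AA) (hX : IsElementaryAbelian 2 X)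
    (hXS : X ≤ (S : Subgroup G)) (hPX : P ≤ normalizer (X : Set G)) (hPL : P ≤ L) (hQX : zc (o2 P) ≤ X)
    (hcen : zc (S : Subgroup G) ⊓ centralizer (P : Set G) = ⊥) {A : Subgroup G} (hA : A ∈ AA) (hAQ : ¬ A ≤ o2 P) :
    X ⊓ centralizer ((sSup AA : Subgroup G) : Set G) = zc (S : Subgroup G) := by
  have hXc : ∀ x ∈ X, ∀ y ∈ X, x * y = y * x := elem_comm hX
  have hVX := (Blk.zl_le_zc hG h).trans hQX
  have hQS := o2_le S h.star.toIsPar
  have hSP : (S : Subgroup G) ≤ P := h.star.le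
  have hPV : P ≤ normalizer (zl (S : Subgroup G) P : Set G) := le_normalizer_zl _ _
  set Z := zc (S : Subgroup G) with hZ
  set V := zl (S : Subgroup G) P with hV
  have hsup : sSup AA ≤ (S : Subgroup G) := sSup_le hB.le
  refine le_antisymm ?_ (le_inf (((zc_le_zl _ _).trans hVX)) fun z hz => mem_centralizer_iff.2 fun a ha =>
    (mem_zc.1 hz).2.2 a (hsup ha))
  by_contra hne
  -- `S` normalises `C_X(AA)`
  have hSn : (S : Subgroup G) ≤
      normalizer ((X ⊓ centralizer ((sSup AA : Subgroup G) : Set G) : Subgroup G) : Set G) := by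
    intro s hs
    apply mem_normalizer_of_cj_le
    rw [cj_inf, cj_eq_of_mem_normalizer (hPX (hSP hs))]
    refine inf_le_inf_left _ ?_
    intro y hy
    rw [mem_cj, mem_cent_sSup] at hy
    rw [mem_cent_sSup]
    intro B hB' b hb
    have h1 : cj s⁻¹ B ≤ (S : Subgroup G) := by
      have h2 := cj_mono s⁻¹ (hB.le B hB')
      rwa [cj_eq_of_mem_normalizer (le_normalizer (inv_mem hs) : s⁻¹ ∈ normalizer ((S : Subgroup G) : Set G))] at h2
    have h2 := hB.conj B hB' s⁻¹ (hPL (hSP (inv_mem hs))) h1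
    have h3 := hy _ h2 (s⁻¹ * b * s) (by rw [mem_cj]; have e : s⁻¹⁻¹ * (s⁻¹ * b * s) * s⁻¹ = b := by group
                                         rwa [e])
    calc b * y = s * ((s⁻¹ * b * s) * (s⁻¹ * y * s)) * s⁻¹ := by group
      _ = s * ((s⁻¹ * y * s) * (s⁻¹ * b * s)) * s⁻¹ := by rw [h3]
      _ = y * b := by group
  obtain ⟨y, ⟨hyX, hyA⟩, hyZ, hyS⟩ := exists_fixed (M := Z) S.isPGroup' (inf_le_left.trans hXS) hSn hne
  replace hyA := mem_cent_sSup.1 hyA
  -- `Y`, normalised by `P`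
  let Y : Subgroup G := X ⊓ centralizer ((sSup {B | B ∈ AA ∧ B ≤ o2 P} : Subgroup G) : Set G)
  have hPY : P ≤ normalizer (Y : Set G) := by
    intro p hp
    apply mem_normalizer_of_cj_le
    rw [cj_inf, cj_eq_of_mem_normalizer (hPX hp)]
    refine inf_le_inf_left _ ?_
    intro x hx
    rw [mem_cj, mem_cent_sSup] at hx
    rw [mem_cent_sSup]
    rintro B ⟨hB', hBQ⟩ b hb
    have h0 : cj p⁻¹ B ≤ o2 P := by
      have h2 := cj_mono p⁻¹ hBQ
      rwa [cj_eq_of_mem_normalizer (le_normalizer_o2 P (inv_mem hp))] at h2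
    have h2 := hB.conj B hB' p⁻¹ (hPL (inv_mem hp)) (h0.trans hQS)
    have h3 := hx _ ⟨h2, h0⟩ (p⁻¹ * b * p) (by rw [mem_cj]; have e : p⁻¹⁻¹ * (p⁻¹ * b * p) * p⁻¹ = b := by group
                                               rwa [e])
    calc b * x = p * ((p⁻¹ * b * p) * (p⁻¹ * x * p)) * p⁻¹ := by group
      _ = p * ((p⁻¹ * x * p) * (p⁻¹ * b * p)) * p⁻¹ := by rw [h3]
      _ = x * b := by group
  have hyY : y ∈ Y := ⟨hyX, mem_cent_sSup.2 fun B hB' => hyA B hB'.1⟩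
  -- `Y ≤ V C_X(A)`
  have hYle : Y ≤ V ⊔ (X ⊓ centralizer (A : Set G)) := by
    obtain ⟨h1, h2⟩ := Blk.fam_cut hG h hB hXc hVX hA hAQ
    obtain ⟨B', hB', h3⟩ := hB.cut A hA (A ⊓ o2 P) (by
      rw [← Blk.inf_cent hG h (hB.le A hA)]
      exact inf_le_inf_left _ (centralizer_le hVX)) inf_le_left h1
    rw [h2]
    have hB'Q : B' ≤ o2 P := by
      intro b hb
      have h4 : b ∈ (A ⊓ o2 P) ⊔ centralizer (X : Set G) := h3 ▸ mem_sup_left hb
      have h5 : A ⊓ o2 P ≤ normalizer (centralizer (X : Set G) : Set G) := by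
        intro a ha
        apply mem_normalizer_of_cj_le
        rw [cj_centralizer, cj_eq_of_mem_normalizer (hPX (hSP (hB.le A hA ha.1)))]
      obtain ⟨a, ha, c, hc, rfl⟩ := mem_sup_norm h5 h4
      refine mul_mem ha.2 ?_
      have h6 : c ∈ (S : Subgroup G) := by
        have := mul_mem (inv_mem (hB.le A hA ha.1)) (hB.le B' hB' hb)
        rwa [inv_mul_cancel_left] at this
      rw [← IsParS.inf_centralizer S hG h.star]
      exact ⟨h6, centralizer_le hVX hc⟩
    refine fun x hx => ⟨hx.1, mem_centralizer_iff.2 fun a ha => ?_⟩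
    have h4 : a ∈ B' ⊔ centralizer (X : Set G) := by rw [h3]; exact mem_sup_left ha
    have h5 : B' ⊔ centralizer (X : Set G) ≤ centralizer {x} := by
      refine sup_le (fun b hb => ?_) (fun c hc => ?_)
      · rw [mem_centralizer_singleton_iff]
        exact mem_cent_sSup.1 hx.2 B' ⟨hB', hB'Q⟩ b hb
      · rw [mem_centralizer_singleton_iff]
        exact (mem_centralizer_iff.1 hc x hx.1).symm
    exact mem_centralizer_singleton_iff.1 (h5 h4)
  -- `[Y, A] ≤ V`
  let N : Subgroup G :=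
    { carrier := {g | g ∈ P ∧ ∀ u ∈ Y, g * u * g⁻¹ * u⁻¹ ∈ V}
      mul_mem' := by
        rintro a b ⟨ha, ha'⟩ ⟨hb, hb'⟩
        refine ⟨mul_mem ha hb, fun y hy => ?_⟩
        have e : a * b * y * (a * b)⁻¹ * y⁻¹ =
          (a * (b * y * b⁻¹ * y⁻¹) * a⁻¹) * (a * y * a⁻¹ * y⁻¹) := by group
        rw [e]
        exact mul_mem (conj_mem hPV ha (hb' y hy)) (ha' y hy)
      one_mem' := ⟨one_mem _, fun y _ => by simp⟩
      inv_mem' := by
        rintro a ⟨ha, ha'⟩
        refine ⟨inv_mem ha, fun y hy => ?_⟩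
        have e : a⁻¹ * y * a⁻¹⁻¹ * y⁻¹ = a⁻¹ * (a * y * a⁻¹ * y⁻¹)⁻¹ * a⁻¹⁻¹ := by group
        rw [e]
        exact conj_mem hPV (inv_mem ha) (inv_mem (ha' y hy)) }
  have hNP : N ≤ P := fun g hg => hg.1
  have hPN : P ≤ normalizer (N : Set G) := by
    intro p hp
    apply mem_normalizer_of_cj_le
    intro x hx
    rw [mem_cj] at hx
    obtain ⟨hx1, hx2⟩ := hx
    refine ⟨?_, fun u hu => ?_⟩
    · have := mul_mem (mul_mem hp hx1) (inv_mem hp)
      have e : p * (p⁻¹ * x * p) * p⁻¹ = x := by group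
      rwa [e] at this
    · have h1 : p⁻¹ * u * p ∈ Y := by
        have := conj_mem hPY (inv_mem hp) hu
        rwa [inv_inv] at this
      have h2 := conj_mem hPV hp (hx2 _ h1)
      have e : p * (p⁻¹ * x * p * (p⁻¹ * u * p) * (p⁻¹ * x * p)⁻¹ * (p⁻¹ * u * p)⁻¹) * p⁻¹ =
          x * u * x⁻¹ * u⁻¹ := by group
      rwa [e] at h2
  have hAN : A ≤ N := by
    intro a ha
    have haS := hB.le A hA ha
    refine ⟨hSP haS, fun u hu => ?_⟩
    obtain ⟨v, hv, w, hw, rfl⟩ := mem_sup_comm (A := V) (B := X ⊓ centralizer (A : Set G))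
      (fun v hv a ha => hXc v (hVX hv) a ha.1) (hYle hu)
    have e1 : a * w = w * a := mem_centralizer_iff.1 hw.2 a ha
    have e2 : a * (v * w) * a⁻¹ * (v * w)⁻¹ = a * v * a⁻¹ * v⁻¹ := by
      have e3 : a * (v * w) * a⁻¹ * (v * w)⁻¹ = a * v * (w * a⁻¹ * w⁻¹) * v⁻¹ := by group
      have e4 : w * a⁻¹ * w⁻¹ = a⁻¹ := by
        have : w * a⁻¹ = a⁻¹ * w := by
          calc w * a⁻¹ = a⁻¹ * (a * w) * a⁻¹ := by group
            _ = a⁻¹ * w := by rw [e1]; group
        rw [this]; group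
      rw [e3, e4]
    rw [e2]
    exact mul_mem (conj_mem hPV (hSP haS) hv) (inv_mem hv)
  have hNS : N ⊔ (S : Subgroup G) = P := by
    rcases h.star.toIsPar.sup_eq_or_inf_le S hNP hPN with h1 | h1
    · exact h1
    · exact absurd ((le_inf (hB.le A hA) hAN).trans h1) hAQ
  -- `P` normalises `V y`
  let M : Subgroup G :=
    { carrier := {g | g ∈ P ∧ g * y * g⁻¹ * y⁻¹ ∈ V}
      mul_mem' := by
        rintro a b ⟨ha, ha'⟩ ⟨hb, hb'⟩
        refine ⟨mul_mem ha hb, ?_⟩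
        have e : a * b * y * (a * b)⁻¹ * y⁻¹ =
          (a * (b * y * b⁻¹ * y⁻¹) * a⁻¹) * (a * y * a⁻¹ * y⁻¹) := by group
        rw [e]
        exact mul_mem (conj_mem hPV ha hb') ha'
      one_mem' := ⟨one_mem _, by simp⟩
      inv_mem' := by
        rintro a ⟨ha, ha'⟩
        refine ⟨inv_mem ha, ?_⟩
        have e : a⁻¹ * y * a⁻¹⁻¹ * y⁻¹ = a⁻¹ * (a * y * a⁻¹ * y⁻¹)⁻¹ * a⁻¹⁻¹ := by group
        rw [e]
        exact conj_mem hPV (inv_mem ha) (inv_mem ha') }
  have hPM : P ≤ M := by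
    rw [← hNS]
    exact sup_le (fun g hg => ⟨hg.1, hg.2 y hyY⟩) fun s hs => ⟨hSP hs, zc_le_zl _ _ (hyS s hs)⟩
  -- `E = [y, Q]`
  have hyS' : y ∈ (S : Subgroup G) := hXS hyX
  let E : Subgroup G := closure {x | ∃ t ∈ o2 P, x = t * y * t⁻¹ * y⁻¹}
  have hEZ : E ≤ Z := by
    rw [closure_le]
    rintro x ⟨t, ht, rfl⟩
    exact hyS t (hQS ht)
  have hPE : P ≤ normalizer (E : Set G) := by
    intro p hp
    apply mem_normalizer_of_cj_le
    rw [cj, MonoidHom.map_closure, closure_le]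
    rintro _ ⟨x, ⟨t, ht, rfl⟩, rfl⟩
    refine subset_closure ⟨p * t * p⁻¹, conj_mem (le_normalizer_o2 P) hp ht, ?_⟩
    have ht' := conj_mem (le_normalizer_o2 P) hp ht
    set t' := p * t * p⁻¹ with ht'd
    obtain ⟨-, h1⟩ := hPM hp
    set v := p * y * p⁻¹ * y⁻¹ with hv
    have h2 : t' * v = v * t' := Blk.comm_o2 hG h t' ht' v h1
    have h3 : t' * y * t'⁻¹ * y⁻¹ ∈ Z := hyS t' (hQS ht')
    have h4 : v * (t' * y * t'⁻¹ * y⁻¹) = t' * y * t'⁻¹ * y⁻¹ * v :=
      (mem_zc.1 h3).2.2 v (hXS (hVX h1))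
    simp only [MulEquiv.toMonoidHom_eq_coe, MonoidHom.coe_coe, MulAut.conj_apply]
    have e1 : p * (t * y * t⁻¹ * y⁻¹) * p⁻¹ = t' * (v * y) * t'⁻¹ * (v * y)⁻¹ := by
      rw [ht'd, hv]; group
    rw [e1]
    have e2 : t' * (v * y) * t'⁻¹ * (v * y)⁻¹ = (t' * v) * y * t'⁻¹ * y⁻¹ * v⁻¹ := by group
    rw [e2, h2]
    calc v * t' * y * t'⁻¹ * y⁻¹ * v⁻¹ = v * (t' * y * t'⁻¹ * y⁻¹) * v⁻¹ := by group
      _ = t' * y * t'⁻¹ * y⁻¹ := by rw [h4]; group
  have hEc := le_centralizer_of_le_zc h.star.toIsPar hEZ hPE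
  have hE1 : ∀ t ∈ o2 P, t * y = y * t := by
    intro t ht
    have h1 : t * y * t⁻¹ * y⁻¹ ∈ E := subset_closure ⟨t, ht, rfl⟩
    have h2 : t * y * t⁻¹ * y⁻¹ ∈ Z ⊓ centralizer (P : Set G) :=
      ⟨hEZ h1, mem_centralizer_iff.2 fun p hp => (mem_centralizer_iff.1 (hEc hp) _ h1).symm⟩
    rw [hcen, mem_bot] at h2
    have h3 := mul_inv_eq_one.1 h2
    calc t * y = t * y * t⁻¹ * t := by group
      _ = y * t := by rw [h3]
  have hyQ : y ∈ o2 P := h.star.isLoc.char2 S hG ⟨hSP hyS', mem_centralizer_iff.2 hE1⟩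
  have hyV : y ∈ V := by
    rw [hV, ← Blk.zc_o2_fam hG h hB hXc hQX hA hAQ]
    exact mem_zc.2 ⟨hyQ, elem_sq hX y hyX, hE1⟩
  apply hyZ
  rw [hZ, ← Blk.cent_eq h (hB.le A hA) hAQ]
  exact ⟨hyV, mem_centralizer_iff.2 fun a ha => hyA A hA a ha⟩

end blk

end Cfsg.Agent.Omega.NO3S.OneLine

end

section


/-!
# LEMMA UNIQ at every level, the main step

`P`, `P'` ∈ P*(S) with `Blk`, no mutual pair, a family `AA` of best offenders of `S` on `U = V_L`, `L = ⟨P, P'⟩`, which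
has a member outside `O₂(P)`, `Ω₁(Z(O₂(P))) = V_P`, `Ω₁(Z(O₂(P'))) = V_{P'}`, `|V_P| = |Z|²`, `C_Z(P) = 1`,
`|V_{P'}| ≤ |Z|²`: then `V_{P'} = V_P`.
-/

set_option autoImplicit false
set_option linter.unusedSectionVars false
set_option linter.unusedVariables false

namespace Cfsg.Agent.Omega.NO3S.OneLine

open Subgroup Cfsg Cfsg.Agent.ZN Cfsg.Agent.ZN.ChoiceBase Cfsg.Agent.Omega.MinPar
open Cfsg.Agent.Omega.SQ1.Bau (mem_AA_of_comm zj_le_AA elem_comm elem_sq mem_sup_comm card_sup_comm mem_sup_norm)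
open Cfsg.Agent.PLocal.ElemAbSup Cfsg.Agent.PLocal.ThompsonJ
open Cfsg.Agent.MinSimple.VModule (zc_le zc_le_zl zl_le le_o2 le_normalizer_zl le_normalizer_o2)

open scoped commutatorElement

universe u

variable {G : Type u} [Group G] [Finite G] {S : Sylow 2 G}

theorem card_sup_relIndex {H N : Subgroup G} (h : H ≤ normalizer (N : Set G)) :
    Nat.card ↥(H ⊔ N) = N.relIndex H * Nat.card N := by
  have h1 := card_sup_norm h
  have h2 := card_mul_relIndex (inf_le_left : H ⊓ N ≤ H)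
  rw [inf_relIndex_left] at h2
  have hp : 0 < Nat.card ↥(H ⊓ N) := Nat.card_pos
  refine Nat.eq_of_mul_eq_mul_right hp ?_
  rw [h1, ← h2]; ring

/-- **The step**: `A` in the family, `A ≰ C(U)`, `|A / C_A(U)|` minimal, `A ≰ O₂(P₁)` imply
`[V₂, O₂(P₁)] ≤ C_Z(P₁)`. -/
theorem step_fam (hG : IsCharacteristicTwoType G) {P₁ P₂ L : Subgroup G} (h₁ : Blk (S : Subgroup G) P₁)
    (h₂ : Blk (S : Subgroup G) P₂) (hL : IsLoc (S : Subgroup G) L) (hP₁ : P₁ ≤ L) (hP₂ : P₂ ≤ L)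
    {AA : Set (Subgroup G)} (hB : BFam (S : Subgroup G) (zl (S : Subgroup G) L) L AA)
    {A : Subgroup G} (hA : A ∈ AA) (hAU : ¬ A ≤ centralizer (zl (S : Subgroup G) L : Set G))
    (hmax : ∀ B ∈ AA, ¬ B ≤ centralizer (zl (S : Subgroup G) L : Set G) →
      (centralizer (zl (S : Subgroup G) L : Set G)).relIndex A ≤
        (centralizer (zl (S : Subgroup G) L : Set G)).relIndex B)
    (hAQ : ¬ A ≤ o2 P₁) :
    ∀ v ∈ zl (S : Subgroup G) P₂, ∀ t ∈ o2 P₁, t * v * t⁻¹ * v⁻¹ ∈ zc (S : Subgroup G) ⊓ centralizer (P₁ : Set G) := by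
  set U := zl (S : Subgroup G) L with hU
  set Z := zc (S : Subgroup G) with hZ
  set V₁ := zl (S : Subgroup G) P₁ with hV₁
  set V₂ := zl (S : Subgroup G) P₂ with hV₂
  have hUL : U ≤ zc (o2 L) := hL.zl_le S hG
  have hUe : IsElementaryAbelian 2 U := isElementaryAbelian_mono (zc_elem (o2 L)) hUL
  have hUS : U ≤ (S : Subgroup G) := (hUL.trans (zc_le _)).trans (hL.o2_le S)
  have hV₁U : V₁ ≤ U := zl_mono _ hP₁
  have hV₂U : V₂ ≤ U := zl_mono _ hP₂
  have hQS := o2_le S h₁.star.toIsPar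
  have hAS := hB.le A hA
  have hLU : L ≤ normalizer (U : Set G) := le_normalizer_zl _ _
  have hcn : ∀ B : Subgroup G, B ≤ (S : Subgroup G) → B ≤ normalizer (centralizer (U : Set G) : Set G) := by
    intro B hBS b hb
    apply mem_normalizer_of_cj_le
    rw [cj_centralizer, cj_eq_of_mem_normalizer (hLU (hL.le (hBS hb)))]
  -- `A ∩ C(U) ≤ A ∩ Q₁`
  have hCQ : A ⊓ centralizer (U : Set G) ≤ A ⊓ o2 P₁ := by
    refine le_inf inf_le_left ?_
    rw [← IsParS.inf_centralizer S hG h₁.star]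
    exact inf_le_inf hAS (centralizer_le hV₁U)
  obtain ⟨hcut, hVU⟩ := Blk.fam_cut hG h₁ hB (elem_comm hUe) hV₁U hA hAQ
  -- `A ∩ Q₁ ≤ C(U)`
  have hA₁U : A ⊓ o2 P₁ ≤ centralizer (U : Set G) := by
    by_contra hcon
    obtain ⟨B', hB', h3⟩ := hB.cut A hA (A ⊓ o2 P₁) hCQ inf_le_left hcut
    have h4 : ¬ B' ≤ centralizer (U : Set G) := by
      intro h5
      apply hcon
      rw [sup_eq_right.2 h5] at h3
      rw [h3]
      exact le_sup_left
    have h5 := hmax B' hB' h4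
    have h6 := card_sup_relIndex (hcn B' (hB.le B' hB'))
    have h7 := card_sup_relIndex (hcn (A ⊓ o2 P₁) (inf_le_left.trans hAS))
    rw [h3, h7] at h6
    have hp : 0 < Nat.card (centralizer (U : Set G)) := Nat.card_pos
    rw [← Nat.eq_of_mul_eq_mul_right hp h6] at h5
    -- `|A| ≤ |A ∩ Q₁|`
    have h8 := card_mul_relIndex (inf_le_left : A ⊓ centralizer (U : Set G) ≤ A)
    have h9 := card_mul_relIndex (inf_le_left : (A ⊓ o2 P₁) ⊓ centralizer (U : Set G) ≤ A ⊓ o2 P₁)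
    rw [inf_relIndex_left] at h8 h9
    have h10 : (A ⊓ o2 P₁) ⊓ centralizer (U : Set G) = A ⊓ centralizer (U : Set G) :=
      le_antisymm (inf_le_inf_right _ inf_le_left) (le_inf hCQ inf_le_right)
    rw [h10] at h9
    have h11 : Nat.card A ≤ Nat.card ↥(A ⊓ o2 P₁) := by
      rw [← h8, ← h9]
      exact Nat.mul_le_mul_left _ h5
    have h12 : A ⊓ o2 P₁ = A := Subgroup.eq_of_le_of_card_ge inf_le_left h11
    exact hAQ (inf_eq_left.1 h12)
  have hAQC : A ⊓ o2 P₁ = A ⊓ centralizer (U : Set G) :=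
    le_antisymm (le_inf inf_le_left hA₁U) hCQ
  -- `U = V₁ C_U(A)`
  have hsplit : V₁ ⊔ (U ⊓ centralizer (A : Set G)) = U := by
    rw [hVU]
    refine inf_eq_left.2 fun u hu => mem_centralizer_iff.2 fun a ha => ?_
    exact (mem_centralizer_iff.1 (hA₁U ha) u hu).symm
  -- the elements of `P₁` which centralise `U / V₁`
  have hP₁U : P₁ ≤ normalizer (U : Set G) := hP₁.trans hLU
  have hP₁V : P₁ ≤ normalizer (V₁ : Set G) := le_normalizer_zl _ _
  let N : Subgroup G :=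
    { carrier := {g | g ∈ P₁ ∧ ∀ u ∈ U, g * u * g⁻¹ * u⁻¹ ∈ V₁}
      mul_mem' := by
        rintro a b ⟨ha, ha'⟩ ⟨hb, hb'⟩
        refine ⟨mul_mem ha hb, fun y hy => ?_⟩
        have e : a * b * y * (a * b)⁻¹ * y⁻¹ =
          (a * (b * y * b⁻¹ * y⁻¹) * a⁻¹) * (a * y * a⁻¹ * y⁻¹) := by group
        rw [e]
        exact mul_mem (conj_mem hP₁V ha (hb' y hy)) (ha' y hy)
      one_mem' := ⟨one_mem _, fun y _ => by simp⟩
      inv_mem' := by
        rintro a ⟨ha, ha'⟩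
        refine ⟨inv_mem ha, fun y hy => ?_⟩
        have e : a⁻¹ * y * a⁻¹⁻¹ * y⁻¹ = a⁻¹ * (a * y * a⁻¹ * y⁻¹)⁻¹ * a⁻¹⁻¹ := by group
        rw [e]
        exact conj_mem hP₁V (inv_mem ha) (inv_mem (ha' y hy)) }
  have hNP : N ≤ P₁ := fun g hg => hg.1
  have hPN : P₁ ≤ normalizer (N : Set G) := by
    intro p hp
    apply mem_normalizer_of_cj_le
    intro x hx
    rw [mem_cj] at hx
    obtain ⟨hx1, hx2⟩ := hx
    refine ⟨?_, fun u hu => ?_⟩
    · have := mul_mem (mul_mem hp hx1) (inv_mem hp)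
      have e : p * (p⁻¹ * x * p) * p⁻¹ = x := by group
      rwa [e] at this
    · have h1 : p⁻¹ * u * p ∈ U := by
        have := conj_mem hP₁U (inv_mem hp) hu
        rwa [inv_inv] at this
      have h2 := conj_mem hP₁V hp (hx2 _ h1)
      have e : p * (p⁻¹ * x * p * (p⁻¹ * u * p) * (p⁻¹ * x * p)⁻¹ * (p⁻¹ * u * p)⁻¹) * p⁻¹ =
          x * u * x⁻¹ * u⁻¹ := by group
      rwa [e] at h2
  have hAN : A ≤ N := by
    intro a ha
    refine ⟨h₁.star.le (hAS ha), fun u hu => ?_⟩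
    rw [← hsplit] at hu
    obtain ⟨v, hv, w, hw, rfl⟩ := mem_sup_comm (A := V₁) (B := U ⊓ centralizer (A : Set G))
      (fun v hv a ha => elem_comm hUe v (hV₁U hv) a ha.1) hu
    have e1 : a * w = w * a := mem_centralizer_iff.1 hw.2 a ha
    have e2 : a * (v * w) * a⁻¹ * (v * w)⁻¹ = a * v * a⁻¹ * v⁻¹ := by
      have e3 : a * (v * w) * a⁻¹ * (v * w)⁻¹ = a * v * (w * a⁻¹ * w⁻¹) * v⁻¹ := by group
      have e4 : w * a⁻¹ * w⁻¹ = a⁻¹ := by
        have : w * a⁻¹ = a⁻¹ * w := by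
          calc w * a⁻¹ = a⁻¹ * (a * w) * a⁻¹ := by group
            _ = a⁻¹ * w := by rw [e1]; group
        rw [this]; group
      rw [e3, e4]
    rw [e2]
    exact mul_mem (conj_mem hP₁V (h₁.star.le (hAS ha)) hv) (inv_mem hv)
  have hNS : N ⊔ (S : Subgroup G) = P₁ := by
    rcases h₁.star.toIsPar.sup_eq_or_inf_le S hNP hPN with h | h
    · exact h
    · exact absurd ((le_inf hAS hAN).trans h) hAQ
  -- `W = V₁ V₂` is normal in `P₁`
  have hW : P₁ ≤ normalizer ((V₁ ⊔ V₂ : Subgroup G) : Set G) := by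
    have hc : ∀ v ∈ V₁, ∀ w ∈ V₂, v * w = w * v := fun v hv w hw => elem_comm hUe v (hV₁U hv) w (hV₂U hw)
    rw [← hNS]
    refine sup_le (fun g hg => ?_) (fun s hs => ?_)
    · apply mem_normalizer_of_cj_le
      rw [cj, Subgroup.map_sup]
      refine sup_le ?_ ?_
      · exact (cj_eq_of_mem_normalizer (hP₁V hg.1)).le.trans le_sup_left
      · rintro _ ⟨w, hw, rfl⟩
        simp only [MulEquiv.toMonoidHom_eq_coe, MonoidHom.coe_coe, MulAut.conj_apply]
        have h1 := hg.2 w (hV₂U hw)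
        have h2 := mul_mem (mem_sup_left h1 : _ ∈ V₁ ⊔ V₂) (mem_sup_right hw : w ∈ V₁ ⊔ V₂)
        rwa [inv_mul_cancel_right] at h2
    · apply mem_normalizer_of_cj_le
      rw [cj, Subgroup.map_sup]
      exact sup_le_sup (cj_eq_of_mem_normalizer (hP₁V (h₁.star.le hs))).le
        (cj_eq_of_mem_normalizer ((le_normalizer_zl _ _ : P₂ ≤ normalizer (V₂ : Set G)) (h₂.star.le hs))).le
  -- `E = [V₁ V₂, Q₁] ≤ Z`
  let E : Subgroup G := ⁅V₁ ⊔ V₂, o2 P₁⁆
  have hPE : P₁ ≤ normalizer (E : Set G) := by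
    intro p hp
    apply mem_normalizer_of_cj_le
    rw [cj, Subgroup.map_commutator]
    exact commutator_mono (cj_eq_of_mem_normalizer (hW hp)).le
      (cj_eq_of_mem_normalizer (le_normalizer_o2 P₁ hp)).le
  have hEZ : E ≤ Z := by
    rw [commutator_le]
    intro w hw t ht
    obtain ⟨v, hv, w', hw', rfl⟩ := mem_sup_comm (A := V₁) (B := V₂)
      (fun v hv w hw => elem_comm hUe v (hV₁U hv) w (hV₂U hw)) hw
    have h1 : t * v = v * t := Blk.comm_o2 hG h₁ t ht v hv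
    have h2 := h₂.comm t (hQS ht) w' hw'
    have h3 : v * (t * w' * t⁻¹ * w'⁻¹) = t * w' * t⁻¹ * w'⁻¹ * v := by
      have h4 := (mem_zc.1 h2).2.2 v ((hV₁U hv |> fun h => hUS h))
      exact h4
    rw [commutatorElement_def]
    have e : v * w' * t * (v * w')⁻¹ * t⁻¹ = (v * (t * w' * t⁻¹ * w'⁻¹) * v⁻¹)⁻¹ := by
      have e1 : (v * (t * w' * t⁻¹ * w'⁻¹) * v⁻¹)⁻¹ = v * w' * t * w'⁻¹ * (v * t)⁻¹ := by group
      rw [e1, ← h1]
      group
    rw [e, h3]
    rw [mul_inv_cancel_right]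
    exact inv_mem h2
  have hEc := le_centralizer_of_le_zc h₁.star.toIsPar hEZ hPE
  intro v hv t ht
  have h1 : t * v * t⁻¹ * v⁻¹ ∈ E := by
    have h2 : ⁅v, t⁆ ∈ E := commutator_mem_commutator (mem_sup_right hv) ht
    have h3 := inv_mem h2
    rwa [commutatorElement_inv, commutatorElement_def] at h3
  exact ⟨hEZ h1, mem_centralizer_iff.2 fun p hp => (mem_centralizer_iff.1 (hEc hp) _ h1).symm⟩

/-- **LEMMA OL (one line)**, for a family: `V_{P'} = V_P`. -/
theorem one_line_fam (hG : IsCharacteristicTwoType G) (hF : ¬ FF (S : Subgroup G)) {P P' : Subgroup G}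
    (h : Blk (S : Subgroup G) P) (h' : Blk (S : Subgroup G) P')
    {AA : Set (Subgroup G)} (hB : BFam (S : Subgroup G) (zl (S : Subgroup G) (P ⊔ P')) (P ⊔ P') AA)
    (hJ : ∃ A ∈ AA, ¬ A ≤ o2 P)
    (hT : zc (o2 P) = zl (S : Subgroup G) P) (hT' : zc (o2 P') = zl (S : Subgroup G) P')
    (hsq : Nat.card (zl (S : Subgroup G) P) = Nat.card (zc (S : Subgroup G)) ^ 2)
    (hcen : zc (S : Subgroup G) ⊓ centralizer (P : Set G) = ⊥)
    (hle : Nat.card (zl (S : Subgroup G) P') ≤ Nat.card (zc (S : Subgroup G)) ^ 2) :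
    zl (S : Subgroup G) P' = zl (S : Subgroup G) P := by
  have hL := sup_isLoc hG hF h.star h'.star
  obtain ⟨A₀, hA₀, hA₀Q⟩ := hJ
  set L := P ⊔ P' with hLdef
  set U := zl (S : Subgroup G) L with hU
  have hpZ : 0 < Nat.card (zc (S : Subgroup G)) := Nat.card_pos
  -- members of the family not centralising `U`
  let s : Set (Subgroup G) := {B | B ∈ AA ∧ ¬ B ≤ centralizer (U : Set G)}
  have hne : s.Nonempty := by
    refine ⟨A₀, hA₀, fun h1 => hA₀Q ?_⟩
    rw [← IsParS.inf_centralizer S hG h.star]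
    exact le_inf (hB.le A₀ hA₀) (h1.trans (centralizer_le (zl_mono _ le_sup_left)))
  obtain ⟨B, hBs, hmax⟩ := Set.exists_min_image s (fun B => (centralizer (U : Set G)).relIndex B)
    (Set.toFinite s) hne
  have hLU : L ≤ normalizer (U : Set G) := le_normalizer_zl _ _
  -- a conjugate outside `O₂(P) ∩ O₂(P')`
  obtain ⟨l, hl, hlS, hlQ⟩ : ∃ l ∈ L, cj l B ≤ (S : Subgroup G) ∧ ¬ cj l B ≤ o2 P ⊓ o2 P' := by
    by_contra hcon
    push Not at hcon
    have key : ∀ l ∈ L, ∀ m ∈ L, cj m B ≤ (S : Subgroup G) → cj (l * m) B ≤ (S : Subgroup G) := by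
      intro l hl
      rw [hLdef, sup_eq_closure] at hl
      induction hl using closure_induction with
      | mem x hx =>
        intro m hm h1
        have h2 := hcon m hm h1
        rw [← cj_cj]
        rcases hx with hx | hx
        · have h3 := cj_mono x (h2.trans inf_le_left)
          rw [cj_eq_of_mem_normalizer (le_normalizer_o2 P hx)] at h3
          exact h3.trans (o2_le S h.star.toIsPar)
        · have h3 := cj_mono x (h2.trans inf_le_right)
          rw [cj_eq_of_mem_normalizer (le_normalizer_o2 P' hx)] at h3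
          exact h3.trans (o2_le S h'.star.toIsPar)
      | one => intro m hm h1; rwa [one_mul]
      | mul x y hx hy ihx ihy =>
        intro m hm h1
        rw [mul_assoc]
        refine ihx (y * m) (mul_mem ?_ hm) (ihy m hm h1)
        rwa [hLdef, sup_eq_closure]
      | inv x hx ih =>
        intro m hm h1
        -- `x⁻¹` is a power of `x`
        obtain ⟨n, hn⟩ : ∃ n : ℕ, x⁻¹ = x ^ n := by
          refine ⟨orderOf x - 1, ?_⟩
          rw [inv_eq_iff_mul_eq_one, ← pow_succ', Nat.sub_add_cancel (orderOf_pos x), pow_orderOf_eq_one]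
        rw [hn]
        have hxL : x ∈ L := by rwa [hLdef, sup_eq_closure]
        clear hn
        induction n with
        | zero => rwa [pow_zero, one_mul]
        | succ n ihn =>
          rw [pow_succ', mul_assoc]
          exact ih _ (mul_mem (pow_mem hxL n) hm) ihn
    -- so the normal closure of `B` in `L` is a 2-group
    let N : Subgroup G := ⨆ l : L, cj (l : G) B
    have hNS : N ≤ (S : Subgroup G) := iSup_le fun l => by
      have := key l l.2 1 (one_mem _) (by rw [cj_one]; exact hB.le B hBs.1)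
      rwa [mul_one] at this
    have hLN : L ≤ normalizer (N : Set G) := by
      intro g hg
      apply mem_normalizer_of_cj_le
      show Subgroup.map _ (⨆ l : L, cj (l : G) B) ≤ _
      rw [Subgroup.map_iSup]
      refine iSup_le fun l => ?_
      have h1 : Subgroup.map (MulAut.conj g).toMonoidHom (cj (l : G) B) = cj (g * l) B := cj_cj g l B
      rw [h1]
      exact le_iSup (fun l : L => cj (l : G) B) ⟨g * l, mul_mem hg l.2⟩
    have hN2 : N ≤ o2 L := le_o2 (hNS.trans hL.le) (S.isPGroup'.to_le hNS) hLN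
    apply hBs.2
    have h1 : B ≤ N := by
      have := le_iSup (fun l : L => cj (l : G) B) 1
      rwa [OneMemClass.coe_one, cj_one] at this
    refine (h1.trans hN2).trans fun x hx => mem_centralizer_iff.2 fun u hu => ?_
    exact ((mem_zc.1 (hL.zl_le S hG hu)).2.2 x hx).symm
  -- `A = B^l`
  set A := cj l B with hAdef
  have hA : A ∈ AA := hB.conj B hBs.1 l hl hlS
  have hUl : cj l U = U := cj_eq_of_mem_normalizer (hLU hl)
  have hcUl : cj l (centralizer (U : Set G)) = centralizer (U : Set G) := by rw [cj_centralizer, hUl]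
  have hAU : ¬ A ≤ centralizer (U : Set G) := by
    intro h1
    apply hBs.2
    rw [hAdef, cj_le_iff] at h1
    have h2 : cj l⁻¹ (centralizer (U : Set G)) = centralizer (U : Set G) := by
      nth_rewrite 1 [← hcUl]
      rw [cj_inv_cj]
    rwa [h2] at h1
  have hmax' : ∀ C ∈ AA, ¬ C ≤ centralizer (U : Set G) →
      (centralizer (U : Set G)).relIndex A ≤ (centralizer (U : Set G)).relIndex C := by
    intro C hC hC'
    have h1 := hmax C ⟨hC, hC'⟩
    have h2 : (centralizer (U : Set G)).relIndex A = (centralizer (U : Set G)).relIndex B := by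
      have e1 := card_mul_relIndex (inf_le_left : A ⊓ centralizer (U : Set G) ≤ A)
      have e2 := card_mul_relIndex (inf_le_left : B ⊓ centralizer (U : Set G) ≤ B)
      rw [inf_relIndex_left] at e1 e2
      have e3 : A ⊓ centralizer (U : Set G) = cj l (B ⊓ centralizer (U : Set G)) := by
        rw [cj_inf, hcUl]
      rw [e3, card_cj, hAdef, card_cj, ← e2] at e1
      exact Nat.eq_of_mul_eq_mul_left Nat.card_pos e1
    rw [h2]
    exact h1
  have hVc : ∀ v ∈ zl (S : Subgroup G) P, ∀ w ∈ zl (S : Subgroup G) P, v * w = w * v :=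
    elem_comm (Blk.zl_elem hG h)
  have hcardP := h.card
  have hcardP' := h'.card
  have hidx : (o2 P).relIndex (S : Subgroup G) = Nat.card (zc (S : Subgroup G)) := by
    rw [hsq, pow_two] at hcardP
    exact (Nat.eq_of_mul_eq_mul_left hpZ hcardP).symm
  have hidx' : (o2 P').relIndex (S : Subgroup G) ≤ Nat.card (zc (S : Subgroup G)) := by
    rw [hcardP', pow_two] at hle
    exact Nat.le_of_mul_le_mul_left hle hpZ
  rcases not_and_or.1 (fun hc : A ≤ o2 P ∧ A ≤ o2 P' => hlQ (le_inf hc.1 hc.2)) with hAQ | hAQ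
  · -- `P₁ = P`
    have h1 := step_fam hG h h' hL le_sup_left le_sup_right hB hA hAU hmax' hAQ
    have h2 : zl (S : Subgroup G) P' ≤ zl (S : Subgroup G) P := by
      have h3 : ∀ v ∈ zl (S : Subgroup G) P', ∀ t ∈ o2 P, t * v = v * t := by
        intro v hv t ht
        have h4 := h1 v hv t ht
        rw [hcen, mem_bot] at h4
        have h5 := mul_inv_eq_one.1 h4
        calc t * v = t * v * t⁻¹ * t := by group
          _ = v * t := by rw [h5]
      intro v hv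
      rw [← hT]
      have hvS : v ∈ (S : Subgroup G) := o2_le S h'.star.toIsPar (Blk.zl_le_o2 hG h' hv)
      have hvQ : v ∈ o2 P := h.star.isLoc.char2 S hG ⟨h.star.le hvS, mem_centralizer_iff.2 fun t ht => h3 v hv t ht⟩
      exact mem_zc.2 ⟨hvQ, elem_sq (Blk.zl_elem hG h') v hv, fun t ht => h3 v hv t ht⟩
    obtain ⟨v', hv', hv'Z⟩ := Blk.exists_not_zc h'
    have hQ : o2 P' = o2 P := by
      apply le_antisymm
      · intro t ht
        exact Blk.mem_o2_of_comm hG h (o2_le S h'.star.toIsPar ht) (h2 hv') hv'Z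
          (Blk.comm_o2 hG h' t ht v' hv')
      · rw [← IsParS.inf_centralizer S hG h.star, ← IsParS.inf_centralizer S hG h'.star]
        exact inf_le_inf_left _ (centralizer_le h2)
    refine Subgroup.eq_of_le_of_card_ge h2 ?_
    rw [hcardP, hcardP', hQ]
  · -- `P₁ = P'`
    have h1 := step_fam hG h' h hL le_sup_right le_sup_left hB hA hAU hmax' hAQ
    have hQQ : o2 P' ≤ o2 P := by
      by_contra hcon
      obtain ⟨g, hg, hgQ⟩ := SetLike.not_le_iff_exists.1 hcon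
      apply h'.star.not_zc
      refine le_trans ?_ (centralizer_le_normalizer _)
      intro p hp
      rw [mem_centralizer_iff]
      intro z hz
      obtain ⟨v, hv, rfl⟩ := Blk.exists_comm h hVc hsq (o2_le S h'.star.toIsPar hg) hgQ hz
      exact (mem_centralizer_iff.1 (h1 v hv g hg).2 p hp).symm
    have hQ : o2 P' = o2 P := by
      refine Subgroup.eq_of_le_of_card_ge hQQ ?_
      have e1 := card_mul_relIndex (o2_le S h.star.toIsPar)
      have e2 := card_mul_relIndex (o2_le S h'.star.toIsPar)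
      rw [hidx] at e1
      have e3 : Nat.card (o2 P) * Nat.card (zc (S : Subgroup G)) ≤ Nat.card (o2 P') * Nat.card (zc (S : Subgroup G)) := by
        rw [e1, ← e2]
        exact Nat.mul_le_mul_left _ hidx'
      exact Nat.le_of_mul_le_mul_right e3 hpZ
    rw [← hT, ← hT', hQ]

end Cfsg.Agent.Omega.NO3S.OneLine

end
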