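import Cfsg.Agent.Mrg.Omega.NO3S.OneLine.Nat

section


/-!
# LEMMA OL: the natural module `V_P` with `|Z| = q`

`n1_of_natP` : `V_P` natural and `|Z| = q` give `N1 S P ⊥ q`.
-/

set_option autoImplicit false
set_option linter.unusedSectionVars false
set_option linter.unusedVariables false

namespace Cfsg.Agent.Omega.NO3S.OneLine

open Subgroup Cfsg Cfsg.Agent.ZN Cfsg.Agent.ZN.ChoiceBase Cfsg.Agent.Omega.MinPar
open Cfsg.Agent.ZN.ChoiceSit (Syl o2_le_syl)
open Cfsg.Agent.Omega.SQ1.Bau (mem_AA_of_comm zj_le_AA elem_comm elem_sq)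
open Cfsg.Agent.PLocal.ElemAbSup Cfsg.Agent.PLocal.ThompsonJ
open Cfsg.Agent.MinSimple.VModule (zc_le zc_le_zl zl_le le_o2 le_normalizer_zl le_normalizer_o2)
open Cfsg.Agent.Omega.SQ1.FFOne Cfsg.Agent.Lib.SL2Mat
open Cfsg.Agent.Omega.NatPair (ap ap_zero' ap_one' ap_one ap_mul ap_add ap_smul ext2 NatMod ap_inv_ap ap_ap_inv exists_ap_e
  ap_up_e)

universe u

variable {G : Type u} [Group G] {F : Type*} [Field F] {V P : Subgroup G}

/-- `V` in `↥P` -/
def modP (N : NatP F V P) (hVP : V ≤ P) : NatMod F (V.subgroupOf P) where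
  e x := ⟨N.e x, hVP ((N.mem_iff _).2 ⟨x, rfl⟩)⟩
  e_add x y := Subtype.ext (N.e_add x y)
  e_inj x y h := N.e_inj (congrArg Subtype.val h)
  mem_iff g := by
    rw [mem_subgroupOf, N.mem_iff]
    constructor
    · rintro ⟨x, hx⟩
      exact ⟨x, Subtype.ext hx⟩
    · rintro ⟨x, hx⟩
      exact ⟨x, congrArg Subtype.val hx⟩
  lift A := by
    obtain ⟨g, hg, h1⟩ := N.lift A
    exact ⟨⟨g, hg⟩, fun x => Subtype.ext (h1 x)⟩
  norm g _ h A hA := by
    obtain ⟨B, hB⟩ := N.norm g g.2 h A fun x => congrArg Subtype.val (hA x)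
    exact ⟨B, fun x => Subtype.ext (hB x)⟩

/-- the coordinates of an element of `V` -/
noncomputable def co (N : NatP F V P) (D : Matrix.SpecialLinearGroup (Fin 2) F) (g : G) : Fin 2 → F :=
  open Classical in if h : ∃ x, N.e x = g then ap D⁻¹ h.choose else 0

theorem co_e (N : NatP F V P) (D : Matrix.SpecialLinearGroup (Fin 2) F) (x : Fin 2 → F) :
    co N D (N.e x) = ap D⁻¹ x := by
  have h : ∃ y, N.e y = N.e x := ⟨x, rfl⟩
  rw [co, dif_pos h, N.e_inj h.choose_spec]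

theorem e_zero (N : NatP F V P) : N.e 0 = 1 := by
  have := N.e_add 0 0
  rw [add_zero] at this
  exact left_eq_mul.1 this

/-- the natural section with the basis `D` -/
noncomputable def secP (N : NatP F V P) (hPV : P ≤ normalizer (V : Set G))
    (D : Matrix.SpecialLinearGroup (Fin 2) F) : NatSec F P V ⊥ where
  π := co N D
  map_mul v hv w hw := by
    obtain ⟨x, rfl⟩ := (N.mem_iff v).1 hv
    obtain ⟨y, rfl⟩ := (N.mem_iff w).1 hw
    rw [← N.e_add, co_e, co_e, co_e, ap_add]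
  V0V := bot_le
  ker v hv := by
    obtain ⟨x, rfl⟩ := (N.mem_iff v).1 hv
    rw [co_e, mem_bot]
    constructor
    · intro h
      have h1 : ap D (ap D⁻¹ x) = ap D 0 := by rw [h]
      have h0 : ap D (0 : Fin 2 → F) = 0 := by
        have := ap_smul D 0 (0 : Fin 2 → F)
        rwa [zero_smul, zero_smul] at this
      rw [ap_ap_inv, h0] at h1
      rw [h1, e_zero]
    · intro h
      have h1 : x = 0 := N.e_inj (by rw [h, e_zero])
      rw [h1]
      have := ap_smul D⁻¹ 0 (0 : Fin 2 → F)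
      rwa [zero_smul, zero_smul] at this
  surj x := ⟨N.e (ap D x), (N.mem_iff _).2 ⟨_, rfl⟩, by rw [co_e, ap_inv_ap]⟩
  Vn h hh v hv := (mem_normalizer_iff.1 (hPV hh) v).1 hv
  V0n h hh v hv := by
    rw [mem_bot] at hv ⊢
    rw [hv]; group
  lift A := by
    obtain ⟨g, hg, h1⟩ := N.lift (D * A * D⁻¹)
    refine ⟨g, hg, fun v hv => ?_⟩
    obtain ⟨x, rfl⟩ := (N.mem_iff v).1 hv
    rw [h1, co_e, co_e, ap_mul, ap_mul, ap_inv_ap]
  norm g hg h hh A hA := by
    have h1 : ∀ x, h * N.e x * h⁻¹ = N.e (ap (D * A * D⁻¹) x) := by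
      intro x
      have hx : N.e x ∈ V := (N.mem_iff _).2 ⟨x, rfl⟩
      obtain ⟨y, hy⟩ := (N.mem_iff _).1 ((mem_normalizer_iff.1 (hPV hh) _).1 hx)
      have h2 := hA _ hx
      rw [← hy, co_e, co_e] at h2
      rw [← hy]
      congr 1
      rw [ap_mul, ap_mul, ← h2, ap_ap_inv]
    obtain ⟨B, hB⟩ := N.norm g hg h _ h1
    refine ⟨D⁻¹ * B * D, fun v hv => ?_⟩
    obtain ⟨x, rfl⟩ := (N.mem_iff v).1 hv
    rw [hB, co_e, co_e, ap_mul, ap_mul, ap_ap_inv]

theorem secP_e (N : NatP F V P) (hPV : P ≤ normalizer (V : Set G)) (D : Matrix.SpecialLinearGroup (Fin 2) F)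
    (x : Fin 2 → F) : (secP N hPV D).π (N.e x) = ap D⁻¹ x := co_e N D x

variable [Finite G] {S : Sylow 2 G}

/-- **`V_P` natural, `|Z| = q`.** -/
theorem n1_of_natP {F : Type} [Field F] [Finite F] [CharP F 2] (hG : IsCharacteristicTwoType G)
    (hP : IsParS (S : Subgroup G) P) (hm : MinH P (S : Subgroup G)) (N : NatP F (zl (S : Subgroup G) P) P)
    (hc : Nat.card (zc (S : Subgroup G)) = Nat.card F) : N1 (S : Subgroup G) P ⊥ (Nat.card F) := by
  have hSP : (S : Subgroup G) ≤ P := hm.syl.1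
  have hVP : zl (S : Subgroup G) P ≤ P := (SQ1.VOf.MinH.zl_le_o2 hm).trans ((o2_le_syl hm.syl).trans hSP)
  have hPV : P ≤ normalizer (zl (S : Subgroup G) P : Set G) := le_normalizer_zl _ _
  have hZV : zc (S : Subgroup G) ≤ zl (S : Subgroup G) P := zc_le_zl _ _
  let M := modP N hVP
  have hPn : ∀ g : P, g ∈ normalizer (((zl (S : Subgroup G) P).subgroupOf P : Subgroup P) : Set P) := by
    intro g
    rw [mem_normalizer_iff]
    intro x
    rw [mem_subgroupOf, mem_subgroupOf]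
    exact mem_normalizer_iff.1 (hPV g.2) x
  -- a fixed vector
  obtain ⟨z, hz, hz1⟩ : ∃ z ∈ zc (S : Subgroup G), z ≠ 1 := by
    by_contra hcon
    push Not at hcon
    have h1 : zc (S : Subgroup G) = ⊥ := eq_bot_iff.2 fun z hz => mem_bot.2 (hcon z hz)
    rw [h1, Subgroup.card_bot] at hc
    have : 1 < Nat.card F := Finite.one_lt_card
    omega
  obtain ⟨w, rfl⟩ := (N.mem_iff z).1 (hZV hz)
  have hw : w ≠ 0 := by
    rintro rfl
    exact hz1 (e_zero N)
  let S' : Sylow 2 P := S.subtype hSP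
  have hS' : ∀ s : P, s ∈ (S' : Subgroup P) ↔ (s : G) ∈ (S : Subgroup G) := fun s => by
    rw [Sylow.coe_subtype, mem_subgroupOf]
  have hSn : (S' : Subgroup P) ≤ normalizer (((zl (S : Subgroup G) P).subgroupOf P : Subgroup P) : Set P) :=
    fun s _ => hPn s
  have hfixe : ∀ s ∈ (S' : Subgroup P), M.act s w = w := by
    intro s hs
    rw [← M.commute_e (hPn s)]
    apply Subtype.ext
    exact (mem_zc.1 hz).2.2 s ((hS' s).1 hs)
  have hSw : (S' : Subgroup P) ≤ normalizer ((M.line w : Subgroup P) : Set P) := by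
    intro s hs
    have h1 := M.cj_line (hPn s) w
    rw [hfixe s hs] at h1
    rw [mem_normalizer_iff_cj]
    exact h1
  -- `Z` is the line
  have hle := M.cent_le_of_sylow S' hSn hw hSw
  have hZl : (zc (S : Subgroup G)).subgroupOf P ≤ M.line w := by
    intro v hv
    rw [mem_subgroupOf] at hv
    apply hle
    refine ⟨mem_centralizer_iff.2 fun s hs => ?_, mem_subgroupOf.2 (hZV hv)⟩
    apply Subtype.ext
    exact (mem_zc.1 hv).2.2 s ((hS' s).1 hs)
  have hZl' : (zc (S : Subgroup G)).subgroupOf P = M.line w := by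
    refine Subgroup.eq_of_le_of_card_ge hZl ?_
    rw [M.card_line hw, Nat.card_congr (Subgroup.subgroupOfEquivOfLe (hZV.trans hVP)).toEquiv, hc]
  obtain ⟨D, hD⟩ := exists_ap_e hw
  refine n1_of hP hm (secP N hPV D) ?_ ?_
  · intro v hv h1
    obtain ⟨x, rfl⟩ := (N.mem_iff v).1 hv
    rw [secP_e] at h1
    have h2 : M.e x ∈ M.line w := by
      rw [M.e_mem_line]
      refine ⟨ap D⁻¹ x 0, ?_⟩
      have h3 : ap D⁻¹ x = ap D⁻¹ x 0 • ![1, 0] := by
        apply ext2
        · simp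
        · rw [h1]; simp
      have h4 : ap D (ap D⁻¹ x) = ap D (ap D⁻¹ x 0 • ![1, 0]) := congrArg (ap D) h3
      rwa [ap_ap_inv, ap_smul, hD] at h4
    rw [← hZl', mem_subgroupOf] at h2
    exact h2
  · intro b
    have hB : ap (D * up b * D⁻¹) w = w := by
      rw [← hD, ap_mul, ap_mul, ap_inv_ap, ap_up_e]
    obtain ⟨s, hs, hs1⟩ := M.full_of_sylow S' hSn hw hSw hB
    refine ⟨s, (hS' s).1 hs, fun v hv => ?_⟩
    obtain ⟨x, rfl⟩ := (N.mem_iff v).1 hv
    have h1 : (s : G) * N.e x * (s : G)⁻¹ = N.e (ap (D * up b * D⁻¹) x) := congrArg Subtype.val (hs1 x)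
    rw [h1, secP_e, secP_e, ap_mul, ap_mul, ap_inv_ap]

end Cfsg.Agent.Omega.NO3S.OneLine

end

section


/-!
# LEMMA OL (LEMMA UNIQ), final form

`P ∈ P*(S)` with `J(S) ≰ O₂(P)`, `V_P` a natural `SL₂(q)`-module, `|Z| = q`, no mutual pair, and the FF theorem:
`V_R = V_P` and `C_Z(R) = 1` for all `R ∈ P*(S)` (`uniq`).
-/

set_option autoImplicit false
set_option linter.unusedSectionVars false
set_option linter.unusedVariables false

namespace Cfsg.Agent.Omega.NO3S.OneLine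

open Subgroup Cfsg Cfsg.Agent.ZN Cfsg.Agent.ZN.ChoiceBase Cfsg.Agent.Omega.MinPar
open Cfsg.Agent.ZN.ChoiceSit (Syl o2_le_syl)
open Cfsg.Agent.Omega.SQ1.Bau (mem_AA_of_comm zj_le_AA elem_comm elem_sq)
open Cfsg.Agent.Omega.SQ1.BauK (V1 mem_V1)
open Cfsg.Agent.PLocal.ElemAbSup Cfsg.Agent.PLocal.ThompsonJ
open Cfsg.Agent.MinSimple.VModule (zc_le zc_le_zl zl_le le_o2 le_normalizer_zl le_normalizer_o2)
open Cfsg.Agent.Omega.SQ1.FFOne Cfsg.Agent.Lib.SL2Mat
open Cfsg.Agent.Omega.FFThm (NatK SymK Off NoOver)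
open Cfsg.Agent.Omega.FrameFF (cv)
open Cfsg.Agent.Omega.NatPair (ap ap_zero' ap_one' ap_one ap_mul ap_add ap_smul ext2 NatMod ap_inv_ap ap_ap_inv exists_ap_e
  ap_up_e)

universe u

variable {G : Type u} [Group G]

/-- one summand: the natural section -/
noncomputable def secK {F : Type} [Field F] {T H : Subgroup G}
    (N : NatK F T H (zl T H) (cv T H) 1) : NatSec F H (zl T H) (cv T H) where
  π g := N.e g 0
  map_mul := by
    intro v hv w hw
    rw [N.mul v hv w hw]; rfl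
  V0V := SQ1.FFOf.cv_le
  ker := by
    intro v hv
    rw [← N.ker v hv]
    constructor
    · intro h0
      funext i
      rw [Subsingleton.elim i 0, h0]
      rfl
    · intro h0
      rw [h0]
      rfl
  surj := by
    intro x
    obtain ⟨v, hv, hx⟩ := N.surj fun _ => x
    exact ⟨v, hv, by rw [hx]⟩
  Vn := SQ1.VOf.zl_norm
  V0n := SQ1.FFOf.cv_norm
  lift := by
    intro A
    obtain ⟨g, hg, h1, h2⟩ := N.lift fun _ => A
    exact ⟨g, hg, fun v hv => h1 v hv 0⟩
  norm := by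
    intro g hg x hx A hA
    obtain ⟨B, hB⟩ := N.norm g hg x hx (fun _ => A) fun v hv i => by
      rw [Subsingleton.elim i 0]
      exact hA v hv
    exact ⟨B 0, fun v hv => hB v hv 0⟩

variable [Finite G] {S : Sylow 2 G} {P R : Subgroup G}

/-- `Z(J(S)) = Z` for `V_P` natural with `|Z| = q`. -/
theorem N1.zj_eq {q : ℕ} (hG : IsCharacteristicTwoType G) (h : N1 (S : Subgroup G) P ⊥ q)
    (hJ : ¬ jj (S : Subgroup G) ≤ centralizer (zl (S : Subgroup G) P : Set G)) :
    zj (S : Subgroup G) = zc (S : Subgroup G) := by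
  obtain ⟨A, hA, hAQ⟩ := exists_AA hG h.blk.star hJ
  obtain ⟨x, hx, hx0⟩ := h.opp rfl
  refine Blk.zj_eq hG h.blk hA hAQ ?_ hx hx0
  have h1 := h.cz
  rw [Subgroup.card_bot, one_mul] at h1
  rw [h.cv, ← h1, pow_two]

theorem syl_of (hR : IsParS (S : Subgroup G) R) : Syl (S : Subgroup G) R :=
  ⟨hR.isLoc.le, S.isPGroup', fun _ _ hT hST => S.is_maximal' hT hST⟩

theorem minH (hG : IsCharacteristicTwoType G) (hR : IsParS (S : Subgroup G) R) : MinH R (S : Subgroup G) :=
  minH_of (syl_of hR) hR.toIsMinPar (hR.isLoc.char2 S hG)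

/-- **The members of `P*(S)` if `Ω₁(Z(J(S))) = Z`.** -/
theorem n1_of_star (hFF : FFThm.Stmt.{u}) (hG : IsCharacteristicTwoType G)
    (hz : zj (S : Subgroup G) = zc (S : Subgroup G)) (hR : IsParS (S : Subgroup G) R) :
    ¬ jj (S : Subgroup G) ≤ centralizer (zl (S : Subgroup G) R : Set G) ∧
      ∃ (V0 : Subgroup G) (q : ℕ), 2 ≤ q ∧ N1 (S : Subgroup G) R V0 q := by
  have hsyl := syl_of hR
  have hch := hR.isLoc.char2 S hG
  have hmin := hR.toIsMinPar
  have hm := minH hG hR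
  have hJ : ¬ jj (S : Subgroup G) ≤ o2 R := by
    intro hle
    have e := jj_eq_of_jj_le hle (o2_le_syl hsyl)
    have e2 : zj (o2 R) = zj (S : Subgroup G) := by
      ext x
      rw [mem_zj, mem_zj, e]
    apply hR.not_zc
    rw [← hz, ← e2]
    exact (le_normalizer_o2 R).trans (normalizer_le_of_cj (F := zj) zj_cj (o2 R))
  have hJC : ¬ jj (S : Subgroup G) ≤ centralizer (zl (S : Subgroup G) R : Set G) := by
    intro hle
    apply hJ
    rw [← IsParS.inf_centralizer S hG hR]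
    exact le_inf (jj_le _) hle
  refine ⟨hJC, ?_⟩
  obtain ⟨A, hA, hAV⟩ : ∃ A ∈ AA (S : Subgroup G), ¬ A ≤ centralizer (zl (S : Subgroup G) R : Set G) := by
    by_contra hcon
    push Not at hcon
    apply hJC
    rw [jj_eq]
    exact sSup_le hcon
  have hoff : Off (zl (S : Subgroup G) R) A := SQ1.FFOf.off_of_AA hm hA hAV
  obtain ⟨hno, hcon⟩ := hFF G (S : Subgroup G) R hsyl hmin hch ⟨A, hA.2.1.trans hsyl.1, hoff⟩
  have hcs : (R ⊓ centralizer (zl (S : Subgroup G) R : Set G)) ⊔ (S : Subgroup G) ≠ R := by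
    intro e
    apply hR.not_zc
    rw [← e]
    refine sup_le ?_ ?_
    · exact (inf_le_right.trans (centralizer_le (zc_le_zl _ _))).trans (centralizer_le_normalizer _)
    · refine le_trans (fun s hs => ?_) (centralizer_le_normalizer _)
      exact mem_centralizer_iff.2 fun z hz => ((mem_zc.1 hz).2.2 s hs).symm
  rcases hcon with ⟨F, _, _, _, k, hk, ⟨M⟩⟩ | ⟨k, m, hk, hm2, ⟨M⟩⟩
  · have : Nonempty (Fin k) := ⟨⟨0, hk⟩⟩
    have hVS : zl (S : Subgroup G) R ≤ (S : Subgroup G) := (SQ1.VOf.MinH.zl_le_o2 hm).trans (o2_le_syl hsyl)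
    have hV1 : ∀ v ∈ zl (S : Subgroup G) R, (∀ i, M.e v i 1 = 0) → v ∈ zc (S : Subgroup G) := by
      intro v hv hi
      have h1 := (FFK.mem_V1_iff ((natKB_of hsyl hch hJ hk M).toFFK hm) hm (v := v)).2 ⟨hv, hi⟩
      have h2 := (mem_V1.1 h1).2
      have hsq := SQ1.VOf.MinH.sq hm v hv
      rw [← hz]
      exact mem_zj.2 ⟨mem_jj_of_comm (hVS hv) hsq h2, hsq, h2⟩
    obtain rfl : k = 1 := by
      by_contra hk1
      obtain ⟨i, j, hij⟩ : ∃ i j : Fin k, i ≠ j :=
        ⟨⟨0, hk⟩, ⟨1, by omega⟩, fun h => by simpa using congrArg Fin.val h⟩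
      classical
      obtain ⟨t, ht, htr⟩ := M.trans i j
      obtain ⟨v, hv, hev⟩ := M.surj (Pi.single j ![1, 0])
      have hvZ : v ∈ zc (S : Subgroup G) := by
        refine hV1 v hv fun l => ?_
        rw [hev]
        by_cases hl : l = j
        · subst hl; rw [Pi.single_eq_same]; rfl
        · rw [Pi.single_eq_of_ne hl]; rfl
      have h1 : M.e v i = 0 := by rw [hev, Pi.single_eq_of_ne hij]
      have h2 := (htr v hv).2 h1
      have h3 : t * v * t⁻¹ = v := by rw [(mem_zc.1 hvZ).2.2 t ht]; group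
      rw [h3, hev, Pi.single_eq_same] at h2
      exact one_ne_zero (congrFun h2 0)
    refine ⟨cv (S : Subgroup G) R, Nat.card F, Finite.one_lt_card, n1_of hR hm (secK M) ?_ ?_⟩
    · intro v hv h1
      refine hV1 v hv fun i => ?_
      rw [Subsingleton.elim i 0]
      exact h1
    · intro b
      obtain ⟨t, ht, h1⟩ := M.unip fun _ => b
      exact ⟨t, ht, fun v hv => h1.1 v hv 0⟩
  · refine (no_sym hm hcs ⟨A, hA, hoff⟩ hno hk hm2 M ?_).elim
    intro z hz1 t ht
    rw [hz] at hz1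
    exact (mem_zc.1 hz1).2.2 t ht

/-- The chain `|V| ≤ |Z|²`. -/
theorem N1.card_le {V0 : Subgroup G} {q : ℕ} (h : N1 (S : Subgroup G) R V0 q) :
    Nat.card (zl (S : Subgroup G) R) ≤ Nat.card (zc (S : Subgroup G)) ^ 2 := by
  rw [h.cv, pow_two]
  refine Nat.mul_le_mul_left _ ?_
  rw [h.cz]
  exact Nat.le_mul_of_pos_left _ Nat.card_pos

theorem N1.cen_eq {V0 : Subgroup G} {q : ℕ} (h : N1 (S : Subgroup G) R V0 q) (hq : 0 < q)
    (hV : Nat.card (zl (S : Subgroup G) R) = Nat.card (zc (S : Subgroup G)) ^ 2) :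
    zc (S : Subgroup G) ⊓ centralizer (R : Set G) = ⊥ := by
  rw [eq_bot_iff]
  refine h.cen.trans ?_
  have hp : 0 < Nat.card (zc (S : Subgroup G)) := Nat.card_pos
  have h1 := h.cv
  rw [hV, pow_two] at h1
  have h2 := Nat.eq_of_mul_eq_mul_left hp h1
  have h3 := h.cz
  rw [h2] at h3
  have h4 : 1 * q = Nat.card V0 * q := by rw [one_mul]; exact h3
  have h5 := Nat.eq_of_mul_eq_mul_right hq h4
  exact (Subgroup.card_eq_one.1 h5.symm).le

/-- **LEMMA OL**, from `N1 S P ⊥ q`. -/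
theorem uniq_of_n1 (hFF : FFThm.Stmt.{u}) (hG : IsCharacteristicTwoType G) (hF : ¬ FF (S : Subgroup G)) {q : ℕ}
    (h : N1 (S : Subgroup G) P ⊥ q)
    (hJ : ¬ jj (S : Subgroup G) ≤ centralizer (zl (S : Subgroup G) P : Set G)) : Uniq (S : Subgroup G) P := by
  have hz := h.zj_eq hG hJ
  have hsq : Nat.card (zl (S : Subgroup G) P) = Nat.card (zc (S : Subgroup G)) ^ 2 := by
    have h1 := h.cz
    rw [Subgroup.card_bot, one_mul] at h1
    rw [h.cv, ← h1, pow_two]
  have key : ∀ R : Subgroup G, IsParS (S : Subgroup G) R → zl (S : Subgroup G) R = zl (S : Subgroup G) P ∧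
      zc (S : Subgroup G) ⊓ centralizer (R : Set G) = ⊥ := by
    intro R hR
    obtain ⟨hJ', V0, q', hq', h'⟩ := n1_of_star hFF hG hz hR
    have h1 := one_line hG hF h.blk h'.blk hJ hJ' hsq (eq_bot_iff.2 h.cen) h'.card_le
    refine ⟨h1, h'.cen_eq (by omega) ?_⟩
    rw [h1, hsq]
  exact ⟨fun R hR => (key R hR).1, fun R hR => (key R hR).2⟩

/-- **LEMMA UNIQ (= LEMMA OL)**: `J(S) ≰ O₂(P)`, `V_P` natural, `|Z| = q`. -/
theorem uniq (hFF : FFThm.Stmt.{u}) (h : HypJ S P) {F : Type} [Field F] [Finite F]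
    [CharP F 2] (N : NatP F (zl (S : Subgroup G) P) P)
    (hc : Nat.card (zc (S : Subgroup G)) = Nat.card F) : Uniq (S : Subgroup G) P := by
  have hG := h.ctx.char2
  refine uniq_of_n1 hFF hG h.noFF (n1_of_natP hG h.star (minH hG h.star) N hc) ?_
  intro hle
  apply h.jnot
  rw [← IsParS.inf_centralizer S hG h.star]
  exact le_inf (jj_le _) hle

end Cfsg.Agent.Omega.NO3S.OneLine

end

section


/-!
# Fld, basic facts: coordinates on the natural module `V_P` adapted to `S`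

* `Crd F S P V` : a `NatP` in which every `s ∈ S` acts as `(x₀, x₁) ↦ (σ x₀ + c σ x₁, σ x₁)`, and every root element
  `(1, c)` is induced by some `s ∈ S`; `exists_crd` : it exists under `Hyp S P` for every `NatP`;
* `Crd.R` : the line `{x₁ = 0}`, of order `q`, `S`-invariant, contains `Ω₁(Z(S))`;
* `Crd.Act s σ c` : `s` acts with field automorphism `σ` and root part `c`.
-/

set_option autoImplicit false
set_option linter.unusedSectionVars false
set_option linter.unusedVariables false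

namespace Cfsg.Agent.Omega.NO3S.Fld

open Subgroup Cfsg Cfsg.Agent.ZN Cfsg.Agent.ZN.ChoiceBase Cfsg.Agent.Omega.MinPar
open Cfsg.Agent.ZN.ChoiceSit (Syl o2_le_syl)
open Cfsg.Agent.Omega.SQ1.Bau (mem_AA_of_comm zj_le_AA elem_comm elem_sq)
open Cfsg.Agent.PLocal.ElemAbSup Cfsg.Agent.PLocal.ThompsonJ
open Cfsg.Agent.MinSimple.VModule (zc_le zc_le_zl zl_le le_o2 le_normalizer_zl le_normalizer_o2)
open Cfsg.Agent.Omega.SQ1.FFOne Cfsg.Agent.Lib.SL2Mat
open Cfsg.Agent.Omega.NatPair (ap ap_zero' ap_one' ap_one ap_mul ap_add ap_smul ext2 NatMod ap_inv_ap ap_ap_inv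
  exists_ap_e ap_up_e dt exists_comb exists_smul_of_dt)
open Cfsg.Agent.Omega.NO3S.OneLine (modP secP exists_fixed minH e_zero)

universe u

variable {G : Type u} [Group G]

/-- Coordinates on `V = F²` adapted to the 2-group `S`. -/
structure Crd (F : Type*) [Field F] (S P V : Subgroup G) extends NatP F V P where
  act : ∀ s ∈ S, ∃ (σ : F ≃+* F) (c : F), ∀ x : Fin 2 → F,
    s * e x * s⁻¹ = e ![σ (x 0) + c * σ (x 1), σ (x 1)]
  full : ∀ c : F, ∃ s ∈ S, ∀ x : Fin 2 → F, s * e x * s⁻¹ = e ![x 0 + c * x 1, x 1]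

section change

variable {F : Type*} [Field F]

/-- the linear map with the columns `w`, `y` -/
def bm (w y : Fin 2 → F) (x : Fin 2 → F) : Fin 2 → F := x 0 • w + x 1 • y

theorem bm_add (w y x x' : Fin 2 → F) : bm w y (x + x') = bm w y x + bm w y x' := by
  apply ext2 <;> simp only [bm, Pi.add_apply, Pi.smul_apply, smul_eq_mul] <;> ring

theorem dt_ne_bm {w y : Fin 2 → F} (h : dt w y ≠ 0) {x : Fin 2 → F} (hx : bm w y x = 0) : x = 0 := by
  have h0 := congrFun hx 0
  have h1 := congrFun hx 1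
  simp only [bm, Pi.add_apply, Pi.smul_apply, smul_eq_mul, Pi.zero_apply] at h0 h1
  have e0 : x 0 * dt w y = 0 := by unfold dt; linear_combination y 1 * h0 - y 0 * h1
  have e1 : x 1 * dt w y = 0 := by unfold dt; linear_combination w 0 * h1 - w 1 * h0
  apply ext2
  · exact (mul_eq_zero.1 e0).resolve_right h
  · exact (mul_eq_zero.1 e1).resolve_right h

/-- the inverse of `bm` -/
noncomputable def bi (w y : Fin 2 → F) (x : Fin 2 → F) : Fin 2 → F :=
  ![(x 0 * y 1 - x 1 * y 0) / dt w y, (w 0 * x 1 - w 1 * x 0) / dt w y]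

theorem bm_bi {w y : Fin 2 → F} (h : dt w y ≠ 0) (x : Fin 2 → F) : bm w y (bi w y x) = x := by
  apply ext2
  · simp only [bm, bi, Pi.add_apply, Pi.smul_apply, smul_eq_mul, Matrix.cons_val_zero, Matrix.cons_val_one]
    field_simp
    unfold dt; ring
  · simp only [bm, bi, Pi.add_apply, Pi.smul_apply, smul_eq_mul, Matrix.cons_val_zero, Matrix.cons_val_one]
    field_simp
    unfold dt; ring

theorem bi_bm {w y : Fin 2 → F} (h : dt w y ≠ 0) (x : Fin 2 → F) : bi w y (bm w y x) = x := by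
  have h1 := bm_bi h (bm w y x)
  have h2 : bm w y (bi w y (bm w y x) - x) = 0 := by
    have e : bm w y (bi w y (bm w y x)) = bm w y (bi w y (bm w y x) - x) + bm w y x := by
      rw [← bm_add, sub_add_cancel]
    rw [h1] at e
    exact (left_eq_add.1 (by rw [add_comm] at e; exact e))
  exact sub_eq_zero.1 (dt_ne_bm h h2)

/-- conjugation of `SL₂(F)` by `bm` -/
noncomputable def cB (w y : Fin 2 → F) (h : dt w y ≠ 0) (A : Matrix.SpecialLinearGroup (Fin 2) F) :
    Matrix.SpecialLinearGroup (Fin 2) F :=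
  mk ((ent A 0 0 * (w 0 * y 1) - ent A 0 1 * (w 0 * w 1) + ent A 1 0 * (y 0 * y 1) - ent A 1 1 * (y 0 * w 1)) / dt w y)
    ((-(ent A 0 0 * (w 0 * y 0)) + ent A 0 1 * (w 0 * w 0) - ent A 1 0 * (y 0 * y 0) + ent A 1 1 * (w 0 * y 0)) / dt w y)
    ((ent A 0 0 * (w 1 * y 1) - ent A 0 1 * (w 1 * w 1) + ent A 1 0 * (y 1 * y 1) - ent A 1 1 * (w 1 * y 1)) / dt w y)
    ((-(ent A 0 0 * (w 1 * y 0)) + ent A 0 1 * (w 0 * w 1) - ent A 1 0 * (y 0 * y 1) + ent A 1 1 * (w 0 * y 1)) / dt w y)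
    (by
      have hd := det_eq A
      have h' : w 0 * y 1 - w 1 * y 0 ≠ 0 := h
      unfold dt
      field_simp
      linear_combination (w 0 * y 1 - w 1 * y 0) ^ 2 * hd)

theorem ap_cB {w y : Fin 2 → F} (h : dt w y ≠ 0) (A : Matrix.SpecialLinearGroup (Fin 2) F) (x : Fin 2 → F) :
    ap (cB w y h A) (bm w y x) = bm w y (ap A x) := by
  apply ext2
  · rw [ap_zero']
    unfold cB
    rw [mk_00, mk_01]
    simp only [bm, ap, Pi.add_apply, Pi.smul_apply, smul_eq_mul, Matrix.cons_val_zero, Matrix.cons_val_one]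
    rw [div_mul_eq_mul_div, div_mul_eq_mul_div, ← add_div, div_eq_iff h]
    unfold dt
    ring
  · rw [ap_one']
    unfold cB
    rw [mk_10, mk_11]
    simp only [bm, ap, Pi.add_apply, Pi.smul_apply, smul_eq_mul, Matrix.cons_val_zero, Matrix.cons_val_one]
    rw [div_mul_eq_mul_div, div_mul_eq_mul_div, ← add_div, div_eq_iff h]
    unfold dt
    ring

/-- conjugation of `SL₂(F)` by the inverse of `bm` -/
theorem exists_bi {w y : Fin 2 → F} (h : dt w y ≠ 0) (A : Matrix.SpecialLinearGroup (Fin 2) F) :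
    ∃ B : Matrix.SpecialLinearGroup (Fin 2) F, ∀ x, ap A (bm w y x) = bm w y (ap B x) := by
  have h0 : dt (bi w y ![1, 0]) (bi w y ![0, 1]) ≠ 0 := by
    have e : dt (bi w y ![1, 0]) (bi w y ![0, 1]) * dt w y = 1 := by
      have e1 : dt (bi w y ![1, 0]) (bi w y ![0, 1]) = y 1 / dt w y * (w 0 / dt w y) -
          -w 1 / dt w y * (-y 0 / dt w y) := by
        simp only [dt, bi, Matrix.cons_val_zero, Matrix.cons_val_one]
        ring
      rw [e1, div_mul_div_comm, div_mul_div_comm, ← sub_div, div_mul_eq_mul_div, div_eq_iff (mul_ne_zero h h)]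
      unfold dt
      ring
    exact left_ne_zero_of_mul (e ▸ one_ne_zero)
  refine ⟨cB _ _ h0 A, fun x => ?_⟩
  have hb : ∀ z, bm (bi w y ![1, 0]) (bi w y ![0, 1]) z = bi w y z := by
    intro z
    apply ext2
    · simp only [bm, bi, Pi.add_apply, Pi.smul_apply, smul_eq_mul, Matrix.cons_val_zero, Matrix.cons_val_one]
      ring
    · simp only [bm, bi, Pi.add_apply, Pi.smul_apply, smul_eq_mul, Matrix.cons_val_zero, Matrix.cons_val_one]
      ring
  have h1 := ap_cB h0 A (bm w y x)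
  rw [hb, hb, bi_bm h] at h1
  rw [h1, bm_bi h]

variable {V P : Subgroup G}

/-- Change of the basis. -/
def _root_.Cfsg.Agent.Omega.NO3S.NatP.change (N : NatP F V P) {w y : Fin 2 → F} (h : dt w y ≠ 0) : NatP F V P where
  e x := N.e (bm w y x)
  e_add x x' := by rw [bm_add, N.e_add]
  e_inj := by
    intro x x' hx
    have h1 := N.e_inj hx
    rw [← bi_bm h x, ← bi_bm h x', h1]
  mem_iff g := by
    rw [N.mem_iff]
    constructor
    · rintro ⟨x, rfl⟩
      exact ⟨bi w y x, by rw [bm_bi h]⟩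
    · rintro ⟨x, rfl⟩
      exact ⟨_, rfl⟩
  lift A := by
    obtain ⟨g, hg, h1⟩ := N.lift (cB w y h A)
    exact ⟨g, hg, fun x => by rw [h1, ap_cB h]⟩
  norm g hg k A hA := by
    have h1 : ∀ x, k * N.e x * k⁻¹ = N.e (ap (cB w y h A) x) := by
      intro x
      have h2 := hA (bi w y x)
      rw [bm_bi h] at h2
      rw [h2, ← ap_cB h, bm_bi h]
    obtain ⟨B, hB⟩ := N.norm g hg k _ h1
    obtain ⟨B', hB'⟩ := exists_bi h B
    exact ⟨B', fun x => by rw [hB, hB']⟩

end change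

section crd

variable [Finite G] {S : Sylow 2 G} {P : Subgroup G}

/-- **Adapted coordinates exist.** -/
theorem exists_crd_of {F : Type*} [Field F] [Finite F] [CharP F 2] (hG : IsCharacteristicTwoType G)
    (hS : (S : Subgroup G) ≠ ⊥) (hP : IsParS (S : Subgroup G) P) (N : NatP F (zl (S : Subgroup G) P) P) :
    Nonempty (Crd F (S : Subgroup G) P (zl (S : Subgroup G) P)) := by
  have hm := minH hG hP
  have hSP : (S : Subgroup G) ≤ P := hm.syl.1
  have hVS : zl (S : Subgroup G) P ≤ (S : Subgroup G) := (SQ1.VOf.MinH.zl_le_o2 hm).trans (o2_le_syl hm.syl)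
  have hVP : zl (S : Subgroup G) P ≤ P := hVS.trans hSP
  have hPV : P ≤ normalizer (zl (S : Subgroup G) P : Set G) := le_normalizer_zl _ _
  have hZV : zc (S : Subgroup G) ≤ zl (S : Subgroup G) P := zc_le_zl _ _
  let M := modP N hVP
  have hPn : ∀ g : P, g ∈ normalizer (((zl (S : Subgroup G) P).subgroupOf P : Subgroup P) : Set P) := by
    intro g
    rw [mem_normalizer_iff]
    intro x
    rw [mem_subgroupOf, mem_subgroupOf]
    exact mem_normalizer_iff.1 (hPV g.2) x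
  -- a fixed vector
  obtain ⟨z, hz, hz1⟩ : ∃ z ∈ zc (S : Subgroup G), z ≠ 1 := by
    obtain ⟨z, hz1⟩ := Subgroup.ne_bot_iff_exists_ne_one.1 (MinSimple.Basic.zc_ne_bot S.isPGroup' hS)
    exact ⟨z, z.2, fun h => hz1 (Subtype.ext h)⟩
  obtain ⟨w, rfl⟩ := (N.mem_iff z).1 (hZV hz)
  have hw : w ≠ 0 := by
    rintro rfl
    exact hz1 (e_zero N)
  let S' : Sylow 2 P := S.subtype hSP
  have hS' : ∀ s : P, s ∈ (S' : Subgroup P) ↔ (s : G) ∈ (S : Subgroup G) := fun s => by
    rw [Sylow.coe_subtype, mem_subgroupOf]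
  have hSn : (S' : Subgroup P) ≤ normalizer (((zl (S : Subgroup G) P).subgroupOf P : Subgroup P) : Set P) :=
    fun s _ => hPn s
  have hfixe : ∀ s ∈ (S' : Subgroup P), M.act s w = w := by
    intro s hs
    rw [← M.commute_e (hPn s)]
    apply Subtype.ext
    exact (mem_zc.1 hz).2.2 s ((hS' s).1 hs)
  have hSw : (S' : Subgroup P) ≤ normalizer ((M.line w : Subgroup P) : Set P) := by
    intro s hs
    have h1 := M.cj_line (hPn s) w
    rw [hfixe s hs] at h1
    rw [mem_normalizer_iff_cj]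
    exact h1
  -- a vector fixed modulo the line
  let L : Subgroup G := (M.line w).map P.subtype
  have hmemL : ∀ x : Fin 2 → F, N.e x ∈ L ↔ ∃ c : F, x = c • w := by
    intro x
    constructor
    · rintro ⟨⟨g, hg⟩, hgL, hgx⟩
      obtain ⟨c, hc⟩ := hgL
      refine ⟨c, N.e_inj ?_⟩
      have h1 : N.e (c • w) = g := congrArg Subtype.val hc
      rw [h1]
      exact hgx.symm
    · rintro ⟨c, rfl⟩
      exact ⟨M.e (c • w), ⟨c, rfl⟩, rfl⟩
  have hVL : ¬ zl (S : Subgroup G) P ≤ L := by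
    intro hle
    obtain ⟨D, hD⟩ := exists_ap_e hw
    have h1 : N.e (ap D ![0, 1]) ∈ L := hle ((N.mem_iff _).2 ⟨_, rfl⟩)
    rw [hmemL] at h1
    obtain ⟨c, hc⟩ := h1
    rw [← hD, ← ap_smul] at hc
    have h2 := congrArg (ap D⁻¹) hc
    rw [ap_inv_ap, ap_inv_ap] at h2
    have h3 := congrFun h2 1
    simp at h3
  obtain ⟨v, hv, hvL, hvS⟩ := exists_fixed (M := L) S.isPGroup' hVS (hSP.trans hPV) hVL
  obtain ⟨y, rfl⟩ := (N.mem_iff v).1 hv
  have hdt : dt w y ≠ 0 := by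
    intro h0
    apply hvL
    rw [hmemL]
    exact exists_smul_of_dt hw h0
  have hact : ∀ s ∈ (S : Subgroup G), ∃ c : F, ∀ hs : s ∈ P, M.act ⟨s, hs⟩ y = y + c • w := by
    intro s hs
    have h1 := hvS s hs
    have h2 : N.e (M.act ⟨s, hSP hs⟩ y) = s * N.e y * s⁻¹ := congrArg Subtype.val (M.e_act (hPn ⟨s, hSP hs⟩) y)
    rw [← h2] at h1
    have h3 : N.e (M.act ⟨s, hSP hs⟩ y) * (N.e y)⁻¹ = N.e (M.act ⟨s, hSP hs⟩ y - y) :=
      (congrArg Subtype.val (M.e_sub (M.act ⟨s, hSP hs⟩ y) y)).symm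
    rw [h3, hmemL] at h1
    obtain ⟨c, hc⟩ := h1
    exact ⟨c, fun _ => by rw [← hc]; abel⟩
  let N' := N.change hdt
  refine ⟨{ N' with act := ?_, full := ?_ }⟩
  · intro s hs
    have hsP := hSP hs
    obtain ⟨σ, hσ⟩ := M.exists_semi (hPn ⟨s, hsP⟩)
    obtain ⟨c, hc⟩ := hact s hs
    refine ⟨σ, c, fun x => ?_⟩
    show s * N.e (bm w y x) * s⁻¹ = N.e (bm w y _)
    have h1 : N.e (M.act ⟨s, hsP⟩ (bm w y x)) = s * N.e (bm w y x) * s⁻¹ :=
      congrArg Subtype.val (M.e_act (hPn ⟨s, hsP⟩) (bm w y x))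
    rw [← h1]
    congr 1
    unfold bm
    rw [M.act_add (hPn _), hσ, hσ, hfixe _ ((hS' _).2 hs), hc]
    simp only [Matrix.cons_val_zero, Matrix.cons_val_one]
    rw [smul_add, smul_smul, add_smul, mul_comm c]
    abel
  · intro c
    have hB : ap (cB w y hdt (up c)) w = w := by
      have h1 := ap_cB hdt (up c) ![1, 0]
      have h2 : bm w y ![1, 0] = w := by
        apply ext2 <;> simp [bm]
      rw [ap_up_e, h2] at h1
      exact h1
    obtain ⟨s, hs, hs1⟩ := M.full_of_sylow S' hSn hw hSw hB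
    refine ⟨s, (hS' s).1 hs, fun x => ?_⟩
    show (s : G) * N.e (bm w y x) * (s : G)⁻¹ = N.e (bm w y _)
    have h1 : (s : G) * N.e (bm w y x) * (s : G)⁻¹ = N.e (ap (cB w y hdt (up c)) (bm w y x)) :=
      congrArg Subtype.val (hs1 (bm w y x))
    rw [h1, ap_cB hdt]
    congr 2
    apply ext2
    · rw [ap_zero', up_00, up_01, one_mul]; rfl
    · rw [ap_one', up_10, up_11, one_mul, zero_mul, zero_add]; rfl

theorem exists_crd (h : Hyp S P) {F : Type*} [Field F] [Finite F] [CharP F 2]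
    (N : NatP F (zl (S : Subgroup G) P) P) : Nonempty (Crd F (S : Subgroup G) P (zl (S : Subgroup G) P)) :=
  exists_crd_of h.ctx.char2 h.ne h.star N

end crd

end Cfsg.Agent.Omega.NO3S.Fld

end
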