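import Cfsg.Agent.Mrg.Omega.SQ1.FFSymMain
import Cfsg.Agent.Mrg.Omega.FrameI

section


/-!
# LEMMA OL: the even-subset modules for a minimal parabolic

`syT` : `FFThm.SymK` gives the module data `SyT` of `SQ1/FFSymT.lean` for every minimal parabolic (in
`SQ1/FFSymMain.lean` this is proved for the chosen configuration of the strongly quasithin part);
`SymK.no_fix` : if `m ≥ 2`, `T` does not centralise `Ω₁(Z(J(T)))`.
-/

set_option autoImplicit false
set_option linter.unusedSectionVars false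
set_option linter.unusedVariables false

namespace Cfsg.Agent.Omega.NO3S.OneLine

open Subgroup Cfsg Cfsg.Agent.PLocal.ThompsonJ Cfsg.Agent.ZN Cfsg.Agent.ZN.ChoiceBase
open Cfsg.Agent.ZN.ChoiceSit
open Cfsg.Agent.Omega.SQ1 Cfsg.Agent.Omega.SQ1.FFOne Cfsg.Agent.Omega.SQ1.VOf Cfsg.Agent.Omega.SQ1.FFSym
open Cfsg.Agent.Omega.FFThm (ActsSym SymK NoOver Off)
open Cfsg.Agent.Omega.SQ1.BauS (Sim)
open Cfsg.Agent.Omega.FrameFF (cv)

universe v

variable {G : Type v} [Group G] {M₀ T H D : Subgroup G} {s : G} {k m : ℕ}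

/-- **An element of `H` which centralises `D` and `V / D` centralises `V`.** -/
theorem cent (c : MinH H T) [Finite G] (N : SymK T H (zl T H) D k m) (hk : 0 < k)
    (hm : 1 ≤ m) (hDV : D ≤ zl T H) (hDn : ∀ h ∈ H, ∀ v ∈ D, h * v * h⁻¹ ∈ D) {g : G} (hg : g ∈ H)
    (h1 : ∀ d ∈ D, g * d = d * g) (h2 : ∀ v ∈ zl T H, N.e (g * v * g⁻¹) = N.e v) :
    ∀ v ∈ zl T H, g * v = v * g := by
  have hV : ∀ g ∈ H, ∀ v ∈ zl T H, g * v * g⁻¹ ∈ zl T H := zl_norm
  set R := Ker T H (zl T H) D N hV with hR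
  set F := Fix0 T H (zl T H) D N hV with hF
  have hTF : T ≤ F := by
    intro t ht
    obtain ⟨σ, τ, hta⟩ := N.perm t (c.syl.1 ht)
    refine ⟨c.syl.1 ht, σ, fun v hv i => ?_⟩
    have h3 := hta v hv i 0
    rwa [N.fix0 t ht σ τ hta i] at h3
  have hRF : R ≤ F := fun x hx => ⟨hx.1, 1, fun v hv i => by
    rw [hx.2.2 v hv, Equiv.Perm.one_apply]⟩
  have hRn : ∀ h ∈ H, ∀ r ∈ R, h * r * h⁻¹ ∈ R := by
    rintro x hx r ⟨hr, hr1, hr2⟩
    refine ⟨mul_mem (mul_mem hx hr) (inv_mem hx), fun d hd => ?_, fun v hv => ?_⟩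
    · have hd' : x⁻¹ * d * x ∈ D := by
        have := hDn x⁻¹ (inv_mem hx) d hd
        rwa [inv_inv] at this
      have h3 := hr1 _ hd'
      calc x * r * x⁻¹ * d = x * (r * (x⁻¹ * d * x)) * x⁻¹ := by group
        _ = x * ((x⁻¹ * d * x) * r) * x⁻¹ := by rw [h3]
        _ = _ := by group
    · set w := x⁻¹ * v * x with hw
      have hwV : w ∈ zl T H := by
        have := hV x⁻¹ (inv_mem hx) v hv
        rwa [inv_inv] at this
      obtain ⟨σ, τ, hxa⟩ := N.perm x hx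
      have e1 : x * r * x⁻¹ * v * (x * r * x⁻¹)⁻¹ = x * (r * w * r⁻¹) * x⁻¹ := by rw [hw]; group
      have e2 : v = x * w * x⁻¹ := by rw [hw]; group
      rw [e1]
      conv_rhs => rw [e2]
      funext i y
      have h3 := hxa _ (hV r hr w hwV) (σ⁻¹ i) ((τ (σ⁻¹ i))⁻¹ y)
      have h4 := hxa w hwV (σ⁻¹ i) ((τ (σ⁻¹ i))⁻¹ y)
      rw [perm_inv_self, perm_inv_self] at h3 h4
      rw [h3, h4, hr2 w hwV]
  have hne : R ⊔ T ≠ H := by
    intro hcon
    obtain ⟨a, b, ha, hb, hab⟩ := exists_three_pts hm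
    obtain ⟨x, hx, hxa, -⟩ := N.lift (Pi.mulSingle ⟨0, hk⟩ (Equiv.swap 0 a))
    have hxF : x ∈ F := (sup_le hRF hTF) (by rw [hcon]; exact hx)
    obtain ⟨-, σ, hσ⟩ := hxF
    set j : Fin k := ⟨0, hk⟩ with hj
    obtain ⟨v, hv, hev⟩ := N.surj (E j a + E j b) fun i => by
      simp only [Pi.add_apply, Finset.sum_add_distrib, E_sum]
      exact CharTwo.add_self_eq_zero _
    have h3 := hxa v hv j a
    have h4 := hσ v hv (σ⁻¹ j)
    rw [perm_inv_self] at h4
    rw [Equiv.Perm.one_apply, Pi.mulSingle_eq_same, Equiv.swap_apply_right, h4, hev] at h3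
    simp only [Pi.add_apply, E, true_and, if_true, hab, if_false, add_zero] at h3
    rw [if_neg (fun h => ha h.2.symm), if_neg (fun h => hb h.2.symm), add_zero] at h3
    exact absurd h3 (by decide)
  have hRH : R ≤ H := fun x hx => hx.1
  have h3 := c.inf_le hRH hRn hne
  -- 2-elements of `R`
  have h4 : ∀ x ∈ R, (∃ n : ℕ, x ^ 2 ^ n = 1) → ∀ v ∈ zl T H, x * v = v * x := by
    intro x hx hx2
    obtain ⟨y, hy, hyT⟩ := syl_elt c.syl hx.1 hx2
    have h5 := h3 ⟨hyT, hRn y hy x hx⟩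
    have h6 : x ∈ o2 H := by
      have := conj_mem_of_norm (le_normalizer_o2 H (inv_mem hy)) h5
      have e1 : y⁻¹ * (y * x * y⁻¹) * y⁻¹⁻¹ = x := by group
      rwa [e1] at this
    exact MinH.o2_cent c x h6
  -- squares
  have h5 : ∀ v ∈ zl T H, (g * g) * v = v * (g * g) := by
    intro v hv
    have hv' := hV g hg v hv
    have hδ : g * v * g⁻¹ * v ∈ D := by
      rw [← N.ker _ (mul_mem hv' hv), N.mul _ hv' v hv, h2 v hv]
      funext i x
      exact CharTwo.add_self_eq_zero _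
    have hvv : v * v = 1 := by
      rw [← pow_two]; exact MinH.sq c v hv
    have hδδ : (g * v * g⁻¹ * v) * (g * v * g⁻¹ * v) = 1 := by
      rw [← pow_two]; exact MinH.sq c _ (hDV hδ)
    have h6 := h1 _ hδ
    set δ := g * v * g⁻¹ * v with hδd
    have e1 : g * v * g⁻¹ = δ * v := by rw [hδd, mul_assoc (g * v * g⁻¹), hvv, mul_one]
    have e2 : g * g * v * (g * g)⁻¹ = v := by
      calc g * g * v * (g * g)⁻¹ = g * (g * v * g⁻¹) * g⁻¹ := by group
        _ = (g * δ) * v * g⁻¹ := by rw [e1]; group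
        _ = δ * (g * v * g⁻¹) := by rw [h6]; group
        _ = v := by rw [e1, ← mul_assoc, hδδ, one_mul]
    calc g * g * v = (g * g * v * (g * g)⁻¹) * (g * g) := by group
      _ = v * (g * g) := by rw [e2]
  obtain ⟨n, hn, hN⟩ := SymCyc.exists_pow g 1
  have hgR : g ∈ R := ⟨hg, h1, h2⟩
  have h6 := h4 (g ^ n) (pow_mem hgR n) hN
  have hn' : n = 2 * (n / 2) + 1 := by
    have : n % 2 = 1 := by simpa using hn
    omega
  intro v hv
  have c1 : Commute (g ^ n) v := h6 v hv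
  have c2 : Commute ((g * g) ^ (n / 2)) v := (show Commute (g * g) v from h5 v hv).pow_left _
  have e1 : g = ((g * g) ^ (n / 2))⁻¹ * g ^ n := by
    rw [← pow_two, ← pow_mul]
    conv_rhs => rw [hn', pow_succ]
    rw [show 2 * (n / 2) + 1 = 2 * (n / 2) + 1 from rfl]
    have : 2 * ((2 * (n / 2) + 1) / 2) = 2 * (n / 2) := by omega
    rw [this, inv_mul_cancel_left]
  have c3 : Commute (((g * g) ^ (n / 2))⁻¹ * g ^ n) v := (c2.inv_left).mul_left c1
  rw [← e1] at c3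
  exact c3.eq

/-- **The module data of the chosen configuration.** -/
theorem syT (c : MinH H T) [Finite G]
    (hcs : (H ⊓ centralizer (zl T H : Set G)) ⊔ T ≠ H) (hoff : ∃ A ∈ AA T, Off (zl T H) A)
    (hno : NoOver (zl T H) H)
    (N : SymK T H (zl T H) D k m) (hk : 0 < k)
    (hm : 1 ≤ m) (hDV : D ≤ zl T H) (hDn : ∀ h ∈ H, ∀ v ∈ D, h * v * h⁻¹ ∈ D) :
    SyT T H (o2 H) (zl T H) D (0 : Fin (2 ^ m + 1)) N.e where
  n3 := by
    have : 2 ≤ 2 ^ m := by
      calc 2 = 2 ^ 1 := (pow_one 2).symm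
        _ ≤ 2 ^ m := Nat.pow_le_pow_right (by norm_num) hm
    omega
  n4 := by
    intro h4
    have h5 : 2 ∣ 2 ^ m := dvd_pow_self 2 (by omega)
    omega
  DV := hDV
  Vn := zl_norm
  Dn := hDn
  comm := MinH.comm c
  sq := MinH.sq c
  mul := N.mul
  even := N.even
  surj := N.surj
  ker := N.ker
  lift := N.lift
  perm := N.perm
  cent := fun g hg h1 h2 => cent c N hk hm hDV hDn hg h1 h2
  TH := c.syl.1
  Tp := c.syl.2.1
  QT := o2_le_syl c.syl
  VQ := MinH.zl_le_o2 c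
  Qn := fun g hg x hx => conj_mem_of_norm (le_normalizer_o2 H hg) hx
  VcQ := MinH.o2_cent c
  cT := fun x hx hc => c.inf_le inf_le_left cent_norm hcs
    ⟨hx, c.syl.1 hx, mem_centralizer_iff.2 fun v hv => (hc v hv).symm⟩
  syl := fun x hx h2 => syl_elt c.syl hx h2
  trans := N.trans
  fix0 := N.fix0
  gen := fun K hT hK => N.gen K hT fun g hg τ ha hd => hK g τ ⟨hg, hd, ha⟩
  offD := by
    intro A hA a ha
    by_cases hne : A ≤ centralizer (zl T H : Set G)
    · refine ⟨1, ⟨c.syl.1 (hA.2.1 ha), fun d hd => (mem_centralizer_iff.1 (hne ha) d (hDV hd)).symm,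
        fun v hv i x => ?_⟩, fun i x hx => absurd rfl hx⟩
      have h1 := mem_centralizer_iff.1 (hne ha) v hv
      have h2 : a * v * a⁻¹ = v := by rw [← h1]; group
      rw [h2, Equiv.Perm.one_apply, Pi.one_apply, Equiv.Perm.one_apply]
    · obtain ⟨h1, h2⟩ := N.off A hA.2.1 (FFOf.off_of_AA c hA hne)
      obtain ⟨τ, hτ, hτ'⟩ := h2 a ha
      refine ⟨τ, ⟨c.syl.1 (hA.2.1 ha), h1 a ha, hτ⟩, fun i x hx => ?_⟩
      obtain ⟨h3, b, hb, hb'⟩ := hτ' i x hx
      exact ⟨h3, b, hb, c.syl.1 (hA.2.1 hb), h1 b hb, hb'⟩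
  nJ := by
    obtain ⟨A, hA, hoff⟩ := hoff
    have h1 := hoff.ne
    by_contra hcon
    push Not at hcon
    exact h1 fun a ha => mem_centralizer_iff.2 fun v hv => (hcon A hA a ha v hv).symm
  noOver := fun A hA => hno A (hA.2.1.trans c.syl.1) hA.1
  cycle := by
    obtain ⟨p, h1, -, h3, h4⟩ := SymCyc.exists_cyc m hm
    exact ⟨p, m, h1, h3, h4⟩
  prop := by
    intro X hTX hXH hle
    by_contra hcon
    obtain ⟨M₀, hM, huniq⟩ := c.uniq
    have h1 : X ≤ M₀ := huniq X hTX hXH fun h => hcon h.ge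
    have h2 : (H ⊓ centralizer (zl T H : Set G)) ⊔ T ≤ M₀ :=
      huniq _ le_sup_right (sup_le inf_le_left c.syl.1) hcs
    exact hM (hle.trans (sup_le h1 (le_sup_left.trans h2)))

/-- **Even-subset modules, `m ≥ 2`: `T` does not centralise `Ω₁(Z(J(T)))`.** -/
theorem no_sym (c : MinH H T) [Finite G]
    (hcs : (H ⊓ centralizer (zl T H : Set G)) ⊔ T ≠ H) (hoff : ∃ A ∈ AA T, Off (zl T H) A)
    (hno : NoOver (zl T H) H) (hk : 0 < k) (hm : 2 ≤ m)
    (N : SymK T H (zl T H) (cv T H) k m) (hz : ∀ z ∈ zj T, ∀ t ∈ T, t * z = z * t) : False := by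
  have h := syT c hcs hoff hno N hk (by omega) FFOf.cv_le FFOf.cv_norm
  obtain ⟨ι, J, X, Y, t, r, hc⟩ := h.exists_ch
  obtain ⟨j, x, y, hT⟩ := h.exists_tr
  obtain ⟨i, -⟩ := hc.ex j x y hT
  have hd := (hc.main h SymCyc.exists_pow).d_mem_Z i
  have htr := hc.tr i
  obtain ⟨h0x, h0y⟩ := SyT.Tr.ne h htr
  have hxy := htr.1
  -- a fourth point
  obtain ⟨z, hz0, hzx, hzy⟩ : ∃ z : Fin (2 ^ m + 1), z ≠ 0 ∧ z ≠ X i ∧ z ≠ Y i := by
    classical
    by_contra hcon
    push Not at hcon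
    have h1 : (Finset.univ : Finset (Fin (2 ^ m + 1))) ⊆ {0, X i, Y i} := by
      intro w _
      by_cases hw0 : w = 0
      · simp [hw0]
      by_cases hwx : w = X i
      · simp [hwx]
      · have := hcon w hw0 hwx
        simp [this]
    have h2 := Finset.card_le_card h1
    rw [Finset.card_univ, Fintype.card_fin] at h2
    have h3 : ({0, X i, Y i} : Finset (Fin (2 ^ m + 1))).card ≤ 3 := Finset.card_le_three
    have h4 : 2 ^ 2 ≤ 2 ^ m := Nat.pow_le_pow_right (by norm_num) hm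
    omega
  obtain ⟨g, hg, π, hgd, hπ⟩ := h.cyc_T SymCyc.exists_pow (J i) h0x.symm hz0
  have h1 := h.u_conj (h.TH hg) hgd.act (J i) (X i) (Y i)
  rw [Equiv.Perm.one_apply, Pi.mulSingle_eq_same, hπ] at h1
  have h2 := hz _ hd g hg
  have h3 : g * u H (zl T H) (cv T H) N.e (J i) (X i) (Y i) * g⁻¹ =
      u H (zl T H) (cv T H) N.e (J i) (X i) (Y i) := by rw [h2]; group
  rw [h3] at h1
  rcases (h.u_inj hxy h1).2 with ⟨h4, -⟩ | ⟨-, h4⟩
  · exact hzx h4.symm
  · exact hzy h4.symm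

end Cfsg.Agent.Omega.NO3S.OneLine

end

section


/-!
# LEMMA UNIQ at every level: the even-subset modules (module form)

`sym_moved` : `V_H / D` a sum of even-subset modules of `S_{2^m+1}`, `m ≥ 2`, and some offender of `T` on `V_H`: there
is `u ∈ V_H` which is centralised by all offenders `A ≤ T` and not by `T`.
-/

set_option autoImplicit false
set_option linter.unusedSectionVars false
set_option linter.unusedVariables false

namespace Cfsg.Agent.Omega.NO3S.OneLine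

open Subgroup Cfsg Cfsg.Agent.PLocal.ThompsonJ Cfsg.Agent.ZN Cfsg.Agent.ZN.ChoiceBase
open Cfsg.Agent.ZN.ChoiceSit
open Cfsg.Agent.Omega.SQ1 Cfsg.Agent.Omega.SQ1.FFOne Cfsg.Agent.Omega.SQ1.VOf Cfsg.Agent.Omega.SQ1.FFSym
open Cfsg.Agent.Omega.FFThm (ActsSym SymK SymKM OffM)
open Cfsg.Agent.Omega.FrameFF (cv)

universe v

variable {G : Type v} [Group G] {T H D : Subgroup G} {k m : ℕ}

/-- The module data. -/
theorem sy_of (c : MinH H T) [Finite G] (N : SymK T H (zl T H) D k m) (hk : 0 < k)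
    (hm : 1 ≤ m) (hDV : D ≤ zl T H) (hDn : ∀ h ∈ H, ∀ v ∈ D, h * v * h⁻¹ ∈ D) :
    Sy H (zl T H) D N.e where
  n3 := by
    have : 2 ≤ 2 ^ m := by
      calc 2 = 2 ^ 1 := (pow_one 2).symm
        _ ≤ 2 ^ m := Nat.pow_le_pow_right (by norm_num) hm
    omega
  n4 := by
    intro h4
    have h5 : 2 ∣ 2 ^ m := dvd_pow_self 2 (by omega)
    omega
  DV := hDV
  Vn := zl_norm
  Dn := hDn
  comm := MinH.comm c
  sq := MinH.sq c
  mul := N.mul
  even := N.even
  surj := N.surj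
  ker := N.ker
  lift := N.lift
  perm := N.perm
  cent := fun g hg h1 h2 => cent c N hk hm hDV hDn hg h1 h2

/-- `T` is transitive on the points different from `0` of every component. -/
theorem cyc_T' [Finite G] (c : MinH H T) (N : SymK T H (zl T H) D k m) (h : Sy H (zl T H) D N.e) (hm : 1 ≤ m)
    (j : Fin k) {x y : Fin (2 ^ m + 1)} (hx : x ≠ 0) (hy : y ≠ 0) :
    ∃ t ∈ T, ∃ π, Gd H (zl T H) D N.e (Pi.mulSingle j π) t ∧ π x = y := by
  obtain ⟨p, hpM, -, hp0, hpt⟩ := SymCyc.exists_cyc m hm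
  obtain ⟨g, hg⟩ := h.exists_gd (Pi.mulSingle j p)
  obtain ⟨n, hc, M', hN⟩ := SymCyc.exists_pow g m
  have hpc : p ^ n = p := by
    have hd := orderOf_dvd_of_pow_eq_one hpM
    have e1 : n % orderOf p = 1 % orderOf p := by
      have e2 := congrArg (· % orderOf p) hc
      simpa only [Nat.mod_mod_of_dvd _ hd] using e2
    have e2 := pow_mod_orderOf p n
    rw [e1] at e2
    rw [← e2, pow_mod_orderOf, pow_one]
  have h1 : Gd H (zl T H) D N.e (Pi.mulSingle j p) (g ^ n) := by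
    have := h.gd_pow hg n
    rw [← Pi.mulSingle_pow, hpc] at this
    exact this
  obtain ⟨s, hs, hsT⟩ := syl_elt c.syl h1.mem ⟨M', hN⟩
  obtain ⟨σ, τ, hsa⟩ := h.perm s hs
  have h2 := h.gd_conj_single hs hsa h1
  have h3 := N.fix0 _ hsT _ _ h2.act (σ j)
  rw [Pi.mulSingle_eq_same] at h3
  have h4 : (τ j)⁻¹ 0 = 0 := by
    apply hp0
    apply (τ j).injective
    rw [perm_inv_self]
    exact h3
  obtain ⟨t, ht, σ', τ', hta, hσ⟩ := N.trans (σ j) j
  have h5 := h.gd_conj_single (c.syl.1 ht) hta h2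
  have h6 := N.fix0 _ ht _ _ hta (σ j)
  rw [hσ] at h5
  set ρ := τ' (σ j) * τ j with hρ
  have hρ0 : ρ⁻¹ 0 = 0 := by
    rw [Equiv.Perm.inv_eq_iff_eq, hρ, Equiv.Perm.mul_apply]
    have : τ j 0 = 0 := by
      conv_lhs => rw [← h4]
      exact perm_inv_self _ _
    rw [this, h6]
  have h7 : τ' (σ j) * (τ j * p * (τ j)⁻¹) * (τ' (σ j))⁻¹ = ρ * p * ρ⁻¹ := by rw [hρ]; group
  rw [h7] at h5
  have hx' : ρ⁻¹ x ≠ 0 := fun e => hx (ρ⁻¹.injective (by rw [e, hρ0]))
  have hy' : ρ⁻¹ y ≠ 0 := fun e => hy (ρ⁻¹.injective (by rw [e, hρ0]))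
  obtain ⟨i, hi⟩ := hpt _ _ hx' hy'
  refine ⟨(t * (s * g ^ n * s⁻¹) * t⁻¹) ^ i,
    pow_mem (mul_mem (mul_mem ht hsT) (inv_mem ht)) i, (ρ * p * ρ⁻¹) ^ i, ?_, ?_⟩
  · have := h.gd_pow h5 i
    rwa [← Pi.mulSingle_pow] at this
  · rw [conj_pow, Equiv.Perm.mul_apply, Equiv.Perm.mul_apply, hi, perm_inv_self]

/-- The transpositions induced by `T` are disjoint. -/
theorem disj' {V : Subgroup G} {n : ℕ} {e : G → Fin k → Fin n → ZMod 2} (h : Sy H V D e) (hT : IsPGroup 2 T)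
    {j : Fin k} {x y z : Fin n} (h3 : x ≠ y) (h5 : x ≠ z) {t s : G} (ht : t ∈ T) (hs : s ∈ T)
    (h4 : Gd H V D e (Pi.mulSingle j (Equiv.swap x y)) t)
    (h6 : Gd H V D e (Pi.mulSingle j (Equiv.swap x z)) s) : y = z := by
  by_contra hyz
  have h7 := h.gd_mul h4 h6
  obtain ⟨N, hN⟩ := hT ⟨t * s, mul_mem ht hs⟩
  have hN' : (t * s) ^ 2 ^ N = 1 := by simpa using congrArg Subtype.val hN
  have h8 := h.gd_pow h7 (2 ^ N)
  rw [hN'] at h8
  have h9 := h.gd_unique h8 h.gd_one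
  rw [← Pi.mulSingle_mul, ← Pi.mulSingle_pow] at h9
  have h10 : (Equiv.swap x y * Equiv.swap x z) ^ 2 ^ N = 1 := by
    have := congrFun h9 j
    rwa [Pi.mulSingle_eq_same] at this
  have h11 : Equiv.swap x y * Equiv.swap x z = cyc y x z := by
    rw [cyc, Equiv.swap_comm x y]
  rw [h11] at h10
  have h12 : cyc y x z ^ 3 = 1 := by
    have := cyc_three h3.symm hyz h5
    rw [pow_succ, pow_two]
    exact this
  have h13 : cyc y x z = 1 := by
    have h14 := Nat.Coprime.pow_left N (show Nat.Coprime 2 3 by decide)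
    have h15 := pow_gcd_eq_one.2 ⟨h10, h12⟩
    rwa [h14, pow_one] at h15
  have h16 := cyc_a h3.symm hyz h5
  rw [h13, Equiv.Perm.one_apply] at h16
  exact h3 h16.symm

/-- **Even-subset modules, `m ≥ 2`.** -/
theorem sym_moved [Finite G] (c : MinH H T) (N : SymKM T H (zl T H) (cv T H) k m) (hk : 0 < k) (hm : 2 ≤ m)
    {A : Subgroup G} (hA : A ≤ T) (hoff : OffM (zl T H) A) :
    ∃ u ∈ zl T H, (∀ A' : Subgroup G, A' ≤ T → OffM (zl T H) A' → ∀ a ∈ A', a * u = u * a) ∧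
      ∃ s ∈ T, s * u ≠ u * s := by
  have h := sy_of c N.toSymK hk (by omega) FFOf.cv_le FFOf.cv_norm
  have hTH := c.syl.1
  -- a transposition in `A`
  obtain ⟨i, x, y, hxy, t, ht, htg⟩ : ∃ i x y, x ≠ y ∧ ∃ t ∈ A,
      Gd H (zl T H) (cv T H) N.e (Pi.mulSingle i (Equiv.swap x y)) t := by
    obtain ⟨hD, h2⟩ := N.offM A hA hoff
    by_contra hcon
    push Not at hcon
    apply hoff.ne
    intro a ha
    obtain ⟨τ, hτ, hτ'⟩ := h2 a ha
    have h1 : τ = 1 := by
      funext i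
      ext x
      by_contra hx
      have hx' : τ i x ≠ x := fun e => hx (by rw [e]; rfl)
      obtain ⟨-, b, hb, hb'⟩ := hτ' i x hx'
      exact hcon i x (τ i x) hx'.symm b hb ⟨hTH (hA hb), hD b hb, hb'⟩
    subst h1
    refine mem_centralizer_iff.2 fun v hv => ?_
    have h2 := h.gd_sim ⟨hTH (hA ha), hD a ha, hτ⟩ h.gd_one v hv
    symm
    calc a * v = (a * v * a⁻¹) * a := by group
      _ = v * a := by rw [h2]; group
  have hx0 : x ≠ 0 := by
    rintro rfl
    have h4 := N.fix0 t (hA ht) _ _ htg.act i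
    rw [Pi.mulSingle_eq_same, Equiv.swap_apply_left] at h4
    exact hxy h4.symm
  refine ⟨u H (zl T H) (cv T H) N.e i x y, h.u_mem i x y, ?_, ?_⟩
  · intro A' hA' hoff' a ha
    obtain ⟨hD, h2⟩ := N.offM A' hA' hoff'
    obtain ⟨τ, hτ, hτ'⟩ := h2 a ha
    have h1 := h.u_conj (hTH (hA' ha)) hτ i x y
    rw [Equiv.Perm.one_apply] at h1
    -- `τ` preserves `{x, y}`
    have hkey : ∀ x y : Fin (2 ^ m + 1), x ≠ y →
        (∃ t ∈ T, Gd H (zl T H) (cv T H) N.e (Pi.mulSingle i (Equiv.swap x y)) t) → τ i x = x ∨ τ i x = y := by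
      rintro x y hxy ⟨t, ht, htg⟩
      by_cases hx : τ i x = x
      · exact Or.inl hx
      · right
        obtain ⟨-, b, hb, hb'⟩ := hτ' i x hx
        exact (disj' h c.syl.2.1 hxy (Ne.symm hx) ht (hA' hb) htg ⟨hTH (hA' hb), hD b hb, hb'⟩).symm
    have h3 := hkey x y hxy ⟨t, hA ht, htg⟩
    have h4 := hkey y x hxy.symm ⟨t, hA ht, by rwa [Equiv.swap_comm]⟩
    have h5 : u H (zl T H) (cv T H) N.e i (τ i x) (τ i y) = u H (zl T H) (cv T H) N.e i x y := by
      rcases h3 with h3 | h3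
      · rcases h4 with h4 | h4
        · rw [h3, h4]
        · exfalso
          exact hxy ((τ i).injective (h3.trans h4.symm))
      · rcases h4 with h4 | h4
        · exfalso
          exact hxy ((τ i).injective (h3.trans h4.symm))
        · rw [h3, h4, h.u_symm]
    rw [h5] at h1
    calc a * u H (zl T H) (cv T H) N.e i x y =
        (a * u H (zl T H) (cv T H) N.e i x y * a⁻¹) * a := by group
      _ = _ := by rw [h1]
  · -- a fourth point
    obtain ⟨z, hz0, hzx, hzy⟩ : ∃ z : Fin (2 ^ m + 1), z ≠ 0 ∧ z ≠ x ∧ z ≠ y := by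
      classical
      by_contra hcon
      push Not at hcon
      have h1 : (Finset.univ : Finset (Fin (2 ^ m + 1))) ⊆ {0, x, y} := by
        intro w _
        by_cases hw0 : w = 0
        · simp [hw0]
        by_cases hwx : w = x
        · simp [hwx]
        · have := hcon w hw0 hwx
          simp [this]
      have h2 := Finset.card_le_card h1
      rw [Finset.card_univ, Fintype.card_fin] at h2
      have h3 : ({0, x, y} : Finset (Fin (2 ^ m + 1))).card ≤ 3 := Finset.card_le_three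
      have h4 : 2 ^ 2 ≤ 2 ^ m := Nat.pow_le_pow_right (by norm_num) hm
      omega
    obtain ⟨g, hg, π, hgd, hπ⟩ := cyc_T' c N.toSymK h (by omega) i hx0 hz0
    refine ⟨g, hg, fun hcon => ?_⟩
    have h1 := h.u_conj (hTH hg) hgd.act i x y
    rw [Equiv.Perm.one_apply, Pi.mulSingle_eq_same, hπ] at h1
    have h3 : g * u H (zl T H) (cv T H) N.e i x y * g⁻¹ = u H (zl T H) (cv T H) N.e i x y := by
      rw [hcon]; group
    rw [h3] at h1
    rcases (h.u_inj hxy h1).2 with ⟨h4, -⟩ | ⟨-, h4⟩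
    · exact hzx h4.symm
    · exact hzy h4.symm

end Cfsg.Agent.Omega.NO3S.OneLine

end
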