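import Cfsg.Agent.Mrg.Omega.NO3S.OneLine.Nat
import Cfsg.Agent.Mrg.Omega.NO3S.OneLine.Sym
import Cfsg.Agent.Mrg.Omega.NO3S.OneLine.OfP
import Cfsg.Agent.Mrg.Omega.NO3S.OneLine.Abs
import Cfsg.Agent.Mrg.Omega.NO3S.Fld.Mods

section


/-!
# LEMMA UNIQ at every level (helper781 #16560 (3); helper44 #14528)

`X` an elementary abelian subgroup of `S` which is normalised by all members `R` of `P*(S)` and contains
`Ω₁(Z(O₂(R)))`; some best offender of `S` on `X` is not contained in `O₂(P)`, `V_P` natural, `|Z| = q`: then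
`V_R = V_P` and `C_Z(R) = 1` for all `R ∈ P*(S)`.

* `n1_of_star_fam` : the members of `P*(S)` if `C_X(AA) = Z`;
* `uniq_fam` : LEMMA UNIQ for a family `AA` of best offenders;
* `uniq_bo` : LEMMA UNIQ for the best offenders on `X`;
* `uniq_lev` : LEMMA UNIQ for the level `K` of `Level/Basic.lean`.
-/

set_option autoImplicit false
set_option linter.unusedSectionVars false
set_option linter.unusedVariables false

namespace Cfsg.Agent.Omega.NO3S.OneLine

open Subgroup Cfsg Cfsg.Agent.ZN Cfsg.Agent.ZN.ChoiceBase Cfsg.Agent.Omega.MinPar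
open Cfsg.Agent.ZN.ChoiceSit (Syl o2_le_syl)
open Cfsg.Agent.Omega.SQ1.Bau (mem_AA_of_comm zj_le_AA elem_comm elem_sq)
open Cfsg.Agent.PLocal.ElemAbSup Cfsg.Agent.PLocal.ThompsonJ
open Cfsg.Agent.MinSimple.VModule (zc_le zc_le_zl zl_le le_o2 le_normalizer_zl le_normalizer_o2)
open Cfsg.Agent.Omega.SQ1.FFOne Cfsg.Agent.Lib.SL2Mat
open Cfsg.Agent.Omega.FFThm (NatK SymK NatKM SymKM OffM ElemM StmtM)
open Cfsg.Agent.Omega.FrameFF (cv)

universe u

variable {G : Type u} [Group G] [Finite G] {S : Sylow 2 G} {P R : Subgroup G} {X L : Subgroup G}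
  {AA : Set (Subgroup G)}

/-- Members of the family are offenders in the sense of the FF theorem. -/
theorem BFam.offM {T Y A : Subgroup G} (h : BFam T X L AA) (hX : ∀ x ∈ X, ∀ y ∈ X, x * y = y * x) (hYX : Y ≤ X)
    (hA : A ∈ AA) (hne : ¬ A ≤ centralizer (Y : Set G)) : OffM Y A :=
  ⟨elemM_mono (h.elem A hA) hYX le_rfl, hne, h.off hX hYX hA⟩

/-- **The members of `P*(S)` if `C_X(AA) = Z`.** -/
theorem n1_of_star_fam (hFF : StmtM.{u}) (hG : IsCharacteristicTwoType G)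
    (hB : BFam (S : Subgroup G) X L AA) (hX : IsElementaryAbelian 2 X) (hR : IsParS (S : Subgroup G) R)
    (hRX : R ≤ normalizer (X : Set G)) (hRL : R ≤ L) (hQX : zc (o2 R) ≤ X)
    (hz : X ⊓ centralizer ((sSup AA : Subgroup G) : Set G) = zc (S : Subgroup G)) :
    (∃ A ∈ AA, ¬ A ≤ o2 R) ∧ ∃ (V0 : Subgroup G) (q : ℕ), 2 ≤ q ∧ N1 (S : Subgroup G) R V0 q := by
  have hXc : ∀ x ∈ X, ∀ y ∈ X, x * y = y * x := elem_comm hX
  have hsyl := syl_of hR
  have hch := hR.isLoc.char2 S hG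
  have hmin := hR.toIsMinPar
  have hm := minH hG hR
  have hQS := o2_le_syl hsyl
  have hJ : ∃ A ∈ AA, ¬ A ≤ o2 R := by
    by_contra hcon
    push Not at hcon
    apply hR.not_zc
    rw [← hz]
    intro g hg
    apply mem_normalizer_of_cj_le
    rw [cj_inf, cj_eq_of_mem_normalizer (hRX hg)]
    refine inf_le_inf_left _ ?_
    intro y hy
    rw [mem_cj, mem_cent_sSup] at hy
    rw [mem_cent_sSup]
    intro B hB' b hb
    have h1 : cj g⁻¹ B ≤ o2 R := by
      have h2 := cj_mono g⁻¹ (hcon B hB')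
      rwa [cj_eq_of_mem_normalizer (le_normalizer_o2 R (inv_mem hg))] at h2
    have h2 := hB.conj B hB' g⁻¹ (hRL (inv_mem hg)) (h1.trans hQS)
    have h3 := hy _ h2 (g⁻¹ * b * g) (by rw [mem_cj]; have e : g⁻¹⁻¹ * (g⁻¹ * b * g) * g⁻¹ = b := by group
                                         rwa [e])
    calc b * y = g * ((g⁻¹ * b * g) * (g⁻¹ * y * g)) * g⁻¹ := by group
      _ = g * ((g⁻¹ * y * g) * (g⁻¹ * b * g)) * g⁻¹ := by rw [h3]
      _ = y * b := by group
  refine ⟨hJ, ?_⟩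
  obtain ⟨A, hA, hAQ⟩ := hJ
  have hVX : zl (S : Subgroup G) R ≤ X := (hR.isLoc.zl_le S hG).trans hQX
  have hAV : ¬ A ≤ centralizer (zl (S : Subgroup G) R : Set G) := by
    intro h1
    apply hAQ
    rw [← IsParS.inf_centralizer S hG hR]
    exact le_inf (hB.le A hA) h1
  have hoff := hB.offM hXc hVX hA hAV
  obtain ⟨hno, hcon⟩ := hFF G (S : Subgroup G) R hsyl hmin hch ⟨A, (hB.le A hA).trans hsyl.1, hoff⟩
  have hVS : zl (S : Subgroup G) R ≤ (S : Subgroup G) := (SQ1.VOf.MinH.zl_le_o2 hm).trans hQS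
  rcases hcon with ⟨F, _, _, _, k, hk, ⟨M⟩⟩ | ⟨k, m, hk, hm2, ⟨M⟩⟩
  · have : Nonempty (Fin k) := ⟨⟨0, hk⟩⟩
    have hV1 : ∀ v ∈ zl (S : Subgroup G) R, (∀ i, M.e v i 1 = 0) → v ∈ zc (S : Subgroup G) := by
      intro v hv hi
      rw [← hz]
      refine ⟨hVX hv, mem_cent_sSup.2 fun B hB' b hb => ?_⟩
      by_cases hBV : B ≤ centralizer (zl (S : Subgroup G) R : Set G)
      · exact (mem_centralizer_iff.1 (hBV hb) v hv).symm
      · obtain ⟨I, h1, h2⟩ := M.offM B (hB.le B hB') (hB.offM hXc hVX hB' hBV)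
        exact (natC_of hm hk M.toNatK).cent_line hm (hB.le B hB') (hB.off hXc hVX hB') h1 h2 hv hi hb
    obtain rfl : k = 1 := by
      by_contra hk1
      obtain ⟨i, j, hij⟩ : ∃ i j : Fin k, i ≠ j :=
        ⟨⟨0, hk⟩, ⟨1, by omega⟩, fun h => by simpa using congrArg Fin.val h⟩
      classical
      obtain ⟨t, ht, htr⟩ := M.trans i j
      obtain ⟨v, hv, hev⟩ := M.surj (Pi.single j ![1, 0])
      have hvZ : v ∈ zc (S : Subgroup G) := by
        refine hV1 v hv fun l => ?_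
        rw [hev]
        by_cases hl : l = j
        · subst hl; rw [Pi.single_eq_same]; rfl
        · rw [Pi.single_eq_of_ne hl]; rfl
      have h1 : M.e v i = 0 := by rw [hev, Pi.single_eq_of_ne hij]
      have h2 := (htr v hv).2 h1
      have h3 : t * v * t⁻¹ = v := by rw [(mem_zc.1 hvZ).2.2 t ht]; group
      rw [h3, hev, Pi.single_eq_same] at h2
      exact one_ne_zero (congrFun h2 0)
    refine ⟨cv (S : Subgroup G) R, Nat.card F, Finite.one_lt_card, n1_of hR hm (secK M.toNatK) ?_ ?_⟩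
    · intro v hv h1
      refine hV1 v hv fun i => ?_
      rw [Subsingleton.elim i 0]
      exact h1
    · intro b
      obtain ⟨t, ht, h1⟩ := M.unip fun _ => b
      exact ⟨t, ht, fun v hv => h1.1 v hv 0⟩
  · exfalso
    obtain ⟨u, hu, hc, s, hs, hsu⟩ := sym_moved hm M hk hm2 (hB.le A hA) hoff
    have huZ : u ∈ zc (S : Subgroup G) := by
      rw [← hz]
      refine ⟨hVX hu, mem_cent_sSup.2 fun B hB' b hb => ?_⟩
      by_cases hBV : B ≤ centralizer (zl (S : Subgroup G) R : Set G)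
      · exact (mem_centralizer_iff.1 (hBV hb) u hu).symm
      · exact hc B (hB.le B hB') (hB.offM hXc hVX hB' hBV) b hb
    exact hsu ((mem_zc.1 huZ).2.2 s hs)

/-- `V_L ≤ X` if `L` normalises `X ≥ Z`. -/
theorem zl_le_of_norm {T M Y : Subgroup G} (h : zc T ≤ Y) (hM : M ≤ normalizer (Y : Set G)) : zl T M ≤ Y := by
  refine iSup_le fun g => ?_
  have h1 : cj (g : G) (zc T) ≤ cj (g : G) Y := cj_mono _ h
  rw [cj_eq_of_mem_normalizer (hM g.2)] at h1
  exact h1

/-- **LEMMA UNIQ for a family of best offenders.** -/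
theorem uniq_fam (hFF : StmtM.{u}) (hG : IsCharacteristicTwoType G) (hF : ¬ FF (S : Subgroup G)) {q : ℕ}
    (h : N1 (S : Subgroup G) P ⊥ q) (hB : BFam (S : Subgroup G) X L AA) (hX : IsElementaryAbelian 2 X)
    (hXS : X ≤ (S : Subgroup G))
    (hpar : ∀ R : Subgroup G, IsParS (S : Subgroup G) R → R ≤ normalizer (X : Set G) ∧ R ≤ L ∧ zc (o2 R) ≤ X)
    (hJ : ∃ A ∈ AA, ¬ A ≤ o2 P) : Uniq (S : Subgroup G) P := by
  have hXc : ∀ x ∈ X, ∀ y ∈ X, x * y = y * x := elem_comm hX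
  obtain ⟨hPX, hPL, hPQ⟩ := hpar P h.blk.star
  obtain ⟨A, hA, hAQ⟩ := hJ
  have hz := Blk.cent_fam hG h.blk hB hX hXS hPX hPL hPQ (eq_bot_iff.2 h.cen) hA hAQ
  have hsq : Nat.card (zl (S : Subgroup G) P) = Nat.card (zc (S : Subgroup G)) ^ 2 := by
    have h1 := h.cz
    rw [Subgroup.card_bot, one_mul] at h1
    rw [h.cv, ← h1, pow_two]
  have hT := Blk.zc_o2_fam hG h.blk hB hXc hPQ hA hAQ
  have hZX : zc (S : Subgroup G) ≤ X := hz ▸ inf_le_left
  have key : ∀ R : Subgroup G, IsParS (S : Subgroup G) R → zl (S : Subgroup G) R = zl (S : Subgroup G) P ∧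
      zc (S : Subgroup G) ⊓ centralizer (R : Set G) = ⊥ := by
    intro R hR
    obtain ⟨hRX, hRL, hRQ⟩ := hpar R hR
    obtain ⟨⟨A', hA', hAQ'⟩, V0, q', hq', h'⟩ := n1_of_star_fam hFF hG hB hX hR hRX hRL hRQ hz
    have hT' := Blk.zc_o2_fam hG h'.blk hB hXc hRQ hA' hAQ'
    have h1 := one_line_fam hG hF h.blk h'.blk
      (hB.mono hXc (zl_le_of_norm hZX (sup_le hPX hRX)) (sup_le hPL hRL)) ⟨A, hA, hAQ⟩ hT hT' hsq
      (eq_bot_iff.2 h.cen) h'.card_le
    refine ⟨h1, h'.cen_eq (by omega) ?_⟩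
    rw [h1, hsq]
  exact ⟨fun R hR => (key R hR).1, fun R hR => (key R hR).2⟩

/-- **LEMMA UNIQ for the best offenders on `X`.** -/
theorem uniq_bo (hFF : StmtM.{u}) (hG : IsCharacteristicTwoType G) (hF : ¬ FF (S : Subgroup G)) {q : ℕ}
    (h : N1 (S : Subgroup G) P ⊥ q) (hX : IsElementaryAbelian 2 X) (hXS : X ≤ (S : Subgroup G))
    (hpar : ∀ R : Subgroup G, IsParS (S : Subgroup G) R → R ≤ normalizer (X : Set G) ∧ zc (o2 R) ≤ X)
    (hJ : ∃ A ∈ bo (S : Subgroup G) X, ¬ A ≤ o2 P) : Uniq (S : Subgroup G) P :=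
  uniq_fam hFF hG hF h (bo_fam _ _) hX hXS (fun R hR => ⟨(hpar R hR).1, (hpar R hR).1, (hpar R hR).2⟩) hJ

theorem bo_eq (T K : Subgroup G) : Level.BO T K = bo T (zc K) := by
  ext A
  constructor
  · rintro ⟨h1, h2⟩
    exact ⟨h1, h2.toElemM, fun B h3 h4 => h2.max B h4 h3⟩
  · rintro ⟨h1, h2, h3⟩
    exact ⟨h1, h2, fun B h4 h5 => h3 B h5 h4⟩

/-- **LEMMA UNIQ at the level `K`**: `K ≤ O₂(R)` for all `R ∈ P*(S)`, some best offender on `Ω₁(Z(K))` is not in
`O₂(P)`. -/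
theorem uniq_lev (hFF : StmtM.{u}) (hG : IsCharacteristicTwoType G) (hF : ¬ FF (S : Subgroup G)) {q : ℕ}
    (h : N1 (S : Subgroup G) P ⊥ q) {K : Subgroup G} (hL : Level.Lev (S : Subgroup G) K)
    (hpar : ∀ R : Subgroup G, IsParS (S : Subgroup G) R → K ≤ o2 R)
    (hJ : ∃ A ∈ Level.BO (S : Subgroup G) K, ¬ A ≤ o2 P) : Uniq (S : Subgroup G) P := by
  refine uniq_bo hFF hG hF h (zc_elem K) ((zc_le K).trans hL.le) (fun R hR => ?_) (bo_eq _ K ▸ hJ)
  have hQS := o2_le S hR.toIsPar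
  exact ⟨(hL.le_norm_of_o2 (hpar R hR) hQS).trans (Level.normalizer_le_zc K), hL.zc_o2_le (hpar R hR) hQS⟩

/-- **LEMMA UNIQ at the level `n + 1`**, `V_P` natural, `|Z| = q`. -/
theorem uniq_succ (hFF : StmtM.{u}) (hG : IsCharacteristicTwoType G) (hF : ¬ FF (S : Subgroup G))
    (hP : IsParS (S : Subgroup G) P) {F : Type} [Field F] [Finite F] [CharP F 2]
    (N : NatP F (zl (S : Subgroup G) P) P) (hc : Nat.card (zc (S : Subgroup G)) = Nat.card F) (n : ℕ)
    (hpar : ∀ R : Subgroup G, IsParS (S : Subgroup G) R → Level.lev (S : Subgroup G) n ≤ o2 R)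
    (hn : ¬ Level.lev (S : Subgroup G) (n + 1) ≤ o2 P) : Uniq (S : Subgroup G) P := by
  have hL := Level.lev_isLev (S : Subgroup G) n
  refine uniq_lev hFF hG hF (n1_of_natP hG hP (minH hG hP) N hc) hL hpar ?_
  by_contra hcon
  push Not at hcon
  apply hn
  refine sup_le ?_ (sSup_le hcon)
  have hQS := o2_le S hP.toIsPar
  have h1 : zl (S : Subgroup G) P ≤ zc (Level.lev (S : Subgroup G) n) :=
    (hP.isLoc.zl_le S hG).trans (hL.zc_o2_le (hpar P hP) hQS)
  rw [← IsParS.inf_centralizer S hG hP]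
  exact inf_le_inf_left _ (centralizer_le h1)

end Cfsg.Agent.Omega.NO3S.OneLine

end

section


/-!
# The levels for sums of natural `SL₂(q)`-modules: `Ω₁(Z(O₂(P))) = V_P`

`V_P / C_V(O²(P))` a sum of `k` natural `SL₂(F)`-modules (`NatKM`), `C_Z(P) = 1`, a family `AA` of best offenders of
`S` with a member outside `O₂(P)`:

* `Exa.cv_eq_bot` : `C_V(O²(P)) = 1`;
* `Exa.zc_o2_nat` : `Ω₁(Z(O₂(P))) = V_P`;
* `Exa.cent_nat` : `C_X(AA) = C_V(AA) = {v ∈ V | ∀ i, e v i 1 = 0}`.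
-/

set_option autoImplicit false
set_option linter.unusedSectionVars false
set_option linter.unusedVariables false

namespace Cfsg.Agent.Omega.NO3S.OneLine

open Subgroup Cfsg Cfsg.Agent.PLocal.ThompsonJ Cfsg.Agent.ZN Cfsg.Agent.ZN.ChoiceBase Cfsg.Agent.Omega.MinPar
open Cfsg.Agent.ZN.ChoiceSit
open Cfsg.Agent.Omega.NatPair (ap ap_zero' ap_one' ap_one ap_mul ext2)
open Cfsg.Agent.Lib.SL2Mat
open Cfsg.Agent.Omega.SQ1.FFOne
open Cfsg.Agent.Omega.SQ1.Bau (elem_comm elem_sq)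
open Cfsg.Agent.MinSimple.VModule (zc_le zc_le_zl zl_le le_o2 le_normalizer_zl)
open Cfsg.Agent.Omega.FFThm (NatK ActsSL Off OffM NatKM ElemM NoOverM)
open Cfsg.Agent.Omega.FrameFF (cv)

universe u

variable {G : Type u} [Group G] [Finite G] {S : Sylow 2 G} {P X L : Subgroup G} {AA : Set (Subgroup G)}

namespace NatC

variable {F : Type} [Field F] {T H V D : Subgroup G} {k : ℕ} (M : NatC F T H V D k)
include M

theorem e_inj (hD : D = ⊥) {v w : G} (hv : v ∈ V) (hw : w ∈ V) (he : M.nat.e v = M.nat.e w) : v = w := by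
  have h1 : v * w⁻¹ ∈ D := by
    rw [← M.nat.ker _ (mul_mem hv (inv_mem hw)), M.map_div hv hw, he, sub_self]
  rw [hD, mem_bot] at h1
  exact mul_inv_eq_one.1 h1

theorem acts_eq (hD : D = ⊥) {g h : G} (hg : g ∈ H) (hh : h ∈ H)
    {A : Fin k → Matrix.SpecialLinearGroup (Fin 2) F} (hgA : M.Acts g A) (hhA : M.Acts h A) {v : G} (hv : v ∈ V) :
    g * v * g⁻¹ = h * v * h⁻¹ := by
  refine M.e_inj hD (M.Vn g hg v hv) (M.Vn h hh v hv) ?_
  funext i
  rw [hgA v hv i, hhA v hv i]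

end NatC

theorem single_acts {F : Type} [Field F] {k : ℕ} (j : Fin k) (b : F) :
    (fun i => up ((Pi.single j b : Fin k → F) i)) = Pi.mulSingle j (up b) := by
  classical
  funext i
  by_cases hi : i = j
  · subst hi; rw [Pi.single_eq_same, Pi.mulSingle_eq_same]
  · rw [Pi.single_eq_of_ne hi, Pi.mulSingle_eq_of_ne hi, up_zero]

namespace Exa

variable (h : Exa S P X L AA) {F : Type} [Field F] [Finite F] [CharP F 2] {k : ℕ}
include h

theorem minH' : MinH P (S : Subgroup G) := minH h.char2 h.star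

/-- members of the family outside `O₂(P)` are offenders -/
theorem offM {A : Subgroup G} (hA : A ∈ AA) (hAQ : ¬ A ≤ o2 P) : OffM (zl (S : Subgroup G) P) A := by
  refine h.fam.offM h.Xc h.VX hA fun h1 => hAQ ?_
  rw [← IsParS.inf_centralizer S h.char2 h.star]
  exact le_inf (h.fam.le A hA) h1

theorem cent_of_le {A : Subgroup G} (hAQ : A ≤ o2 P) : ∀ a ∈ A, ∀ v ∈ zl (S : Subgroup G) P, a * v = v * a :=
  fun a ha v hv => h.comm_Q a (hAQ ha) v hv

/-- `C_V(O²(P)) = 1` -/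
theorem cv_eq_bot_of (hD : ∀ A ∈ AA, ¬ A ≤ o2 P → ∀ a ∈ A, ∀ d ∈ cv (S : Subgroup G) P, a * d = d * a) :
    cv (S : Subgroup G) P = ⊥ := by
  have hle : cv (S : Subgroup G) P ≤ zl (S : Subgroup G) P := inf_le_left
  refine h.eq_bot (hle.trans h.VX) ?_ ?_
  · intro p hp
    rw [mem_normalizer_iff]
    intro x
    refine ⟨fun hx => SQ1.FFOf.cv_norm p hp x hx, fun hx => ?_⟩
    have := SQ1.FFOf.cv_norm p⁻¹ (inv_mem hp) _ hx
    have e : p⁻¹ * (p * x * p⁻¹) * p⁻¹⁻¹ = x := by group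
    rwa [e] at this
  · intro e he A hA a ha
    by_cases hAQ : A ≤ o2 P
    · exact h.cent_of_le hAQ a ha e (hle he)
    · exact hD A hA hAQ a ha e he

theorem cv_eq_bot (N : NatKM F (S : Subgroup G) P (zl (S : Subgroup G) P) (cv (S : Subgroup G) P) k) :
    cv (S : Subgroup G) P = ⊥ := h.cv_eq_bot_of fun A hA hAQ a ha d hd => by
  obtain ⟨I, h1, -⟩ := N.offM A (h.fam.le A hA) (h.offM hA hAQ)
  obtain ⟨b, -, hb⟩ := h1 a ha
  exact hb.2 d hd

/-- for every `j` some `A ∈ AA` contains the full root group `j` -/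
theorem exists_root (N : NatKM F (S : Subgroup G) P (zl (S : Subgroup G) P) (cv (S : Subgroup G) P) k) (hk : 0 < k)
    (j : Fin k) : ∃ A ∈ AA, ∀ b : F, ∃ a ∈ A,
      ActsSL N.e (zl (S : Subgroup G) P) (cv (S : Subgroup G) P) a (Pi.mulSingle j (up b)) := by
  classical
  have hm := h.minH'
  set M := natC_of hm hk N.toNatK with hM
  obtain ⟨A, hA, hAQ⟩ := h.ex
  obtain ⟨I, h1, h2⟩ := N.offM A (h.fam.le A hA) (h.offM hA hAQ)
  obtain ⟨i, hi⟩ : I.Nonempty := by
    by_contra hcon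
    rw [Set.not_nonempty_iff_eq_empty] at hcon
    apply (h.offM hA hAQ).ne
    intro a ha
    obtain ⟨b, hb0, hb⟩ := h1 a ha
    have hb1 : b = 0 := by
      funext l
      exact hb0 l (by rw [hcon]; simp)
    subst hb1
    have hs : a ∈ M.stab := by
      refine ⟨h.SP (h.fam.le A hA ha), fun w hw l => ?_, hb.2⟩
      have h5 : N.e (a * w * a⁻¹) l = ap (up ((0 : Fin k → F) l)) (N.e w l) := hb.1 w hw l
      rw [Pi.zero_apply, up_zero] at h5
      exact h5
    exact mem_centralizer_iff.2 fun w hw => (M.cent_of_stab hm hs hw).symm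
  obtain ⟨t, ht, htr⟩ := N.trans i j
  have hcj : cj t A ≤ (S : Subgroup G) := by
    have h3 := cj_mono t (h.fam.le A hA)
    rwa [cj_eq_of_mem_normalizer (le_normalizer ht : t ∈ normalizer ((S : Subgroup G) : Set G))] at h3
  have hA' := h.fam.conj A hA t (h.PL (h.SP ht)) hcj
  have hAQ' : ¬ cj t A ≤ o2 P := by
    intro h3
    apply hAQ
    have h4 := cj_mono t⁻¹ h3
    rw [cj_inv_cj, cj_eq_of_mem_normalizer (le_normalizer_o2 P (h.SP (inv_mem ht)))] at h4
    exact h4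
  obtain ⟨I', h1', h2'⟩ := N.offM (cj t A) hcj (h.offM hA' hAQ')
  have hj : j ∈ I' := by
    by_contra hj
    obtain ⟨a, ha, hac⟩ := h2 (Pi.single i 1) fun l hl => by
      rw [Pi.single_eq_of_ne]
      rintro rfl
      exact hl hi
    rw [single_acts] at hac
    obtain ⟨v, hv, hev⟩ := N.surj (Pi.single i ![0, 1])
    have haP := h.SP (h.fam.le A hA ha)
    have hav := conj_mem h.PV haP hv
    have htP := h.SP ht
    have hu : a * v * a⁻¹ * v⁻¹ ∈ zl (S : Subgroup G) P := mul_mem hav (inv_mem hv)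
    have htv := conj_mem h.PV htP hv
    have ha' : t * a * t⁻¹ ∈ cj t A := ⟨a, ha, rfl⟩
    obtain ⟨b', hb0, hb'⟩ := h1' _ ha'
    have h3 : N.e (t * (a * v * a⁻¹ * v⁻¹) * t⁻¹) j = 0 := by
      have e1 : t * (a * v * a⁻¹ * v⁻¹) * t⁻¹ =
          (t * a * t⁻¹) * (t * v * t⁻¹) * (t * a * t⁻¹)⁻¹ * (t * v * t⁻¹)⁻¹ := by group
      have h4 : (t * a * t⁻¹) * (t * v * t⁻¹) * (t * a * t⁻¹)⁻¹ ∈ zl (S : Subgroup G) P :=
        conj_mem h.PV (h.SP (hcj ha')) htv
      have h5 : N.e ((t * a * t⁻¹) * (t * v * t⁻¹) * (t * a * t⁻¹)⁻¹) j =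
          ap (up (b' j)) (N.e (t * v * t⁻¹) j) := hb'.1 _ htv j
      have hd : N.e ((t * a * t⁻¹) * (t * v * t⁻¹) * (t * a * t⁻¹)⁻¹ * (t * v * t⁻¹)⁻¹) =
          N.e ((t * a * t⁻¹) * (t * v * t⁻¹) * (t * a * t⁻¹)⁻¹) - N.e (t * v * t⁻¹) := M.map_div h4 htv
      rw [e1, hd, Pi.sub_apply, h5, hb0 j hj, up_zero, ap_one, sub_self]
    have h6 := (htr _ hu).1 h3
    rw [show N.e (a * v * a⁻¹ * v⁻¹) = N.e (a * v * a⁻¹) - N.e v from M.map_div hav hv] at h6
    have h7 : N.e (a * v * a⁻¹) i = ap ((Pi.mulSingle i (up 1) : Fin k → _) i) (N.e v i) := hac.1 v hv i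
    rw [Pi.sub_apply, h7, Pi.mulSingle_eq_same, hev, Pi.single_eq_same] at h6
    have h8 := congrFun h6 0
    rw [Pi.sub_apply, ap_zero', up_00, up_01] at h8
    simp at h8
  refine ⟨cj t A, hA', fun b => ?_⟩
  obtain ⟨a, ha, hac⟩ := h2' (Pi.single j b) fun l hl => by
    rw [Pi.single_eq_of_ne]
    rintro rfl
    exact hl hj
  rw [single_acts] at hac
  exact ⟨a, ha, hac⟩

open Classical in
/-- the elements of `N₀` which act as `f b` on the block `j` and trivially on the other blocks -/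
def EU (h : Exa S P X L AA) (M : NatC F (S : Subgroup G) P (zl (S : Subgroup G) P) (cv (S : Subgroup G) P) k)
    (j : Fin k) (f : F → Matrix.SpecialLinearGroup (Fin 2) F) (hf : ∀ a b, f a * f b = f (a + b)) :
    Subgroup G where
  carrier := {g | g ∈ h.N0 ∧ ∃ b, M.Acts g (Pi.mulSingle j (f b))}
  mul_mem' := by
    rintro x y ⟨hx, a, ha⟩ ⟨hy, b, hb⟩
    refine ⟨mul_mem hx hy, a + b, ?_⟩
    have := NatC.acts_mul (M := M) hy.1 ha hb
    rwa [← Pi.mulSingle_mul, hf] at this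
  one_mem' := by
    refine ⟨one_mem _, 0, ?_⟩
    have h0 : f 0 = 1 := by
      have := hf 0 0
      rw [add_zero] at this
      exact mul_eq_left.1 this
    rw [h0, Pi.mulSingle_one]
    exact NatC.acts_one
  inv_mem' := by
    rintro x ⟨hx, a, ha⟩
    refine ⟨inv_mem hx, -a, ?_⟩
    have h0 : f 0 = 1 := by
      have := hf 0 0
      rw [add_zero] at this
      exact mul_eq_left.1 this
    have h1 : f (-a) = (f a)⁻¹ := by
      rw [eq_inv_iff_mul_eq_one, hf, neg_add_cancel, h0]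
    have := NatC.acts_inv (M := M) hx.1 ha
    rw [h1]
    rwa [← Pi.mulSingle_inv] at this

/-- **(T6) `Ω₁(Z(O₂(P))) = V_P`** for sums of natural modules. -/
theorem zc_o2_nat (N : NatKM F (S : Subgroup G) P (zl (S : Subgroup G) P) (cv (S : Subgroup G) P) k) (hk : 0 < k) :
    zc (o2 P) = zl (S : Subgroup G) P := by
  classical
  have hm := h.minH'
  have hD := h.cv_eq_bot N
  set V := zl (S : Subgroup G) P with hV
  let M : NatC F (S : Subgroup G) P V (cv (S : Subgroup G) P) k := natC_of hm hk N.toNatK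
  -- the blocks
  let E : Fin k × Bool → Subgroup G := fun p =>
    if p.2 then h.EU M p.1 lo lo_mul else h.EU M p.1 up up_mul
  have hEt : ∀ j, E (j, true) = h.EU M j lo lo_mul := fun j => if_pos rfl
  have hEf : ∀ j, E (j, false) = h.EU M j up up_mul := fun j => if_neg (by simp)
  have hE0 : ∀ p, E p ≤ h.N0 := by
    rintro ⟨j, (_ | _)⟩
    · rw [hEf]; exact fun g hg => hg.1
    · rw [hEt]; exact fun g hg => hg.1
  -- elements of `N₀` which agree on `V` agree on `Ω₁(Z(Q))`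
  have hagree : ∀ g ∈ h.N0, ∀ m ∈ h.N0, (∀ v ∈ V, g * v * g⁻¹ = m * v * m⁻¹) → ∀ y ∈ zc (o2 P),
      m * y = y * m → g * y = y * g := by
    intro g hg m hm' hgm y hy hmy
    have h1 := h.cent_zcQ (mul_mem (inv_mem hm') hg) (fun u hu => by
      have h8 := hgm u hu
      calc m⁻¹ * g * u = m⁻¹ * (g * u * g⁻¹) * g := by group
        _ = m⁻¹ * (m * u * m⁻¹) * g := by rw [h8]
        _ = _ := by group) y hy
    have c1 : Commute m y := hmy
    have c2 : Commute (m⁻¹ * g) y := h1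
    have e : g = m * (m⁻¹ * g) := by group
    rw [e]
    exact (c1.mul_left c2).eq
  -- fixed points of the upper root groups
  have hup : ∀ j, ∀ y ∈ zc (o2 P), ∃ v ∈ V, ∀ g ∈ h.EU M j up up_mul, g * (y * v) = y * v * g := by
    intro j y hy
    obtain ⟨A, hA, hroot⟩ := h.exists_root N hk j
    obtain ⟨v, hv, hvA⟩ := h.zcQ hA hy
    refine ⟨v, hv, ?_⟩
    rintro g ⟨hg, b, hb⟩
    obtain ⟨a, ha, hac⟩ := hroot b
    refine hagree g hg a (h.le_N0 hA ha) (fun u hu => ?_) (y * v) (mul_mem hy (h.VQ hv)) (hvA a ha)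
    exact M.acts_eq hD hg.1 (h.SP (h.fam.le A hA ha)) hb hac.1 hu
  -- fixed points of the lower root groups
  have hlo : ∀ j, ∀ y ∈ zc (o2 P), ∃ v ∈ V, ∀ g ∈ h.EU M j lo lo_mul, g * (y * v) = y * v * g := by
    intro j y hy
    obtain ⟨w, hw, hwA, -⟩ := N.lift (Pi.mulSingle j (wm 1 one_ne_zero))
    have hwA' : M.Acts w (Pi.mulSingle j (wm 1 one_ne_zero)) := hwA
    obtain ⟨v', hv', hfix⟩ := hup j (w * y * w⁻¹) (conj_mem h.zcQ_norm hw hy)
    refine ⟨w⁻¹ * v' * w, ?_, ?_⟩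
    · have := conj_mem h.PV (inv_mem hw) hv'
      rwa [inv_inv] at this
    · rintro g ⟨hg, b, hb⟩
      have h1 : w * g * w⁻¹ ∈ h.EU M j up up_mul := by
        refine ⟨conj_mem h.N0_norm hw hg, -(b * 1 ^ 2), ?_⟩
        have h2 := NatC.acts_mul (M := M) (inv_mem hw) (NatC.acts_mul (M := M) hg.1 hwA' hb)
          (NatC.acts_inv (M := M) hw hwA')
        have e : (Pi.mulSingle j (wm 1 one_ne_zero) : Fin k → Matrix.SpecialLinearGroup (Fin 2) F) *
            Pi.mulSingle j (lo b) * (Pi.mulSingle j (wm 1 one_ne_zero))⁻¹ =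
            Pi.mulSingle j (up (-(b * 1 ^ 2))) := by
          rw [← Pi.mulSingle_inv, ← Pi.mulSingle_mul, ← Pi.mulSingle_mul, wm_lo, mul_inv_cancel_right]
        rwa [e] at h2
      have h3 := hfix _ h1
      calc g * (y * (w⁻¹ * v' * w)) = w⁻¹ * ((w * g * w⁻¹) * (w * y * w⁻¹ * v')) * w := by group
        _ = w⁻¹ * ((w * y * w⁻¹ * v') * (w * g * w⁻¹)) * w := by rw [h3]
        _ = _ := by group
  -- centralisers in `V`
  have hcu : ∀ j, ∀ v ∈ V, N.e v j 1 = 0 → ∀ g ∈ h.EU M j up up_mul, g * v = v * g := by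
    rintro j v hv h0 g ⟨hg, b, hb⟩
    have h1 : g * v * g⁻¹ = v := by
      refine M.e_inj hD (conj_mem h.PV hg.1 hv) hv ?_
      funext i
      rw [hb v hv i]
      by_cases hi : i = j
      · subst hi
        rw [Pi.mulSingle_eq_same]
        apply ext2
        · rw [ap_zero', up_00, up_01]
          show 1 * N.e v i 0 + b * N.e v i 1 = N.e v i 0
          rw [h0, mul_zero, one_mul, add_zero]
        · rw [ap_one', up_10, up_11, zero_mul, zero_add, one_mul]
      · rw [Pi.mulSingle_eq_of_ne hi, ap_one]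
    calc g * v = g * v * g⁻¹ * g := by group
      _ = v * g := by rw [h1]
  have hcl : ∀ j, ∀ v ∈ V, N.e v j 0 = 0 → ∀ g ∈ h.EU M j lo lo_mul, g * v = v * g := by
    rintro j v hv h0 g ⟨hg, b, hb⟩
    have h1 : g * v * g⁻¹ = v := by
      refine M.e_inj hD (conj_mem h.PV hg.1 hv) hv ?_
      funext i
      rw [hb v hv i]
      by_cases hi : i = j
      · subst hi
        rw [Pi.mulSingle_eq_same]
        apply ext2
        · rw [ap_zero', lo_00, lo_01, zero_mul, add_zero, one_mul]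
        · rw [ap_one', lo_10, lo_11]
          show b * N.e v i 0 + 1 * N.e v i 1 = N.e v i 1
          rw [h0, mul_zero, one_mul, zero_add]
      · rw [Pi.mulSingle_eq_of_ne hi, ap_one]
    calc g * v = g * v * g⁻¹ * g := by group
      _ = v * g := by rw [h1]
  -- `⟨E⟩` induces `SL₂(F)^k`
  have hgen : ∀ B : Fin k → Matrix.SpecialLinearGroup (Fin 2) F, ∃ m ∈ ⨆ p, E p, M.Acts m B := by
    have hsP : (⨆ p, E p) ≤ P := (iSup_le hE0).trans fun g hg => hg.1
    let R : Subgroup (Fin k → Matrix.SpecialLinearGroup (Fin 2) F) :=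
      { carrier := {B | ∃ m ∈ ⨆ p, E p, M.Acts m B}
        mul_mem' := by
          rintro A B ⟨m, hm, hmA⟩ ⟨n, hn, hnB⟩
          exact ⟨m * n, mul_mem hm hn, NatC.acts_mul (hsP hn) hmA hnB⟩
        one_mem' := ⟨1, one_mem _, NatC.acts_one⟩
        inv_mem' := by
          rintro A ⟨m, hm, hmA⟩
          exact ⟨m⁻¹, inv_mem hm, NatC.acts_inv (hsP hm) hmA⟩ }
    have hRu : ∀ j b, Pi.mulSingle j (up b) ∈ R := by
      intro j b
      obtain ⟨A, hA, hroot⟩ := h.exists_root N hk j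
      obtain ⟨a, ha, hac⟩ := hroot b
      exact ⟨a, le_iSup E (j, false) (by rw [hEf]; exact ⟨h.le_N0 hA ha, b, hac.1⟩), hac.1⟩
    have hRl : ∀ j b, Pi.mulSingle j (lo b) ∈ R := by
      intro j b
      obtain ⟨w, hw, hwA, -⟩ := N.lift (Pi.mulSingle j (wm 1 one_ne_zero))
      have hwA' : M.Acts w (Pi.mulSingle j (wm 1 one_ne_zero)) := hwA
      obtain ⟨A, hA, hroot⟩ := h.exists_root N hk j
      obtain ⟨a, ha, hac⟩ := hroot (-(b * 1 ^ 2))
      have haP := h.SP (h.fam.le A hA ha)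
      have h2 := NatC.acts_mul (M := M) hw (NatC.acts_mul (M := M) haP (NatC.acts_inv (M := M) hw hwA')
        (show M.Acts a (Pi.mulSingle j (up (-(b * 1 ^ 2)))) from hac.1)) hwA'
      have e : (Pi.mulSingle j (wm 1 one_ne_zero) : Fin k → Matrix.SpecialLinearGroup (Fin 2) F)⁻¹ *
          Pi.mulSingle j (up (-(b * 1 ^ 2))) * Pi.mulSingle j (wm 1 one_ne_zero) = Pi.mulSingle j (lo b) := by
        rw [← Pi.mulSingle_inv, ← Pi.mulSingle_mul, ← Pi.mulSingle_mul, mul_assoc, ← wm_lo, inv_mul_cancel_left]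
      rw [e] at h2
      refine ⟨w⁻¹ * a * w, le_iSup E (j, true) ?_, h2⟩
      rw [hEt]
      refine ⟨?_, b, h2⟩
      have := conj_mem h.N0_norm (inv_mem hw) (h.le_N0 hA ha)
      rwa [inv_inv] at this
    intro B
    have hB : B ∈ R := by
      refine Subgroup.pi_mem_of_mulSingle_mem B fun j => ?_
      obtain ⟨a, b, c, d, e⟩ := exists_up_lo (B j)
      rw [e, Pi.mulSingle_mul, Pi.mulSingle_mul, Pi.mulSingle_mul]
      exact mul_mem (mul_mem (mul_mem (hRu j a) (hRl j b)) (hRu j c)) (hRl j d)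
    exact hB
  refine h.zc_eq_of E hE0 ?_ ?_ ?_ ?_
  · rintro ⟨j, (_ | _)⟩
    · rw [hEf]; exact hup j
    · rw [hEt]; exact hlo j
  · intro w hw
    obtain ⟨v, hv, hev⟩ := N.surj fun j => ![N.e (w (j, true)) j 0, N.e (w (j, false)) j 1]
    refine ⟨v, hv, ?_⟩
    rintro ⟨j, (_ | _)⟩
    · rw [hEf]
      refine hcu j _ (mul_mem hv (inv_mem (hw _))) ?_
      rw [show N.e (v * (w (j, false))⁻¹) = N.e v - N.e (w (j, false)) from M.map_div hv (hw _), hev]
      simp
    · rw [hEt]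
      refine hcl j _ (mul_mem hv (inv_mem (hw _))) ?_
      rw [show N.e (v * (w (j, true))⁻¹) = N.e v - N.e (w (j, true)) from M.map_div hv (hw _), hev]
      simp
  · intro v hv hcen
    refine M.e_inj hD hv (one_mem _) ?_
    rw [M.map_one]
    show N.e v = 0
    funext j
    have hu1 : N.e v j 1 = 0 := by
      obtain ⟨A, hA, hroot⟩ := h.exists_root N hk j
      obtain ⟨a, ha, hac⟩ := hroot 1
      have h1 : a * v = v * a := hcen (j, false) a (by rw [hEf]; exact ⟨h.le_N0 hA ha, 1, hac.1⟩)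
      have h2 : N.e (a * v * a⁻¹) j = ap ((Pi.mulSingle j (up 1) : Fin k → _) j) (N.e v j) := hac.1 v hv j
      have h3 : a * v * a⁻¹ = v := by rw [h1]; group
      rw [h3, Pi.mulSingle_eq_same] at h2
      have h4 := congrFun h2 0
      rw [ap_zero', up_00, up_01, one_mul, one_mul] at h4
      exact left_eq_add.1 h4
    have hu0 : N.e v j 0 = 0 := by
      obtain ⟨m, hm', hmA⟩ := hgen (Pi.mulSingle j (lo 1))
      have h1 : m * v = v * m := by
        have h5 : (⨆ p, E p) ≤ centralizer {v} := iSup_le fun p g hg => by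
          rw [mem_centralizer_singleton_iff]
          exact hcen p g hg
        exact mem_centralizer_singleton_iff.1 (h5 hm')
      have h2 : N.e (m * v * m⁻¹) j = ap ((Pi.mulSingle j (lo 1) : Fin k → _) j) (N.e v j) := hmA v hv j
      have h3 : m * v * m⁻¹ = v := by rw [h1]; group
      rw [h3, Pi.mulSingle_eq_same] at h2
      have h4 := congrFun h2 1
      rw [ap_one', lo_10, lo_11, one_mul, one_mul] at h4
      exact right_eq_add.1 h4
    exact ext2 hu0 hu1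
  · intro s hs p g hg
    have hgN := hE0 p hg
    have hgA : ∃ A : Fin k → Matrix.SpecialLinearGroup (Fin 2) F, ∀ v ∈ V, ∀ i,
        N.e (g * v * g⁻¹) i = ap (A i) (N.e v i) := by
      obtain ⟨j, (_ | _)⟩ := p
      · rw [hEf] at hg
        obtain ⟨-, b, hb⟩ := hg
        exact ⟨_, hb⟩
      · rw [hEt] at hg
        obtain ⟨-, b, hb⟩ := hg
        exact ⟨_, hb⟩
    obtain ⟨A, hA⟩ := hgA
    obtain ⟨B, hB⟩ := N.norm s (h.SP hs) g hgN.1 A hA
    obtain ⟨m, hm', hmB⟩ := hgen B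
    refine ⟨m, hm', fun v hv => ?_⟩
    have hsP := h.SP hs
    exact M.acts_eq hD (mul_mem (mul_mem hsP hgN.1) (inv_mem hsP)) ((iSup_le hE0 hm').1) hB hmB hv

/-- **`C_X(AA) = C_V(AA)`**, the product of the lines. -/
theorem cent_nat (N : NatKM F (S : Subgroup G) P (zl (S : Subgroup G) P) (cv (S : Subgroup G) P) k) (hk : 0 < k)
    {x : G} : x ∈ X ⊓ centralizer ((sSup AA : Subgroup G) : Set G) ↔
      x ∈ zl (S : Subgroup G) P ∧ ∀ i, N.e x i 1 = 0 := by
  classical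
  have hm := h.minH'
  have hT := h.zc_o2_nat N hk
  rw [h.cent_eq hT]
  constructor
  · rintro ⟨hx, hxA⟩
    refine ⟨hx, fun j => ?_⟩
    obtain ⟨A, hA, hroot⟩ := h.exists_root N hk j
    obtain ⟨a, ha, hac⟩ := hroot 1
    have h1 : a * x = x * a := mem_cent_sSup.1 hxA A hA a ha
    have h2 : N.e (a * x * a⁻¹) j = ap ((Pi.mulSingle j (up 1) : Fin k → _) j) (N.e x j) := hac.1 x hx j
    have h3 : a * x * a⁻¹ = x := by rw [h1]; group
    rw [h3, Pi.mulSingle_eq_same] at h2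
    have h4 := congrFun h2 0
    rw [ap_zero', up_00, up_01, one_mul, one_mul] at h4
    exact left_eq_add.1 h4
  · rintro ⟨hx, hx1⟩
    refine ⟨hx, mem_cent_sSup.2 fun B hB b hb => ?_⟩
    by_cases hBQ : B ≤ o2 P
    · exact h.cent_of_le hBQ b hb x hx
    · obtain ⟨I, h1, h2⟩ := N.offM B (h.fam.le B hB) (h.offM hB hBQ)
      exact (natC_of hm hk N.toNatK).cent_line hm (h.fam.le B hB) (h.fam.off h.Xc h.VX hB) h1 h2 hx hx1 hb

end Exa

end Cfsg.Agent.Omega.NO3S.OneLine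

end

section


/-!
# The levels for sums of even-subset modules: `Ω₁(Z(O₂(P))) = V_P`

`V_P / C_V(O²(P))` a sum of `k` even-subset modules of `S_{2^m+1}` (`SymKM`), `C_Z(P) = 1`, a family `AA` of best
offenders of `S` with a member outside `O₂(P)`:

* `Exa.cv_eq_bot_sym` : `C_V(O²(P)) = 1`;
* `Exa.zc_o2_sym` : `Ω₁(Z(O₂(P))) = V_P`;
* `Exa.cent_sym` : `C_X(AA)`.
-/

set_option autoImplicit false
set_option linter.unusedSectionVars false
set_option linter.unusedVariables false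

namespace Cfsg.Agent.Omega.NO3S.OneLine

open Subgroup Cfsg Cfsg.Agent.PLocal.ThompsonJ Cfsg.Agent.ZN Cfsg.Agent.ZN.ChoiceBase Cfsg.Agent.Omega.MinPar
open Cfsg.Agent.Omega.SQ1 Cfsg.Agent.Omega.SQ1.FFOne Cfsg.Agent.Omega.SQ1.VOf Cfsg.Agent.Omega.SQ1.FFSym
open Cfsg.Agent.Omega.SQ1.Bau (elem_comm elem_sq)
open Cfsg.Agent.MinSimple.VModule (zc_le zc_le_zl zl_le le_o2 le_normalizer_zl)
open Cfsg.Agent.Omega.FFThm (ActsSym SymK SymKM OffM ElemM NoOverM)
open Cfsg.Agent.Omega.FrameFF (cv)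

universe u

variable {G : Type u} [Group G] [Finite G] {S : Sylow 2 G} {P X L : Subgroup G} {AA : Set (Subgroup G)}

omit [Finite G] in
theorem sy_inj {H V D : Subgroup G} {k n : ℕ} {e : G → Fin k → Fin n → ZMod 2} (h : Sy H V D e) (hD : D = ⊥)
    {v w : G} (hv : v ∈ V) (hw : w ∈ V) (he : e v = e w) : v = w := by
  have h1 := h.e_eq hv hw he
  rw [hD, mem_bot] at h1
  rw [← h.inv_eq hw]
  exact eq_inv_of_mul_eq_one_left h1

omit [Finite G] in
/-- an element acting as `mulSingle j τ`, `τ ∈ {1, (0 a)}`, centralises the vectors with `e v j 0 = e v j a` -/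
theorem gd_comm {H V D : Subgroup G} {k n : ℕ} {e : G → Fin k → Fin (n + 1) → ZMod 2} (h : Sy H V D e) (hD : D = ⊥)
    {j : Fin k} {a : Fin (n + 1)} {τ : Equiv.Perm (Fin (n + 1))} (hτ : τ = 1 ∨ τ = Equiv.swap 0 a) {g : G}
    (hg : Gd H V D e (Pi.mulSingle j τ) g) {v : G} (hv : v ∈ V) (h0 : e v j 0 = e v j a) : g * v = v * g := by
  have h1 : g * v * g⁻¹ = v := by
    refine sy_inj h hD (h.Vn g hg.mem v hv) hv ?_
    funext i x
    have h2 := hg.act v hv i (((Pi.mulSingle j τ : Fin k → Equiv.Perm (Fin (n + 1))) i)⁻¹ x)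
    rw [perm_inv_self, Equiv.Perm.one_apply] at h2
    rw [h2]
    by_cases hi : i = j
    · subst hi
      rw [Pi.mulSingle_eq_same]
      rcases hτ with rfl | rfl
      · rw [inv_one, Equiv.Perm.one_apply]
      · rw [Equiv.swap_inv]
        by_cases hx0 : x = 0
        · rw [hx0, Equiv.swap_apply_left, h0]
        · by_cases hxa : x = a
          · rw [hxa, Equiv.swap_apply_right, h0]
          · rw [Equiv.swap_apply_of_ne_of_ne hx0 hxa]
    · rw [Pi.mulSingle_eq_of_ne hi, inv_one, Equiv.Perm.one_apply]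
  calc g * v = g * v * g⁻¹ * g := by group
    _ = v * g := by rw [h1]

namespace Exa

variable (h : Exa S P X L AA) {k m : ℕ}
include h

theorem cv_eq_bot_sym (N : SymKM (S : Subgroup G) P (zl (S : Subgroup G) P) (cv (S : Subgroup G) P) k m) :
    cv (S : Subgroup G) P = ⊥ := h.cv_eq_bot_of fun A hA hAQ a ha d hd =>
  (N.offM A (h.fam.le A hA) (h.offM hA hAQ)).1 a ha d hd

theorem sy (N : SymKM (S : Subgroup G) P (zl (S : Subgroup G) P) (cv (S : Subgroup G) P) k m) (hk : 0 < k)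
    (hm : 1 ≤ m) : Sy P (zl (S : Subgroup G) P) (cv (S : Subgroup G) P) N.e :=
  sy_of h.minH' N.toSymK hk hm FFOf.cv_le FFOf.cv_norm

/-- a transposition of the block `j` in a member of the family -/
theorem exists_swap (N : SymKM (S : Subgroup G) P (zl (S : Subgroup G) P) (cv (S : Subgroup G) P) k m) (hk : 0 < k)
    (hm : 1 ≤ m) (j : Fin k) : ∃ A ∈ AA, ∃ x y : Fin (2 ^ m + 1), x ≠ y ∧ ∃ t ∈ A,
      Gd P (zl (S : Subgroup G) P) (cv (S : Subgroup G) P) N.e (Pi.mulSingle j (Equiv.swap x y)) t := by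
  have hs := h.sy N hk hm
  obtain ⟨A, hA, hAQ⟩ := h.ex
  have hoff := h.offM hA hAQ
  obtain ⟨hD, h2⟩ := N.offM A (h.fam.le A hA) hoff
  obtain ⟨i, x, y, hxy, t, ht, htg⟩ : ∃ i x y, x ≠ y ∧ ∃ t ∈ A,
      Gd P (zl (S : Subgroup G) P) (cv (S : Subgroup G) P) N.e (Pi.mulSingle i (Equiv.swap x y)) t := by
    by_contra hcon
    push Not at hcon
    apply hoff.ne
    intro a ha
    obtain ⟨τ, hτ, hτ'⟩ := h2 a ha
    have h1 : τ = 1 := by
      funext i
      ext x
      by_contra hx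
      have hx' : τ i x ≠ x := fun e => hx (by rw [e]; rfl)
      obtain ⟨-, b, hb, hb'⟩ := hτ' i x hx'
      exact hcon i x (τ i x) hx'.symm b hb ⟨h.SP (h.fam.le A hA hb), hD b hb, hb'⟩
    subst h1
    refine mem_centralizer_iff.2 fun v hv => ?_
    have h2 := hs.gd_sim ⟨h.SP (h.fam.le A hA ha), hD a ha, hτ⟩ hs.gd_one v hv
    symm
    calc a * v = (a * v * a⁻¹) * a := by group
      _ = v * a := by rw [h2]; group
  obtain ⟨s, hsS, σ, τ, hsa, hσ⟩ := N.trans i j
  have hcj : cj s A ≤ (S : Subgroup G) := by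
    have h3 := cj_mono s (h.fam.le A hA)
    rwa [cj_eq_of_mem_normalizer (le_normalizer hsS : s ∈ normalizer ((S : Subgroup G) : Set G))] at h3
  have h3 := hs.gd_conj_single (h.SP hsS) hsa htg
  rw [hσ, ← Equiv.swap_apply_apply] at h3
  exact ⟨cj s A, h.fam.conj A hA s (h.PL (h.SP hsS)) hcj, τ i x, τ i y, fun e => hxy ((τ i).injective e),
    s * t * s⁻¹, ⟨t, ht, rfl⟩, h3⟩

/-- the elements of `N₀` which act as `1` or `(0 a)` on the block `j` and trivially on the other blocks -/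
def ES (h : Exa S P X L AA)
    (N : SymKM (S : Subgroup G) P (zl (S : Subgroup G) P) (cv (S : Subgroup G) P) k m)
    (hs : Sy P (zl (S : Subgroup G) P) (cv (S : Subgroup G) P) N.e) (j : Fin k) (a : Fin (2 ^ m + 1)) :
    Subgroup G where
  carrier := {g | g ∈ h.N0 ∧ ∃ τ, (τ = 1 ∨ τ = Equiv.swap 0 a) ∧
    Gd P (zl (S : Subgroup G) P) (cv (S : Subgroup G) P) N.e (Pi.mulSingle j τ) g}
  mul_mem' := by
    rintro x y ⟨hx, τ, hτ, hxτ⟩ ⟨hy, τ', hτ', hyτ⟩
    refine ⟨mul_mem hx hy, τ * τ', ?_, ?_⟩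
    · rcases hτ with rfl | rfl
      · rw [one_mul]; exact hτ'
      · rcases hτ' with rfl | rfl
        · rw [mul_one]; exact Or.inr rfl
        · rw [Equiv.swap_mul_self]; exact Or.inl rfl
    · rw [Pi.mulSingle_mul]
      exact hs.gd_mul hxτ hyτ
  one_mem' := ⟨one_mem _, 1, Or.inl rfl, by rw [Pi.mulSingle_one]; exact hs.gd_one⟩
  inv_mem' := by
    rintro x ⟨hx, τ, hτ, hxτ⟩
    refine ⟨inv_mem hx, τ⁻¹, ?_, ?_⟩
    · rcases hτ with rfl | rfl
      · rw [inv_one]; exact Or.inl rfl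
      · rw [Equiv.swap_inv]; exact Or.inr rfl
    · rw [Pi.mulSingle_inv]
      exact hs.gd_inv hxτ

/-- **(T6) `Ω₁(Z(O₂(P))) = V_P`** for sums of even-subset modules. -/
theorem zc_o2_sym (N : SymKM (S : Subgroup G) P (zl (S : Subgroup G) P) (cv (S : Subgroup G) P) k m) (hk : 0 < k)
    (hm : 1 ≤ m) : zc (o2 P) = zl (S : Subgroup G) P := by
  classical
  have hs := h.sy N hk hm
  have hD := h.cv_eq_bot_sym N
  -- a swap `(0 a)` of the block `j` in `N₀`, with fixed points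
  have hsw : ∀ (j : Fin k) (a : Fin (2 ^ m + 1)), a ≠ 0 → ∃ r ∈ P, ∃ A ∈ AA, ∃ t ∈ A,
      Gd P (zl (S : Subgroup G) P) (cv (S : Subgroup G) P) N.e (Pi.mulSingle j (Equiv.swap 0 a)) (r⁻¹ * t * r) ∧
      ∀ g, Gd P (zl (S : Subgroup G) P) (cv (S : Subgroup G) P) N.e (Pi.mulSingle j (Equiv.swap 0 a)) g →
        ∀ v ∈ zl (S : Subgroup G) P, (r * g * r⁻¹) * v * (r * g * r⁻¹)⁻¹ = t * v * t⁻¹ := by
    intro j a ha
    obtain ⟨A, hA, x, y, hxy, t, ht, htg⟩ := h.exists_swap N hk hm j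
    -- a permutation `ρ` with `ρ 0 = x`, `ρ a = y`
    obtain ⟨ρ, hρ0, hρa⟩ : ∃ ρ : Equiv.Perm (Fin (2 ^ m + 1)), ρ 0 = x ∧ ρ a = y := by
      refine ⟨Equiv.swap (Equiv.swap 0 x a) y * Equiv.swap 0 x, ?_, ?_⟩
      · rw [Equiv.Perm.mul_apply, Equiv.swap_apply_left]
        refine Equiv.swap_apply_of_ne_of_ne ?_ hxy
        intro e
        have e2 : Equiv.swap 0 x 0 = Equiv.swap 0 x a := by rw [Equiv.swap_apply_left]; exact e
        exact ha ((Equiv.swap 0 x).injective e2).symm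
      · rw [Equiv.Perm.mul_apply, Equiv.swap_apply_left]
    obtain ⟨r, hr⟩ := hs.exists_gd (Pi.mulSingle j ρ)
    refine ⟨r, hr.mem, A, hA, t, ht, ?_, ?_⟩
    · have h1 := hs.gd_mul (hs.gd_mul (hs.gd_inv hr) htg) hr
      rw [← Pi.mulSingle_inv, ← Pi.mulSingle_mul, ← Pi.mulSingle_mul] at h1
      have e : ρ⁻¹ * Equiv.swap x y * ρ = Equiv.swap 0 a := by
        have e2 : ρ * Equiv.swap 0 a * ρ⁻¹ = Equiv.swap x y := by
          rw [← Equiv.swap_apply_apply, hρ0, hρa]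
        rw [← e2]; group
      rwa [e] at h1
    · intro g hg v hv
      have h1 := hs.gd_mul (hs.gd_mul hr hg) (hs.gd_inv hr)
      rw [← Pi.mulSingle_inv, ← Pi.mulSingle_mul, ← Pi.mulSingle_mul, ← Equiv.swap_apply_apply, hρ0, hρa] at h1
      exact hs.gd_sim h1 htg v hv
  -- the blocks
  let E : Fin k × Fin (2 ^ m + 1) → Subgroup G := fun p => h.ES N hs p.1 p.2
  -- elements of `N₀` which agree on `V` agree on `Ω₁(Z(Q))`
  have hagree : ∀ g ∈ h.N0, ∀ m ∈ h.N0, (∀ v ∈ zl (S : Subgroup G) P, g * v * g⁻¹ = m * v * m⁻¹) →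
      ∀ y ∈ zc (o2 P), m * y = y * m → g * y = y * g := by
    intro g hg m hm' hgm y hy hmy
    have h1 := h.cent_zcQ (mul_mem (inv_mem hm') hg) (fun u hu => by
      have h8 := hgm u hu
      calc m⁻¹ * g * u = m⁻¹ * (g * u * g⁻¹) * g := by group
        _ = m⁻¹ * (m * u * m⁻¹) * g := by rw [h8]
        _ = _ := by group) y hy
    have c1 : Commute m y := hmy
    have c2 : Commute (m⁻¹ * g) y := h1
    have e : g = m * (m⁻¹ * g) := by group
    rw [e]
    exact (c1.mul_left c2).eq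
  refine h.zc_eq_of E (fun p g hg => hg.1) ?_ ?_ ?_ ?_
  · rintro ⟨j, a⟩ y hy
    by_cases ha : a = 0
    · refine ⟨1, one_mem _, ?_⟩
      rintro g ⟨hg, τ, hτ, hgτ⟩
      have hτ1 : τ = 1 := by
        rcases hτ with rfl | rfl
        · rfl
        · show Equiv.swap 0 a = 1
          rw [ha, Equiv.swap_self]; rfl
      subst hτ1
      rw [Pi.mulSingle_one] at hgτ
      rw [mul_one]
      refine h.cent_zcQ hg (fun v hv => ?_) y hy
      have h2 := hs.gd_sim hgτ hs.gd_one v hv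
      calc g * v = (g * v * g⁻¹) * g := by group
        _ = v * g := by rw [h2]; group
    · obtain ⟨r, hr, A, hA, t, ht, htg, hag⟩ := hsw j a ha
      obtain ⟨v', hv', hfix⟩ := h.zcQ hA (conj_mem h.zcQ_norm hr hy)
      refine ⟨r⁻¹ * v' * r, ?_, ?_⟩
      · have := conj_mem h.PV (inv_mem hr) hv'
        rwa [inv_inv] at this
      · rintro g ⟨hg, τ, hτ, hgτ⟩
        have hy' : r * y * r⁻¹ * v' ∈ zc (o2 P) := mul_mem (conj_mem h.zcQ_norm hr hy) (h.VQ hv')
        have h3 : (r * g * r⁻¹) * (r * y * r⁻¹ * v') = r * y * r⁻¹ * v' * (r * g * r⁻¹) := by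
          rcases hτ with rfl | rfl
          · rw [Pi.mulSingle_one] at hgτ
            refine h.cent_zcQ (conj_mem h.N0_norm hr hg) (fun v hv => ?_) _ hy'
            have h4 : r⁻¹ * v * r ∈ zl (S : Subgroup G) P := by
              have := conj_mem h.PV (inv_mem hr) hv
              rwa [inv_inv] at this
            have h5 := hs.gd_sim hgτ hs.gd_one _ h4
            have h6 : g * (r⁻¹ * v * r) = (r⁻¹ * v * r) * g := by
              calc g * (r⁻¹ * v * r) = (g * (r⁻¹ * v * r) * g⁻¹) * g := by group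
                _ = _ := by rw [h5]; group
            calc r * g * r⁻¹ * v = r * (g * (r⁻¹ * v * r)) * r⁻¹ := by group
              _ = r * ((r⁻¹ * v * r) * g) * r⁻¹ := by rw [h6]
              _ = _ := by group
          · exact hagree _ (conj_mem h.N0_norm hr hg) t (h.le_N0 hA ht) (hag g hgτ) _ hy' (hfix t ht)
        calc g * (y * (r⁻¹ * v' * r)) = r⁻¹ * ((r * g * r⁻¹) * (r * y * r⁻¹ * v')) * r := by group
          _ = r⁻¹ * ((r * y * r⁻¹ * v') * (r * g * r⁻¹)) * r := by rw [h3]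
          _ = _ := by group
  · intro w hw
    let c : Fin k → Fin (2 ^ m + 1) → ZMod 2 := fun j a => N.e (w (j, a)) j 0 + N.e (w (j, a)) j a
    have hc0 : ∀ j, c j 0 = 0 := fun j => CharTwo.add_self_eq_zero _
    obtain ⟨v, hv, hev⟩ := N.surj (fun j a => c j a + ∑ b, c j b) (by
      intro j
      rw [Finset.sum_add_distrib, Finset.sum_const, Finset.card_univ, Fintype.card_fin, nsmul_eq_mul]
      have e1 : ((2 ^ m + 1 : ℕ) : ZMod 2) = 1 := by
        have : (2 ^ m : ZMod 2) = 0 := by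
          rw [show (2 : ZMod 2) = 0 from rfl, zero_pow (by omega)]
        push_cast
        rw [this, zero_add]
      rw [e1, one_mul]
      exact CharTwo.add_self_eq_zero _)
    refine ⟨v, hv, ?_⟩
    rintro ⟨j, a⟩ g ⟨hg, τ, hτ, hgτ⟩
    refine gd_comm hs hD hτ hgτ (mul_mem hv (inv_mem (hw _))) ?_
    rw [N.mul v hv _ (inv_mem (hw _)), hs.e_inv (hw _), hev]
    show c j 0 + ∑ b, c j b + N.e (w (j, a)) j 0 = c j a + ∑ b, c j b + N.e (w (j, a)) j a
    rw [hc0]
    have e2 : c j a = N.e (w (j, a)) j 0 + N.e (w (j, a)) j a := rfl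
    generalize ∑ b, c j b = s
    rw [e2]
    generalize N.e (w (j, a)) j 0 = p
    generalize N.e (w (j, a)) j a = q
    revert s p q
    decide
  · intro v hv hcen
    refine sy_inj hs hD hv (one_mem _) ?_
    rw [hs.e_one]
    have hconst : ∀ j a, N.e v j a = N.e v j 0 := by
      intro j a
      by_cases ha : a = 0
      · rw [ha]
      · obtain ⟨r, hr, A, hA, t, ht, htg, -⟩ := hsw j a ha
        have h1 : r⁻¹ * t * r * v = v * (r⁻¹ * t * r) := by
          refine hcen (j, a) _ ⟨?_, _, Or.inr rfl, htg⟩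
          have := conj_mem h.N0_norm (inv_mem hr) (h.le_N0 hA ht)
          rwa [inv_inv] at this
        have h2 := htg.act v hv j 0
        have h3 : r⁻¹ * t * r * v * (r⁻¹ * t * r)⁻¹ = v := by rw [h1]; group
        rw [h3, Equiv.Perm.one_apply, Pi.mulSingle_eq_same, Equiv.swap_apply_left] at h2
        exact h2
    funext j a
    have h1 := N.even v hv j
    rw [Finset.sum_congr rfl fun x _ => hconst j x, Finset.sum_const, Finset.card_univ, Fintype.card_fin,
      nsmul_eq_mul] at h1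
    have e1 : ((2 ^ m + 1 : ℕ) : ZMod 2) = 1 := by
      have : (2 ^ m : ZMod 2) = 0 := by
        rw [show (2 : ZMod 2) = 0 from rfl, zero_pow (by omega)]
      push_cast
      rw [this, zero_add]
    rw [e1, one_mul] at h1
    rw [hconst j a, h1]; rfl
  · rintro s hs' ⟨j, a⟩ g ⟨hg, τ, hτ, hgτ⟩
    obtain ⟨σ, ψ, hsa⟩ := N.perm s (h.SP hs')
    have h0 := N.fix0 s hs' σ ψ hsa j
    refine ⟨s * g * s⁻¹, le_iSup E (σ j, ψ j a) ?_, fun v hv => rfl⟩
    refine ⟨conj_mem h.N0_norm (h.SP hs') hg, ψ j * τ * (ψ j)⁻¹, ?_, hs.gd_conj_single (h.SP hs') hsa hgτ⟩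
    rcases hτ with rfl | rfl
    · left; group
    · right
      rw [← Equiv.swap_apply_apply, h0]

end Exa

end Cfsg.Agent.Omega.NO3S.OneLine

end

section


/-!
# The levels `K` of `Level/Basic.lean` for FF-modules of every type

`K` a level, `K ≤ O₂(P)`, `P ∈ P*(S)`, `C_Z(P) = 1`, some best offender of `S` on `Ω₁(Z(K))` is not contained in
`O₂(P)`:

* `exa_lev`, `exa_AA` : the structure `Exa`, and the type of `V_P` (FF theorem);
* `zc_o2_lev` : `Ω₁(Z(O₂(P))) = V_P`;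
* `zc_nxt_lev` : `Ω₁(Z(nxt S K)) = C_{V_P}(nxt S K)`.
-/

set_option autoImplicit false
set_option linter.unusedSectionVars false
set_option linter.unusedVariables false

namespace Cfsg.Agent.Omega.NO3S.OneLine

open Subgroup Cfsg Cfsg.Agent.PLocal.ThompsonJ Cfsg.Agent.ZN Cfsg.Agent.ZN.ChoiceBase Cfsg.Agent.Omega.MinPar
open Cfsg.Agent.MinSimple.VModule (zc_le zc_le_zl zl_le le_o2 le_normalizer_zl)
open Cfsg.Agent.Omega.FFThm (NatKM SymKM OffM ElemM NoOverM StmtM ConclM)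
open Cfsg.Agent.Omega.FrameFF (cv)

universe u

variable {G : Type u} [Group G] [Finite G] {S : Sylow 2 G} {P K X : Subgroup G}

/-- The FF theorem for `P` and the best offenders on `X`. -/
theorem exa_bo (hFF : StmtM.{u}) (hG : IsCharacteristicTwoType G) (hP : IsParS (S : Subgroup G) P)
    (hX : IsElementaryAbelian 2 X) (hXS : X ≤ (S : Subgroup G)) (hPX : P ≤ normalizer (X : Set G))
    (hQX : zc (o2 P) ≤ X) (hcen : zc (S : Subgroup G) ⊓ centralizer (P : Set G) = ⊥)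
    (hJ : ∃ A ∈ bo (S : Subgroup G) X, ¬ A ≤ o2 P) :
    Exa S P X (normalizer (X : Set G)) (bo (S : Subgroup G) X) ∧ ConclM (S : Subgroup G) P := by
  obtain ⟨A, hA, hAQ⟩ := hJ
  have hB := bo_fam (S : Subgroup G) X
  have hVX : zl (S : Subgroup G) P ≤ X := (hP.isLoc.zl_le S hG).trans hQX
  have hXc : ∀ x ∈ X, ∀ y ∈ X, x * y = y * x := SQ1.Bau.elem_comm hX
  have hoff : OffM (zl (S : Subgroup G) P) A := by
    refine hB.offM hXc hVX hA fun h1 => hAQ ?_
    rw [← IsParS.inf_centralizer S hG hP]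
    exact le_inf (hB.le A hA) h1
  obtain ⟨hno, hcon⟩ := hFF G (S : Subgroup G) P (syl_of hP) hP.toIsMinPar (hP.isLoc.char2 S hG)
    ⟨A, (hB.le A hA).trans (syl_of hP).1, hoff⟩
  exact ⟨⟨hG, hP, hB, hX, hXS, hPX, hPX, hQX, hno, hcen, A, hA, hAQ⟩, hcon⟩

/-- The same at a level `K`. -/
theorem exa_lev (hFF : StmtM.{u}) (hG : IsCharacteristicTwoType G) (hP : IsParS (S : Subgroup G) P)
    (hL : Level.Lev (S : Subgroup G) K) (hK : K ≤ o2 P)
    (hcen : zc (S : Subgroup G) ⊓ centralizer (P : Set G) = ⊥)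
    (hJ : ∃ A ∈ Level.BO (S : Subgroup G) K, ¬ A ≤ o2 P) :
    Exa S P (zc K) (normalizer ((zc K : Subgroup G) : Set G)) (Level.BO (S : Subgroup G) K) ∧
      ConclM (S : Subgroup G) P := by
  have hQS := o2_le S hP.toIsPar
  have h1 := exa_bo hFF hG hP (zc_elem K) ((zc_le K).trans hL.le)
    ((hL.le_norm_of_o2 hK hQS).trans (Level.normalizer_le_zc K)) (hL.zc_o2_le hK hQS) hcen (bo_eq _ K ▸ hJ)
  rw [bo_eq]
  exact h1

/-- **(T6) at every level, every type**: `Ω₁(Z(O₂(P))) = V_P`. -/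
theorem Exa.zc_o2 {L : Subgroup G} {AA : Set (Subgroup G)} (h : Exa S P X L AA)
    (hc : ConclM (S : Subgroup G) P) : zc (o2 P) = zl (S : Subgroup G) P := by
  rcases hc with ⟨F, _, _, _, k, hk, ⟨M⟩⟩ | ⟨k, m, hk, hm, ⟨M⟩⟩
  · exact h.zc_o2_nat M hk
  · exact h.zc_o2_sym M hk (by omega)

/-- **`C_X(AA) = C_{V_P}(AA)`**, every type. -/
theorem Exa.cent_eq' {L : Subgroup G} {AA : Set (Subgroup G)} (h : Exa S P X L AA)
    (hc : ConclM (S : Subgroup G) P) : X ⊓ centralizer ((sSup AA : Subgroup G) : Set G) =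
      zl (S : Subgroup G) P ⊓ centralizer ((sSup AA : Subgroup G) : Set G) := h.cent_eq (h.zc_o2 hc)

/-- `Ω₁(Z(nxt S K)) = C_{Ω₁(Z(K))}(BO)` -/
theorem zc_nxt_eq (hL : Level.Lev (S : Subgroup G) K) : zc (Level.nxt (S : Subgroup G) K) =
    zc K ⊓ centralizer ((sSup (Level.BO (S : Subgroup G) K) : Subgroup G) : Set G) := by
  have hKn : K ≤ Level.nxt (S : Subgroup G) K := Level.le_nxt hL.le
  apply le_antisymm
  · refine le_inf (hL.zc_le_zc hKn (Level.nxt_le _ _)) fun x hx => mem_centralizer_iff.2 fun a ha => ?_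
    exact (mem_zc.1 hx).2.2 a (mem_sup_right ha)
  · rintro x ⟨hx, hxA⟩
    refine mem_zc.2 ⟨hKn (mem_zc.1 hx).1, (mem_zc.1 hx).2.1, ?_⟩
    have h1 : Level.nxt (S : Subgroup G) K ≤ centralizer {x} := by
      refine sup_le (fun c hc => ?_) (fun c hc => ?_)
      · rw [mem_centralizer_singleton_iff]
        exact (mem_centralizer_iff.1 hc.2 x hx).symm
      · rw [mem_centralizer_singleton_iff]
        exact mem_centralizer_iff.1 hxA c hc
    exact fun y hy => mem_centralizer_singleton_iff.1 (h1 hy)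

/-- **`Ω₁(Z(O₂(P))) = V_P` and `Ω₁(Z(nxt S K)) = C_{V_P}(nxt S K)`** at the level `K`, every type. -/
theorem lev_eq (hFF : StmtM.{u}) (hG : IsCharacteristicTwoType G) (hP : IsParS (S : Subgroup G) P)
    (hL : Level.Lev (S : Subgroup G) K) (hK : K ≤ o2 P)
    (hcen : zc (S : Subgroup G) ⊓ centralizer (P : Set G) = ⊥)
    (hJ : ∃ A ∈ Level.BO (S : Subgroup G) K, ¬ A ≤ o2 P) :
    zc (o2 P) = zl (S : Subgroup G) P ∧ zc (Level.nxt (S : Subgroup G) K) =
      zl (S : Subgroup G) P ⊓ centralizer ((Level.nxt (S : Subgroup G) K : Subgroup G) : Set G) := by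
  obtain ⟨h, hc⟩ := exa_lev hFF hG hP hL hK hcen hJ
  have hT := h.zc_o2 hc
  refine ⟨hT, le_antisymm (le_inf ?_ ?_) ?_⟩
  · rw [zc_nxt_eq hL]
    exact h.cent hT
  · exact fun x hx => mem_centralizer_iff.2 fun a ha => (mem_zc.1 hx).2.2 a ha
  · rintro x ⟨hx, hxA⟩
    rw [zc_nxt_eq hL]
    refine ⟨h.VX hx, mem_centralizer_iff.2 fun a ha => ?_⟩
    exact mem_centralizer_iff.1 hxA a (mem_sup_right ha)

end Cfsg.Agent.Omega.NO3S.OneLine

end

section


/-!
# Fld: what LEMMA UNIQ over `B` needs from the FF theorem (module form)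

`PtM S P V₁` (`P ∈ P(S)`, some `A ≤ S` is an offender on `V = V_P`; `D = C_V(O²(P))`): no over-offenders on `V`,
`V₁ ≤ V` is centralised by all offenders in `S`, `|C_S(V₁) : O₂(P)| ≤ |V₁|` and `|V| |D| ≤ |V₁|²`.
`ptM_of` : there is such a `V₁`, by the module form of the FF theorem.  Nothing on `J(S)` is used.
-/

set_option autoImplicit false
set_option linter.unusedSectionVars false
set_option linter.unusedVariables false

namespace Cfsg.Agent.Omega.NO3S.Fld

open Subgroup Cfsg Cfsg.Agent.ZN Cfsg.Agent.ZN.ChoiceBase Cfsg.Agent.Omega.MinPar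
open Cfsg.Agent.ZN.ChoiceSit (Syl o2_le_syl)
open Cfsg.Agent.Omega.SQ1
open Cfsg.Agent.PLocal.ElemAbSup Cfsg.Agent.PLocal.ThompsonJ
open Cfsg.Agent.MinSimple.VModule (zc_le zc_le_zl zl_le le_o2 le_normalizer_zl le_normalizer_o2)
open Cfsg.Agent.Omega.SQ1.FFOne Cfsg.Agent.Omega.SQ1.FFSym Cfsg.Agent.Lib.SL2Mat
open Cfsg.Agent.Omega.FFThm (NatK SymK NatKM SymKM OffM NoOverM ActsSym ActsSL StmtM)
open Cfsg.Agent.Omega.FrameFF (cv)
open Cfsg.Agent.Omega.NatPair (ap ap_zero' ap_one' ap_one ap_mul ap_add ap_smul ext2 ap_inv_ap ap_inj)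
open Cfsg.Agent.Omega.NO3S.OneLine (NatC natC_of card_of_hom syl_of minH card_mul_relIndex cyc_T' disj' sy_of)

universe u

variable {G : Type u} [Group G]

/-- What is used of the FF theorem, module form. -/
structure PtM (S P V1 : Subgroup G) : Prop where
  no : NoOverM (zl S P) P
  le : V1 ≤ zl S P
  off : ∀ A ≤ S, OffM (zl S P) A → A ≤ centralizer (V1 : Set G)
  cen : (o2 P).relIndex (S ⊓ centralizer (V1 : Set G)) ≤ Nat.card V1
  sq : Nat.card (zl S P) * Nat.card (cv S P) ≤ Nat.card V1 ^ 2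

/-! ### Natural modules -/

section nat

variable {F : Type} [Field F] {T H V D : Subgroup G} {k : ℕ} (M : NatC F T H V D k)

/-- the kernel of the `i`-th coordinate -/
def ker1 (i : Fin k) : Subgroup G where
  carrier := {v | v ∈ V ∧ M.nat.e v i = 0}
  mul_mem' := by
    rintro a b ⟨ha, ha'⟩ ⟨hb, hb'⟩
    exact ⟨mul_mem ha hb, by rw [M.nat.mul a ha b hb, Pi.add_apply, ha', hb', add_zero]⟩
  one_mem' := ⟨one_mem V, by rw [M.map_one]; rfl⟩
  inv_mem' := by
    rintro a ⟨ha, ha'⟩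
    exact ⟨inv_mem ha, by rw [M.map_inv ha, Pi.neg_apply, ha', neg_zero]⟩

/-- its stabiliser -/
def stab1 (i : Fin k) : Subgroup G where
  carrier := {g | g ∈ H ∧ ∀ v ∈ V, M.nat.e (g * v * g⁻¹) i = 0 ↔ M.nat.e v i = 0}
  mul_mem' := by
    rintro a b ⟨ha, ha'⟩ ⟨hb, hb'⟩
    refine ⟨mul_mem ha hb, fun v hv => ?_⟩
    have e : a * b * v * (a * b)⁻¹ = a * (b * v * b⁻¹) * a⁻¹ := by group
    rw [e, ha' _ (M.Vn b hb v hv), hb' v hv]
  one_mem' := ⟨one_mem H, fun v hv => by rw [one_mul, inv_one, mul_one]⟩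
  inv_mem' := by
    rintro a ⟨ha, ha'⟩
    refine ⟨inv_mem ha, fun v hv => ?_⟩
    rw [← ha' _ (M.Vn a⁻¹ (inv_mem ha) v hv)]
    have e : a * (a⁻¹ * v * a⁻¹⁻¹) * a⁻¹ = v := by group
    rw [e]

theorem ap_eq_zero {A : Matrix.SpecialLinearGroup (Fin 2) F} {x : Fin 2 → F} : ap A x = 0 ↔ x = 0 := by
  have h0 : ∀ B : Matrix.SpecialLinearGroup (Fin 2) F, ap B 0 = 0 := by
    intro B
    have h1 := ap_smul B (0 : F) (0 : Fin 2 → F)
    rwa [zero_smul, zero_smul] at h1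
  constructor
  · intro h
    have h1 := congrArg (ap A⁻¹) h
    rwa [ap_inv_ap, h0] at h1
  · rintro rfl
    exact h0 A

/-- the `i`-th section -/
def sec1 (i : Fin k) : NatSec F (stab1 M i) V (ker1 M i) where
  π v := M.nat.e v i
  map_mul v hv w hw := by rw [M.nat.mul v hv w hw]; rfl
  V0V v hv := hv.1
  ker v hv := ⟨fun h => ⟨hv, h⟩, fun h => h.2⟩
  surj x := by
    obtain ⟨v, hv, e⟩ := M.nat.surj fun _ => x
    exact ⟨v, hv, by rw [e]⟩
  Vn h hh v hv := M.Vn h hh.1 v hv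
  V0n h hh v hv := ⟨M.Vn h hh.1 v hv.1, (hh.2 v hv.1).2 hv.2⟩
  lift A := by
    obtain ⟨g, hg, h1, -⟩ := M.nat.lift fun _ => A
    refine ⟨g, ⟨hg, fun v hv => ?_⟩, fun v hv => h1 v hv i⟩
    rw [h1 v hv i, ap_eq_zero]
  norm := by
    intro g hg h hh A hA
    obtain ⟨x, hx, h1, -⟩ := M.nat.lift fun _ => A
    obtain ⟨B, hB⟩ := M.nat.norm g hg.1 x hx (fun _ => A) h1
    refine ⟨B i, fun v hv => ?_⟩
    rw [← hB v hv]
    have hv' : g⁻¹ * v * g ∈ V := by
      have := M.Vn g⁻¹ (inv_mem hg.1) v hv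
      rwa [inv_inv] at this
    have ha := M.Vn h hh.1 _ hv'
    have hb := M.Vn x hx _ hv'
    have h2 : M.nat.e (h * (g⁻¹ * v * g) * h⁻¹ * (x * (g⁻¹ * v * g) * x⁻¹)⁻¹) i = 0 := by
      rw [M.map_div ha hb, Pi.sub_apply, hA _ hv', h1 _ hv' i, sub_self]
    have h3 := (hg.2 _ (mul_mem ha (inv_mem hb))).2 h2
    have e : g * (h * (g⁻¹ * v * g) * h⁻¹ * (x * (g⁻¹ * v * g) * x⁻¹)⁻¹) * g⁻¹ =
        (g * h * g⁻¹ * v * (g * h * g⁻¹)⁻¹) * (g * x * g⁻¹ * v * (g * x * g⁻¹)⁻¹)⁻¹ := by group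
    have hc := M.Vn _ (mul_mem (mul_mem hg.1 hh.1) (inv_mem hg.1)) v hv
    have hd := M.Vn _ (mul_mem (mul_mem hg.1 hx) (inv_mem hg.1)) v hv
    rw [e, M.map_div hc hd, Pi.sub_apply, sub_eq_zero] at h3
    exact h3

/-- the product of the lines -/
def lineM : Subgroup G where
  carrier := {v | v ∈ V ∧ ∀ i, M.nat.e v i 1 = 0}
  mul_mem' := by
    rintro a b ⟨ha, ha'⟩ ⟨hb, hb'⟩
    exact ⟨mul_mem ha hb, fun i => by
      rw [M.nat.mul a ha b hb, Pi.add_apply, Pi.add_apply, ha' i, hb' i, add_zero]⟩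
  one_mem' := ⟨one_mem V, fun i => by rw [M.map_one]; rfl⟩
  inv_mem' := by
    rintro a ⟨ha, ha'⟩
    exact ⟨inv_mem ha, fun i => by rw [M.map_inv ha, Pi.neg_apply, Pi.neg_apply, ha' i, neg_zero]⟩

theorem mem_lineM {v : G} : v ∈ lineM M ↔ v ∈ V ∧ ∀ i, M.nat.e v i 1 = 0 := Iff.rfl

theorem D_le_lineM : D ≤ lineM M := fun v hv => ⟨M.DV hv, fun i => by
  rw [(M.nat.ker v (M.DV hv)).2 hv]; rfl⟩

/-- elements of `T` which centralise the lines -/
theorem natUp [Finite G] [Finite F] [CharP F 2] (hT : Syl T H) {t : G} (ht : t ∈ T)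
    (hc : ∀ v ∈ lineM M, t * v = v * t) : ∃ c : Fin k → F, M.Acts t fun i => up (c i) := by
  classical
  have htH := hT.1 ht
  obtain ⟨n, hn⟩ := hT.2.1 ⟨t, ht⟩
  have hn' : t ^ 2 ^ n = 1 := by simpa using congrArg Subtype.val hn
  obtain ⟨σ, hσ⟩ := M.nat.perm t htH
  -- vectors of the lines
  have hl : ∀ (i : Fin k) (x : Fin 2 → F), x 1 = 0 → ∃ w ∈ lineM M, M.nat.e w = Pi.single i x := by
    intro i x hx
    obtain ⟨w, hw, e⟩ := M.nat.surj (Pi.single i x)
    refine ⟨w, ⟨hw, fun j => ?_⟩, e⟩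
    rw [e]
    by_cases hj : j = i
    · subst hj; rw [Pi.single_eq_same]; exact hx
    · rw [Pi.single_eq_of_ne hj]; rfl
  have hfix : ∀ w ∈ lineM M, t * w * t⁻¹ = w := fun w hw => by rw [hc w hw]; group
  have hσ1 : ∀ i, σ i = i := by
    intro i
    by_contra hne
    obtain ⟨w, hw, e⟩ := hl i ![1, 0] (by simp)
    have h1 := hσ w hw.1 i
    rw [hfix w hw, e, Pi.single_eq_of_ne hne, Pi.single_eq_same] at h1
    have h2 := congrFun (h1.1 rfl) 0
    simp at h2
  have hup : ∀ i, ∃ c : F, ∀ v ∈ V, M.nat.e (t * v * t⁻¹) i = ap (up c) (M.nat.e v i) := by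
    intro i
    have htS : t ∈ stab1 M i := ⟨htH, fun v hv => by
      have h1 := hσ v hv i
      rwa [hσ1 i] at h1⟩
    obtain ⟨c, hcc⟩ := (sec1 M i).up_of_line htS hn' (by
      intro v hv h0
      show M.nat.e (t * v * t⁻¹) i = M.nat.e v i
      obtain ⟨w, hw, e⟩ := hl i (M.nat.e v i) h0
      have h1 : M.nat.e (w⁻¹ * v) i = 0 := by
        rw [M.nat.mul _ (inv_mem hw.1) v hv, Pi.add_apply, M.map_inv hw.1, Pi.neg_apply, e, Pi.single_eq_same,
          neg_add_cancel]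
      have hwv := mul_mem (inv_mem hw.1) hv
      have h2 := (htS.2 _ hwv).2 h1
      have h3 := M.Vn t htH _ hwv
      have e2 : t * v * t⁻¹ = (t * w * t⁻¹) * (t * (w⁻¹ * v) * t⁻¹) := by group
      rw [e2, hfix w hw, M.nat.mul w hw.1 _ h3, Pi.add_apply, h2, add_zero, e, Pi.single_eq_same])
    exact ⟨c, hcc⟩
  choose c hcc using hup
  exact ⟨c, fun v hv i => hcc i v hv⟩

theorem natCenM [Finite G] [Finite F] [CharP F 2] (hm : MinH H T)
    (hcV : T ⊓ centralizer (V : Set G) ≤ o2 H) :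
    (o2 H).relIndex (T ⊓ centralizer (lineM M : Set G)) ≤ Nat.card (Fin k → F) := by
  have key : ∀ x : (T ⊓ centralizer (lineM M : Set G) : Subgroup G), ∃ c : Fin k → F,
      M.Acts x fun i => up (c i) := fun x =>
    natUp M hm.syl x.2.1 fun v hv => (mem_centralizer_iff.1 x.2.2 v hv).symm
  choose f hf using key
  refine relIndex_le_card f fun x y hxy => ?_
  have hxH := hm.syl.1 x.2.1
  have hyH := hm.syl.1 y.2.1
  have h1 := NatC.acts_mul hyH (NatC.acts_inv hxH (hf x)) (hf y)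
  rw [hxy, inv_mul_cancel] at h1
  refine hcV (mem_inf.2 ⟨mul_mem (inv_mem x.2.1) y.2.1, mem_centralizer_iff.2 fun v hv => ?_⟩)
  refine (M.cent_of_stab hm ⟨mul_mem (inv_mem hxH) hyH, h1, fun d hd => ?_⟩ hv).symm
  have hd' := D_le_lineM M hd
  have e1 : Commute (x : G) d := (mem_centralizer_iff.1 x.2.2 d hd').symm
  have e2 : Commute (y : G) d := (mem_centralizer_iff.1 y.2.2 d hd').symm
  exact (e1.inv_left.mul_left e2).eq

theorem natCardM [Finite G] [Finite F] : Nat.card V = Nat.card (lineM M) * Nat.card (Fin k → F) := by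
  refine card_of_hom (fun v hv => hv.1) (fun v i => M.nat.e v i 1) ?_ ?_ ?_
  · intro v hv w hw
    funext i
    show M.nat.e (v * w) i 1 = M.nat.e v i 1 + M.nat.e w i 1
    rw [M.nat.mul v hv w hw]; rfl
  · intro c
    obtain ⟨v, hv, e⟩ := M.nat.surj fun i => ![0, c i]
    refine ⟨v, hv, ?_⟩
    funext i
    rw [e]; simp
  · intro v hv
    constructor
    · intro h
      exact ⟨hv, fun i => congrFun h i⟩
    · intro h
      funext i
      exact h.2 i

theorem natCard1M [Finite G] [Finite F] : Nat.card (lineM M) = Nat.card D * Nat.card (Fin k → F) := by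
  refine card_of_hom (D_le_lineM M) (fun v i => M.nat.e v i 0) ?_ ?_ ?_
  · intro v hv w hw
    funext i
    show M.nat.e (v * w) i 0 = M.nat.e v i 0 + M.nat.e w i 0
    rw [M.nat.mul v hv.1 w hw.1]; rfl
  · intro c
    obtain ⟨v, hv, e⟩ := M.nat.surj fun i => ![c i, 0]
    refine ⟨v, ⟨hv, fun i => by rw [e]; simp⟩, ?_⟩
    funext i
    rw [e]; simp
  · intro v hv
    rw [← M.nat.ker v hv.1]
    constructor
    · intro h
      funext i
      exact ext2 (congrFun h i) (hv.2 i)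
    · intro h
      funext i
      show M.nat.e v i 0 = 0
      rw [h]; rfl

end nat

/-! ### Even-subset modules -/

section sym

variable {T H V D : Subgroup G} {k n : ℕ} {o : Fin n} {e : G → Fin k → Fin n → ZMod 2}

/-- the transposition `(x y)` of the component `j` is induced by `T` -/
def TrM (T H V D : Subgroup G) (e : G → Fin k → Fin n → ZMod 2) (j : Fin k) (x y : Fin n) : Prop :=
  x ≠ y ∧ ∃ t ∈ T, Gd H V D e (Pi.mulSingle j (Equiv.swap x y)) t

/-- the module data, with a transposition induced by `T` -/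
structure SyC (T H V D : Subgroup G) {k n : ℕ} (o : Fin n) (e : G → Fin k → Fin n → ZMod 2) : Prop
    extends Sy H V D e where
  TH : T ≤ H
  Tp : IsPGroup 2 T
  trans : ∀ i j, ∃ t ∈ T, ∃ σ τ, ActsSym e V t σ τ ∧ σ i = j
  fix0 : ∀ t ∈ T, ∀ σ τ, ActsSym e V t σ τ → ∀ i, τ i o = o
  cyc : ∀ (j : Fin k) (x y : Fin n), x ≠ o → y ≠ o → ∃ t ∈ T, ∃ π, Gd H V D e (Pi.mulSingle j π) t ∧ π x = y
  ex : ∃ j x y, TrM T H V D e j x y

theorem TrM.symm {j : Fin k} {x y : Fin n} (h1 : TrM T H V D e j x y) : TrM T H V D e j y x := by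
  obtain ⟨h2, t, ht, h3⟩ := h1
  exact ⟨h2.symm, t, ht, by rwa [Equiv.swap_comm]⟩

theorem TrM.ne (h : SyC T H V D o e) {j : Fin k} {x y : Fin n} (h1 : TrM T H V D e j x y) : x ≠ o := by
  obtain ⟨h2, t, ht, h3⟩ := h1
  have h4 := h.fix0 t ht _ _ h3.act j
  rw [Pi.mulSingle_eq_same] at h4
  intro h5
  subst h5
  rw [Equiv.swap_apply_left] at h4
  exact h2 h4.symm

theorem TrM.conj (h : SyC T H V D o e) {j : Fin k} {x y : Fin n}
    (h1 : TrM T H V D e j x y) {s : G} (hs : s ∈ T) {σ : Equiv.Perm (Fin k)}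
    {τ : Fin k → Equiv.Perm (Fin n)} (hsa : ActsSym e V s σ τ) :
    TrM T H V D e (σ j) (τ j x) (τ j y) := by
  obtain ⟨h2, t, ht, h3⟩ := h1
  refine ⟨fun e => h2 ((τ j).injective e), s * t * s⁻¹, mul_mem (mul_mem hs ht) (inv_mem hs), ?_⟩
  have h4 := h.gd_conj_single (h.TH hs) hsa h3
  rwa [← Equiv.swap_apply_apply] at h4

theorem TrM.disj (h : SyC T H V D o e) {j : Fin k} {x y z : Fin n} (h1 : TrM T H V D e j x y)
    (h2 : TrM T H V D e j x z) : y = z := by
  obtain ⟨h3, t, ht, h4⟩ := h1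
  obtain ⟨h5, s, hs, h6⟩ := h2
  exact disj' h.toSy h.Tp h3 h5 ht hs h4 h6

/-- every point different from `o` is moved by a transposition -/
theorem SyC.cover (h : SyC T H V D o e) (j : Fin k) {x : Fin n} (hx : x ≠ o) : ∃ y, TrM T H V D e j x y := by
  obtain ⟨j₀, x₀, y₀, h0⟩ := h.ex
  obtain ⟨t, ht, σ, τ, hta, hσ⟩ := h.trans j₀ j
  have h1 := h0.conj h ht hta
  rw [hσ] at h1
  obtain ⟨s, hs, π, hπ, hπx⟩ := h.cyc j _ _ (h1.ne h) hx
  have h2 := h1.conj h hs hπ.act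
  rw [Equiv.Perm.one_apply, Pi.mulSingle_eq_same, hπx] at h2
  exact ⟨_, h2⟩

/-- The index set of the transpositions. -/
structure ChM (T H V D : Subgroup G) (e : G → Fin k → Fin n → ZMod 2) {ι : Type}
    (J : ι → Fin k) (X Y : ι → Fin n) : Prop where
  tr : ∀ i, TrM T H V D e (J i) (X i) (Y i)
  inj : ∀ i j, u H V D e (J i) (X i) (Y i) = u H V D e (J j) (X j) (Y j) → i = j
  ex : ∀ j x y, TrM T H V D e j x y → ∃ i, u H V D e (J i) (X i) (Y i) = u H V D e j x y

theorem SyC.exists_ch (h : SyC T H V D o e) : ∃ (ι : Type) (J : ι → Fin k) (X Y : ι → Fin n),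
    Finite ι ∧ ChM T H V D e J X Y := by
  let ι : Type := {p : Fin k × Fin n × Fin n // TrM T H V D e p.1 p.2.1 p.2.2 ∧ p.2.1 < p.2.2}
  refine ⟨ι, fun i => i.1.1, fun i => i.1.2.1, fun i => i.1.2.2, inferInstance, fun i => i.2.1, ?_, ?_⟩
  · rintro ⟨⟨j, x, y⟩, hT, hxy⟩ ⟨⟨j', x', y'⟩, hT', hxy'⟩ hij
    obtain ⟨h1, h2⟩ := h.u_inj hT.1 hij
    simp only at h1 h2 hxy hxy'
    rcases h2 with ⟨h2, h3⟩ | ⟨h2, h3⟩
    · subst h1; subst h2; subst h3; rfl
    · exfalso
      rw [h2, h3] at hxy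
      exact absurd hxy (not_lt.2 hxy'.le)
  · intro j x y hT
    rcases lt_or_gt_of_ne hT.1 with h1 | h1
    · exact ⟨⟨(j, x, y), hT, h1⟩, rfl⟩
    · exact ⟨⟨(j, y, x), hT.symm, h1⟩, h.u_symm _ _ _⟩

variable {ι : Type} {J : ι → Fin k} {X Y : ι → Fin n}

theorem ChM.exists_idx (h : SyC T H V D o e) (c : ChM T H V D e J X Y) {j : Fin k}
    {x y : Fin n} (hT : TrM T H V D e j x y) : ∃ i, J i = j ∧
      u H V D e (J i) (X i) (Y i) = u H V D e j x y ∧ ((X i = x ∧ Y i = y) ∨ (X i = y ∧ Y i = x)) := by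
  obtain ⟨i, hi⟩ := c.ex j x y hT
  obtain ⟨h1, h2⟩ := h.u_inj (c.tr i).1 hi
  exact ⟨i, h1, hi, h2⟩

/-- Two indices: equal, or different components, or disjoint pairs. -/
theorem ChM.cases (h : SyC T H V D o e) (c : ChM T H V D e J X Y) {i j : ι} (hij : i ≠ j)
    (hJ : J i = J j) : X i ≠ X j ∧ X i ≠ Y j ∧ Y i ≠ X j ∧ Y i ≠ Y j := by
  have hi := c.tr i
  have hj := c.tr j
  rw [hJ] at hi
  have key : ∀ {a b : Fin n}, (a = X i ∧ b = Y i) ∨ (a = Y i ∧ b = X i) →
      ((a = X j ∧ b = Y j) ∨ (a = Y j ∧ b = X j)) → False := by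
    intro a b h1 h2
    apply hij
    apply c.inj
    rw [hJ]
    rcases h1 with ⟨rfl, rfl⟩ | ⟨rfl, rfl⟩ <;> rcases h2 with ⟨h2, h3⟩ | ⟨h2, h3⟩
    · rw [h2, h3]
    · rw [h2, h3, h.u_symm]
    · rw [h2, h3, h.u_symm]
    · rw [h2, h3]
  refine ⟨fun e1 => ?_, fun e1 => ?_, fun e1 => ?_, fun e1 => ?_⟩
  · have hi' := hi
    rw [e1] at hi'
    exact key (Or.inl ⟨rfl, rfl⟩) (Or.inl ⟨e1, TrM.disj h hi' hj⟩)
  · have hi' := hi
    rw [e1] at hi'
    exact key (Or.inl ⟨rfl, rfl⟩) (Or.inr ⟨e1, TrM.disj h hi' hj.symm⟩)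
  · have hi' := hi.symm
    rw [e1] at hi'
    exact key (Or.inr ⟨rfl, rfl⟩) (Or.inl ⟨e1, TrM.disj h hi' hj⟩)
  · have hi' := hi.symm
    rw [e1] at hi'
    exact key (Or.inr ⟨rfl, rfl⟩) (Or.inr ⟨e1, TrM.disj h hi' hj.symm⟩)

/-- the coordinates of `u i` -/
theorem e_u_valM (h : SyC T H V D o e) (c : ChM T H V D e J X Y) (i l : ι) [Decidable (l = i)] :
    e (u H V D e (J i) (X i) (Y i)) (J l) (X l) = (if l = i then 1 else 0) ∧
      e (u H V D e (J i) (X i) (Y i)) (J l) (Y l) = (if l = i then 1 else 0) := by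
  have h1 := h.e_u (J i) (X i) (Y i)
  rw [h1]
  have hxy := (c.tr i).1
  by_cases hli : l = i
  · subst hli
    rw [if_pos rfl]
    constructor
    · rw [Pi.add_apply, Pi.add_apply, E_self, E_ne fun h => hxy h.2, add_zero]
    · rw [Pi.add_apply, Pi.add_apply, E_self, E_ne fun h => hxy h.2.symm, zero_add]
  · rw [if_neg hli]
    by_cases hJ : J l = J i
    · obtain ⟨a1, a2, a3, a4⟩ := c.cases h hli hJ
      constructor
      · rw [Pi.add_apply, Pi.add_apply, E_ne fun h => a1 h.2, E_ne fun h => a2 h.2, add_zero]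
      · rw [Pi.add_apply, Pi.add_apply, E_ne fun h => a3 h.2, E_ne fun h => a4 h.2, add_zero]
    · constructor
      · rw [Pi.add_apply, Pi.add_apply, E_ne fun h => hJ h.1, E_ne fun h => hJ h.1, add_zero]
      · rw [Pi.add_apply, Pi.add_apply, E_ne fun h => hJ h.1, E_ne fun h => hJ h.1, add_zero]

/-- `D` and the `u i` -/
def uM (H V D : Subgroup G) (e : G → Fin k → Fin n → ZMod 2) (J : ι → Fin k) (X Y : ι → Fin n) : Subgroup G :=
  D ⊔ closure (Set.range fun i => u H V D e (J i) (X i) (Y i))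

theorem D_le_uM : D ≤ uM H V D e J X Y := le_sup_left

theorem u_mem_uM (i : ι) : u H V D e (J i) (X i) (Y i) ∈ uM H V D e J X Y :=
  mem_sup_right (subset_closure ⟨i, rfl⟩)

theorem uM_le {K : Subgroup G} (h1 : D ≤ K) (h2 : ∀ i, u H V D e (J i) (X i) (Y i) ∈ K) :
    uM H V D e J X Y ≤ K := by
  refine sup_le h1 ((closure_le _).2 ?_)
  rintro _ ⟨i, rfl⟩
  exact h2 i

theorem uM_le_V (h : SyC T H V D o e) : uM H V D e J X Y ≤ V := uM_le h.DV fun i => h.u_mem _ _ _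

theorem exists_uM (h : SyC T H V D o e) (c : ChM T H V D e J X Y) [Finite ι] (f : ι → ZMod 2) :
    ∃ w ∈ uM H V D e J X Y, ∀ l, e w (J l) (X l) = f l ∧ e w (J l) (Y l) = f l := by
  classical
  have := Fintype.ofFinite ι
  have key : ∀ s : Finset ι, ∃ w ∈ uM H V D e J X Y, ∀ l, e w (J l) (X l) = (if l ∈ s then f l else 0) ∧
      e w (J l) (Y l) = (if l ∈ s then f l else 0) := by
    intro s
    induction s using Finset.induction_on with
    | empty =>
      refine ⟨1, one_mem _, fun l => ?_⟩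
      rw [h.e_one]
      simp
    | insert i s hi ih =>
      obtain ⟨w, hw, hwl⟩ := ih
      by_cases hf : f i = 0
      · refine ⟨w, hw, fun l => ?_⟩
        rw [(hwl l).1, (hwl l).2]
        by_cases hl : l = i
        · subst hl
          simp [hi, hf]
        · simp [hl]
      · refine ⟨w * u H V D e (J i) (X i) (Y i), mul_mem hw (u_mem_uM i), fun l => ?_⟩
        obtain ⟨h1, h2⟩ := e_u_valM h c i l
        rw [h.mul w (uM_le_V h hw) _ (h.u_mem _ _ _), Pi.add_apply, Pi.add_apply, Pi.add_apply, h1, h2,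
          (hwl l).1, (hwl l).2]
        by_cases hl : l = i
        · subst hl
          simp [hi, two_eq hf]
        · simp [hl]
  obtain ⟨w, hw, h1⟩ := key Finset.univ
  exact ⟨w, hw, fun l => by simpa using h1 l⟩

theorem mem_D_ofM (h : SyC T H V D o e) (c : ChM T H V D e J X Y) {v : G} (hv : v ∈ V)
    (h1 : ∀ l, e v (J l) (X l) = 0 ∧ e v (J l) (Y l) = 0) : v ∈ D := by
  rw [← h.ker v hv]
  have key : ∀ j x, x ≠ o → e v j x = 0 := by
    intro j x hx
    obtain ⟨y, hy⟩ := h.cover j hx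
    obtain ⟨i, hiJ, -, hi⟩ := c.exists_idx h hy
    rcases hi with ⟨hi, -⟩ | ⟨-, hi⟩
    · rw [← hiJ, ← hi]; exact (h1 i).1
    · rw [← hiJ, ← hi]; exact (h1 i).2
  funext j x
  by_cases hx : x = o
  · subst hx
    have h2 := h.even v hv j
    rw [Finset.sum_eq_single x (fun y _ hy => key j y hy) (fun hx => absurd (Finset.mem_univ x) hx)] at h2
    exact h2
  · exact key j x hx

theorem mem_uM_of (h : SyC T H V D o e) (c : ChM T H V D e J X Y) [Finite ι] {v : G} (hv : v ∈ V)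
    (h1 : ∀ l, e v (J l) (X l) = e v (J l) (Y l)) : v ∈ uM H V D e J X Y := by
  obtain ⟨w, hw, h2⟩ := exists_uM h c fun l => e v (J l) (X l)
  have hwV := uM_le_V h hw
  have h3 : v * w ∈ D := by
    refine mem_D_ofM h c (mul_mem hv hwV) fun l => ?_
    rw [h.mul v hv w hwV, Pi.add_apply, Pi.add_apply, Pi.add_apply, (h2 l).1, (h2 l).2, ← h1 l]
    exact ⟨CharTwo.add_self_eq_zero _, CharTwo.add_self_eq_zero _⟩
  have h4 := mul_mem (D_le_uM h3) (inv_mem hw)
  rwa [mul_inv_cancel_right] at h4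

theorem e_uM (h : SyC T H V D o e) (c : ChM T H V D e J X Y) {v : G} (hv : v ∈ uM H V D e J X Y) (l : ι) :
    e v (J l) (X l) = e v (J l) (Y l) := by
  classical
  let K : Subgroup G :=
    { carrier := {v | v ∈ V ∧ e v (J l) (X l) = e v (J l) (Y l)}
      mul_mem' := by
        rintro a b ⟨ha, ha'⟩ ⟨hb, hb'⟩
        refine ⟨mul_mem ha hb, ?_⟩
        rw [h.mul a ha b hb, Pi.add_apply, Pi.add_apply, Pi.add_apply, ha', hb']
      one_mem' := ⟨one_mem _, by rw [h.e_one]; rfl⟩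
      inv_mem' := by
        rintro a ⟨ha, ha'⟩
        exact ⟨inv_mem ha, by rw [h.e_inv ha]; exact ha'⟩ }
  have h1 : uM H V D e J X Y ≤ K := by
    refine uM_le (fun d hd => ⟨h.DV hd, ?_⟩) fun i => ⟨h.u_mem _ _ _, ?_⟩
    · rw [(h.ker d (h.DV hd)).2 hd]; rfl
    · obtain ⟨a, b⟩ := e_u_valM h c i l
      rw [a, b]
  exact (h1 hv).2

theorem symCard1M [Finite G] (h : SyC T H V D o e) (c : ChM T H V D e J X Y) [Finite ι] :
    Nat.card (uM H V D e J X Y) = Nat.card D * Nat.card (ι → ZMod 2) := by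
  refine card_of_hom D_le_uM (fun (v : G) (i : ι) => e v (J i) (X i)) ?_ ?_ ?_
  · intro v hv w hw
    funext i
    show e (v * w) (J i) (X i) = e v (J i) (X i) + e w (J i) (X i)
    rw [h.mul v (uM_le_V h hv) w (uM_le_V h hw)]; rfl
  · intro f
    obtain ⟨w, hw, h1⟩ := exists_uM h c f
    exact ⟨w, hw, funext fun l => (h1 l).1⟩
  · intro v hv
    constructor
    · intro h1
      refine mem_D_ofM h c (uM_le_V h hv) fun l => ?_
      rw [← e_uM h c hv l]
      exact ⟨congrFun h1 l, congrFun h1 l⟩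
    · intro h1
      funext i
      show e v (J i) (X i) = 0
      rw [(h.ker v (uM_le_V h hv)).2 h1]; rfl

theorem symCardM [Finite G] (h : SyC T H V D o e) (c : ChM T H V D e J X Y) [Finite ι] :
    Nat.card V ≤ Nat.card (uM H V D e J X Y) * Nat.card (ι → ZMod 2) := by
  rw [← card_mul_relIndex (uM_le_V h : uM H V D e J X Y ≤ V)]
  refine Nat.mul_le_mul_left _ (relIndex_le_card (fun (v : V) (i : ι) =>
    e (v : G) (J i) (X i) + e (v : G) (J i) (Y i)) fun x y hxy => ?_)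
  refine mem_uM_of h c (mul_mem (inv_mem x.2) y.2) fun l => ?_
  rw [h.mul _ (inv_mem x.2) _ y.2, h.e_inv x.2]
  have h1 : e (x : G) (J l) (X l) + e (x : G) (J l) (Y l) = e (y : G) (J l) (X l) + e (y : G) (J l) (Y l) :=
    congrFun hxy l
  have h2 := CharTwo.add_self_eq_zero (e (y : G) (J l) (X l))
  have h3 := CharTwo.add_self_eq_zero (e (x : G) (J l) (Y l))
  simp only [Pi.add_apply]
  linear_combination h1 + h2 - h3

/-- the elements of `T` centralising `V₁` -/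
theorem symCenM [Finite G] {Q : Subgroup G} (h : SyC T H V D o e) (c : ChM T H V D e J X Y) [Finite ι]
    (cT : T ⊓ centralizer (V : Set G) ≤ Q) :
    Q.relIndex (T ⊓ centralizer (uM H V D e J X Y : Set G)) ≤ Nat.card (ι → ZMod 2) := by
  classical
  have key : ∀ x : (T ⊓ centralizer (uM H V D e J X Y : Set G) : Subgroup G), ∃ τ, Gd H V D e τ x ∧
      (∀ j, τ j o = o) ∧ ∀ i,
      (τ (J i) (X i) = X i ∧ τ (J i) (Y i) = Y i) ∨ (τ (J i) (X i) = Y i ∧ τ (J i) (Y i) = X i) := by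
    rintro ⟨x, hx, hxc⟩
    have hxc' : ∀ v ∈ uM H V D e J X Y, x * v = v * x := fun v hv => (mem_centralizer_iff.1 hxc v hv).symm
    obtain ⟨σ, τ, hxa⟩ := h.perm x (h.TH hx)
    have h0 := h.fix0 x hx σ τ hxa
    have key : ∀ j a b, TrM T H V D e j a b → σ j = j ∧
        ((τ j a = a ∧ τ j b = b) ∨ (τ j a = b ∧ τ j b = a)) := by
      intro j a b hT
      obtain ⟨i, -, hi, -⟩ := c.exists_idx h hT
      have h1 := h.u_conj (h.TH hx) hxa j a b
      have h2 := hxc' _ (u_mem_uM i)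
      rw [hi] at h2
      have h3 : u H V D e (σ j) (τ j a) (τ j b) = u H V D e j a b := by
        rw [← h1, h2]; group
      exact h.u_inj (fun e => hT.1 ((τ j).injective e)) h3
    have hσ : σ = 1 := by
      ext j
      obtain ⟨z, hz, -⟩ := h.exists_third o o
      obtain ⟨y, hy⟩ := h.cover j hz
      rw [(key j z y hy).1]; rfl
    subst hσ
    exact ⟨τ, ⟨h.TH hx, fun d hd => hxc' d (D_le_uM hd), hxa⟩, h0, fun i => (key _ _ _ (c.tr i)).2⟩
  choose f hf h0 hf' using key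
  refine relIndex_le_card (fun x i => if f x (J i) (X i) = X i then (0 : ZMod 2) else 1) fun x y hxy => ?_
  have h1 : f x = f y := by
    funext j
    ext1 z
    by_cases hz : z = o
    · rw [hz, h0, h0]
    · obtain ⟨z', hz'⟩ := h.cover j hz
      obtain ⟨i, hiJ, -, hi⟩ := c.exists_idx h hz'
      have hne := (c.tr i).1
      have h2 := congrFun hxy i
      have h3 : (f x (J i) (X i) = X i) ↔ (f y (J i) (X i) = X i) := by
        by_cases h4 : f x (J i) (X i) = X i <;> by_cases h5 : f y (J i) (X i) = X i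
        · exact ⟨fun _ => h5, fun _ => h4⟩
        · simp [h4, h5] at h2
        · simp [h4, h5] at h2
        · exact ⟨fun h => absurd h h4, fun h => absurd h h5⟩
      have h6 : f x (J i) (X i) = f y (J i) (X i) ∧ f x (J i) (Y i) = f y (J i) (Y i) := by
        rcases hf' x i with ⟨a1, a2⟩ | ⟨a1, a2⟩ <;> rcases hf' y i with ⟨b1, b2⟩ | ⟨b1, b2⟩
        · exact ⟨a1.trans b1.symm, a2.trans b2.symm⟩
        · exact absurd ((h3.1 a1).symm.trans b1) hne
        · exact absurd ((h3.2 b1).symm.trans a1) hne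
        · exact ⟨a1.trans b1.symm, a2.trans b2.symm⟩
      rw [← hiJ]
      rcases hi with ⟨hi, -⟩ | ⟨-, hi⟩
      · rw [← hi]; exact h6.1
      · rw [← hi]; exact h6.2
  have h2 := h.gd_mul (h.gd_inv (hf x)) (hf y)
  rw [h1, inv_mul_cancel] at h2
  refine cT (mem_inf.2 ⟨mul_mem (inv_mem x.2.1) y.2.1, mem_centralizer_iff.2 fun v hv => ?_⟩)
  have h3 := h.gd_sim h2 h.gd_one v hv
  rw [one_mul, inv_one, mul_one] at h3
  symm
  calc (x : G)⁻¹ * y * v = ((x : G)⁻¹ * y * v * ((x : G)⁻¹ * y)⁻¹) * ((x : G)⁻¹ * y) := by group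
    _ = v * ((x : G)⁻¹ * y) := by rw [h3]

/-- an element which acts as a product of transpositions centralises `V₁` -/
theorem symOffM (h : SyC T H V D o e) (c : ChM T H V D e J X Y) {a : G} (ha : a ∈ H)
    (hD : ∀ d ∈ D, a * d = d * a) {τ : Fin k → Equiv.Perm (Fin n)} (hτ : ActsSym e V a 1 τ)
    (h2 : ∀ i x, τ i x ≠ x → TrM T H V D e i x (τ i x)) :
    a ∈ centralizer (uM H V D e J X Y : Set G) := by
  have hle : uM H V D e J X Y ≤ centralizer {a} := by
    refine uM_le (fun d hd => mem_centralizer_singleton_iff.2 (hD d hd).symm) fun i => ?_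
    rw [mem_centralizer_singleton_iff]
    have hT := c.tr i
    have hkey : ∀ x y : Fin n, TrM T H V D e (J i) x y → τ (J i) x = x ∨ τ (J i) x = y := by
      intro x y hxy
      by_cases hx : τ (J i) x = x
      · exact Or.inl hx
      · exact Or.inr (TrM.disj h hxy (h2 _ _ hx)).symm
    have h3 := hkey _ _ hT
    have h4 := hkey _ _ hT.symm
    have h5 : u H V D e (J i) (τ (J i) (X i)) (τ (J i) (Y i)) = u H V D e (J i) (X i) (Y i) := by
      rcases h3 with h3 | h3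
      · rcases h4 with h4 | h4
        · rw [h3, h4]
        · exfalso
          exact hT.1 ((τ (J i)).injective (h3.trans h4.symm))
      · rcases h4 with h4 | h4
        · exfalso
          exact hT.1 ((τ (J i)).injective (h3.trans h4.symm))
        · rw [h3, h4, h.u_symm]
    have h1 := h.u_conj ha hτ (J i) (X i) (Y i)
    rw [Equiv.Perm.one_apply, h5] at h1
    symm
    calc a * u H V D e (J i) (X i) (Y i) =
        (a * u H V D e (J i) (X i) (Y i) * a⁻¹) * a := by group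
      _ = _ := by rw [h1]
  exact mem_centralizer_iff.2 fun v hv => mem_centralizer_singleton_iff.1 (hle hv)

end sym

/-! ### The result -/

variable [Finite G] {S : Sylow 2 G} {R : Subgroup G}

/-- **A member of `P*(S)` with an offender.** -/
theorem ptM_of (hFF : StmtM.{u}) (hG : IsCharacteristicTwoType G) (hR : IsParS (S : Subgroup G) R)
    {A : Subgroup G} (hA : A ≤ (S : Subgroup G)) (hoff : OffM (zl (S : Subgroup G) R) A) :
    ∃ V1, PtM (S : Subgroup G) R V1 := by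
  have hsyl := syl_of hR
  have hch := hR.isLoc.char2 S hG
  have hm := minH hG hR
  have hcV := (IsParS.inf_centralizer S hG hR).le
  obtain ⟨hno, hcon⟩ := hFF G (S : Subgroup G) R hsyl hR.toIsMinPar hch ⟨A, hA.trans hsyl.1, hoff⟩
  rcases hcon with ⟨F, _, _, _, k, hk, ⟨M⟩⟩ | ⟨k, m, hk, hm2, ⟨M⟩⟩
  · let N := natC_of hm hk M.toNatK
    have h1 := natCenM N hm hcV
    have h2 := natCardM N
    have h3 := natCard1M N
    refine ⟨lineM N, hno, fun v hv => hv.1, fun B hB hB' b hb => ?_, h1.trans ?_, ?_⟩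
    · obtain ⟨I, h4, h5⟩ := M.offM B hB hB'
      refine mem_centralizer_iff.2 fun v hv => ?_
      exact (N.cent_line hm hB hB'.le h4 h5 hv.1 hv.2 hb).symm
    · rw [h3]
      exact Nat.le_mul_of_pos_left _ Nat.card_pos
    · rw [h2, pow_two, mul_assoc]
      refine Nat.mul_le_mul_left _ ?_
      rw [h3, mul_comm]
  · have hs := sy_of hm M.toSymK hk (by omega) SQ1.FFOf.cv_le SQ1.FFOf.cv_norm
    have hTH := hm.syl.1
    have hswap : ∀ B : Subgroup G, B ≤ (S : Subgroup G) → OffM (zl (S : Subgroup G) R) B → ∀ b ∈ B,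
        ∃ τ, Gd R (zl (S : Subgroup G) R) (cv (S : Subgroup G) R) M.e τ b ∧ ∀ i x, τ i x ≠ x →
          TrM (S : Subgroup G) R (zl (S : Subgroup G) R) (cv (S : Subgroup G) R) M.e i x (τ i x) := by
      intro B hB hB' b hb
      obtain ⟨hD, h2⟩ := M.offM B hB hB'
      obtain ⟨τ, hτ, hτ'⟩ := h2 b hb
      refine ⟨τ, ⟨hTH (hB hb), hD b hb, hτ⟩, fun i x hx => ?_⟩
      obtain ⟨-, b', hb', hb''⟩ := hτ' i x hx
      exact ⟨Ne.symm hx, b', hB hb', hTH (hB hb'), hD b' hb', hb''⟩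
    have h : SyC (S : Subgroup G) R (zl (S : Subgroup G) R) (cv (S : Subgroup G) R) (0 : Fin (2 ^ m + 1)) M.e := by
      refine ⟨hs, hTH, hm.syl.2.1, M.trans, M.fix0, fun j x y hx hy => cyc_T' hm M.toSymK hs (by omega) j hx hy, ?_⟩
      by_contra hcon
      push Not at hcon
      apply hoff.ne
      intro a ha
      obtain ⟨τ, hτ, hτ'⟩ := hswap A hA hoff a ha
      have h1 : τ = 1 := by
        funext i
        ext x
        by_contra hx
        have hx' : τ i x ≠ x := fun e => hx (by rw [e]; rfl)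
        exact hcon i x (τ i x) (hτ' i x hx')
      subst h1
      refine mem_centralizer_iff.2 fun v hv => ?_
      have h2 := hs.gd_sim hτ hs.gd_one v hv
      symm
      calc a * v = (a * v * a⁻¹) * a := by group
        _ = v * a := by rw [h2]; group
    obtain ⟨ι, J, X, Y, _, c⟩ := h.exists_ch
    have h1 := symCenM h c hcV
    have h2 := symCardM h c
    have h3 := symCard1M h c
    refine ⟨uM R (zl (S : Subgroup G) R) (cv (S : Subgroup G) R) M.e J X Y, hno, uM_le_V h,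
      fun B hB hB' b hb => ?_, h1.trans ?_, ?_⟩
    · obtain ⟨τ, hτ, hτ'⟩ := hswap B hB hB' b hb
      exact symOffM h c hτ.mem hτ.cd hτ.act hτ'
    · rw [h3]
      exact Nat.le_mul_of_pos_left _ Nat.card_pos
    · calc _ ≤ Nat.card (uM R (zl (S : Subgroup G) R) (cv (S : Subgroup G) R) M.e J X Y) * Nat.card (ι → ZMod 2) *
            Nat.card (cv (S : Subgroup G) R) := Nat.mul_le_mul_right _ h2
        _ = Nat.card (uM R (zl (S : Subgroup G) R) (cv (S : Subgroup G) R) M.e J X Y) *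
            (Nat.card (cv (S : Subgroup G) R) * Nat.card (ι → ZMod 2)) := by ring
        _ = _ := by rw [← h3, pow_two]

end Cfsg.Agent.Omega.NO3S.Fld

end

section


/-!
# BETA-FF (#19171 (4)): full support

`P ∈ P*(S)`, `V = V_P`, `D = C_V(O²(P))`, `A ≤ S` an offender on `V` (module form), `v ∈ V` such that some
`z ∈ Ω₁(Z(S)) - D` is a commutator `[a, v]`, `a ∈ A`.  Then all blocks of `V / D` occur in `A` and in `v`:

* `FS S P A V₁ v` : `C_V(A) = V₁`, `V₁ = [v, A] D`, `[a, v] ∈ D` only for `a ∈ C(V)`, `|C_S(V₁) : O₂(P)| |D| ≤ |V₁|`;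
* `exists_fs` : it holds (natural modules: the product of the lines; even-subset modules: the span of the pairs).
-/

set_option autoImplicit false
set_option linter.unusedSectionVars false
set_option linter.unusedVariables false

namespace Cfsg.Agent.Omega.NO3S.BetaFF

open Subgroup Cfsg Cfsg.Agent.ZN Cfsg.Agent.ZN.ChoiceBase Cfsg.Agent.Omega.MinPar
open Cfsg.Agent.ZN.ChoiceSit (Syl o2_le_syl)
open Cfsg.Agent.Omega.SQ1
open Cfsg.Agent.MinSimple.VModule (zc_le zc_le_zl zl_le le_o2 le_normalizer_zl le_normalizer_o2)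
open Cfsg.Agent.Omega.SQ1.FFOne Cfsg.Agent.Omega.SQ1.FFSym Cfsg.Agent.Lib.SL2Mat
open Cfsg.Agent.Omega.FFThm (NatK SymK NatKM SymKM OffM NoOverM ActsSym ActsSL StmtM)
open Cfsg.Agent.Omega.FrameFF (cv)
open Cfsg.Agent.Omega.NatPair (ap ap_zero' ap_one' ap_one ap_mul ap_add ap_smul ext2 ap_inv_ap ap_inj)
open Cfsg.Agent.Omega.NO3S.OneLine (NatC natC_of card_of_hom syl_of minH card_mul_relIndex cyc_T' disj' sy_of)
open Cfsg.Agent.Omega.NO3S.Fld

universe u

variable {G : Type u} [Group G]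

/-- **Full support.** -/
structure FS (S P A V1 : Subgroup G) (v : G) : Prop where
  le : V1 ≤ zl S P
  DV1 : cv S P ≤ V1
  cA : A ≤ centralizer (V1 : Set G)
  cV : zl S P ⊓ centralizer (A : Set G) ≤ V1
  mem : ∀ a ∈ A, a * v * a⁻¹ * v⁻¹ ∈ V1
  dec : ∀ w ∈ V1, ∃ a ∈ A, w * (a * v * a⁻¹ * v⁻¹) ∈ cv S P
  ker : ∀ a ∈ A, a * v * a⁻¹ * v⁻¹ ∈ cv S P → a ∈ centralizer (zl S P : Set G)
  cen : (o2 P).relIndex (S ⊓ centralizer (V1 : Set G)) * Nat.card (cv S P) ≤ Nat.card V1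
  no : NoOverM (zl S P) P

/-! ### Natural modules -/

section nat

variable {F : Type} [Field F] {T H V D : Subgroup G} {k : ℕ} (M : NatC F T H V D k)

/-- a fixed vector of `T` has full support -/
theorem fix_ne {z : G} (hzV : z ∈ V) (hz : z ∉ D) (hzT : ∀ t ∈ T, t * z = z * t) (j : Fin k) :
    M.nat.e z j ≠ 0 := by
  intro h0
  apply hz
  rw [← M.nat.ker z hzV]
  funext i
  obtain ⟨t, ht, h1⟩ := M.nat.trans i j
  have h2 := h1 z hzV
  rw [hzT t ht, mul_inv_cancel_right] at h2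
  exact h2.1 h0

/-- the coordinates of `[a, v]` -/
theorem e_comm {a v : G} (hv : v ∈ V) (ha : a ∈ H) {b : Fin k → F}
    (h : ActsSL M.nat.e V D a fun i => up (b i)) (i : Fin k) :
    M.nat.e (a * v * a⁻¹ * v⁻¹) i = ![b i * M.nat.e v i 1, 0] := by
  rw [M.map_div (M.Vn a ha v hv) hv, Pi.sub_apply, h.1 v hv i]
  refine ext2 ?_ ?_
  · rw [Pi.sub_apply, ap_zero', up_00, up_01]
    simp
  · rw [Pi.sub_apply, ap_one', up_10, up_11]
    simp

theorem nat_fs [Finite G] [Finite F] [CharP F 2] (hm : MinH H T) (hcV : T ⊓ centralizer (V : Set G) ≤ o2 H)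
    {A : Subgroup G} (hA : A ≤ T) (hoff : OffM V A) {I : Set (Fin k)}
    (h4 : ∀ a ∈ A, ∃ b : Fin k → F, (∀ i, i ∉ I → b i = 0) ∧ ActsSL M.nat.e V D a fun i => up (b i))
    (h5 : ∀ b : Fin k → F, (∀ i, i ∉ I → b i = 0) → ∃ a ∈ A, ActsSL M.nat.e V D a fun i => up (b i))
    {v z a₀ : G} (hv : v ∈ V) (hz : z ∉ D) (hzT : ∀ t ∈ T, t * z = z * t) (ha₀ : a₀ ∈ A)
    (haz : a₀ * v * a₀⁻¹ * v⁻¹ = z) :
    (∀ i, M.nat.e v i 1 ≠ 0) ∧ ∀ i, i ∈ I := by
  have hTH := hm.syl.1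
  have hzV : z ∈ V := by
    rw [← haz]
    exact mul_mem (M.Vn a₀ (hTH (hA ha₀)) v hv) (inv_mem hv)
  obtain ⟨b, hb, hbA⟩ := h4 a₀ ha₀
  have key : ∀ i, b i ≠ 0 ∧ M.nat.e v i 1 ≠ 0 := by
    intro i
    have h1 := e_comm M hv (hTH (hA ha₀)) hbA i
    rw [haz] at h1
    have h2 := fix_ne M hzV hz hzT i
    constructor
    · intro h3
      apply h2
      rw [h1, h3, zero_mul]
      exact ext2 rfl rfl
    · intro h3
      apply h2
      rw [h1, h3, mul_zero]
      exact ext2 rfl rfl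
  refine ⟨fun i => (key i).2, fun i => ?_⟩
  by_contra hi
  exact (key i).1 (hb i hi)

end nat

/-! ### Even-subset modules -/

section sym

variable {T H V D : Subgroup G} {k n : ℕ} {o : Fin n} {e : G → Fin k → Fin n → ZMod 2}
  {ι : Type} {J : ι → Fin k} {X Y : ι → Fin n}

theorem z2_eq {a : ZMod 2} (h : a ≠ 0) : a = 1 := by
  revert a; decide

/-- a fixed vector of `T` is `1` at all points `≠ o` -/
theorem fix_sym [Finite G] (h : SyC T H V D o e) (c : ChM T H V D e J X Y) {z : G} (hzV : z ∈ V) (hz : z ∉ D)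
    (hzT : ∀ t ∈ T, t * z = z * t) {j : Fin k} {x : Fin n} (hx : x ≠ o) : e z j x = 1 := by
  have hfix : ∀ t ∈ T, t * z * t⁻¹ = z := fun t ht => by rw [hzT t ht, mul_inv_cancel_right]
  obtain ⟨l, hl⟩ : ∃ l, ¬ (e z (J l) (X l) = 0 ∧ e z (J l) (Y l) = 0) := by
    by_contra hcon
    push Not at hcon
    exact hz (mem_D_ofM h c hzV hcon)
  obtain ⟨j₀, x₀, hx₀, h1⟩ : ∃ j₀ x₀, x₀ ≠ o ∧ e z j₀ x₀ = 1 := by
    by_cases h2 : e z (J l) (X l) = 0
    · refine ⟨J l, Y l, (c.tr l).symm.ne h, z2_eq fun h3 => hl ⟨h2, h3⟩⟩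
    · exact ⟨J l, X l, (c.tr l).ne h, z2_eq h2⟩
  obtain ⟨t, ht, σ, τ, hta, hσ⟩ := h.trans j₀ j
  have h2 := hta z hzV j₀ x₀
  rw [hfix t ht, hσ, h1] at h2
  have h3 : τ j₀ x₀ ≠ o := by
    intro h4
    apply hx₀
    apply (τ j₀).injective
    rw [h4, h.fix0 t ht σ τ hta]
  obtain ⟨s, hs, π, hπ, hπx⟩ := h.cyc j _ _ h3 hx
  have h4 := hπ.act z hzV j (τ j₀ x₀)
  rw [hfix s hs, Equiv.Perm.one_apply, Pi.mulSingle_eq_same, hπx, h2] at h4
  exact h4

/-- the coordinates of `[a, v]` -/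
theorem e_comm_sym (h : SyC T H V D o e) {a v : G} (hv : v ∈ V) (ha : a ∈ H) {τ : Fin k → Equiv.Perm (Fin n)}
    (hτ : ActsSym e V a 1 τ) (j : Fin k) (x : Fin n) :
    e (a * v * a⁻¹ * v⁻¹) j (τ j x) = e v j x + e v j (τ j x) := by
  have h1 := hτ v hv j x
  rw [Equiv.Perm.one_apply] at h1
  rw [h.mul _ (h.Vn a ha v hv) _ (inv_mem hv), Pi.add_apply, Pi.add_apply, h1, h.e_inv hv]

/-- what is known on the elements of the offender -/
structure SymA (T H V D A : Subgroup G) (e : G → Fin k → Fin n → ZMod 2) : Prop where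
  AT : A ≤ T
  act : ∀ a ∈ A, ∃ τ, Gd H V D e τ a ∧ ∀ i x, τ i x ≠ x → TrM T H V D e i x (τ i x) ∧
    ∃ b ∈ A, Gd H V D e (Function.update 1 i (Equiv.swap x (τ i x))) b

theorem SymA.pts (h : SyC T H V D o e) (c : ChM T H V D e J X Y) {A : Subgroup G}
    {τ : Fin k → Equiv.Perm (Fin n)} (hτ : ∀ i x, τ i x ≠ x → TrM T H V D e i x (τ i x)) (l : ι) :
    (τ (J l) (X l) = X l ∧ τ (J l) (Y l) = Y l) ∨ (τ (J l) (X l) = Y l ∧ τ (J l) (Y l) = X l) := by
  have hT := c.tr l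
  have hkey : ∀ x y : Fin n, TrM T H V D e (J l) x y → τ (J l) x = x ∨ τ (J l) x = y := by
    intro x y hxy
    by_cases hx : τ (J l) x = x
    · exact Or.inl hx
    · exact Or.inr (TrM.disj h hxy (hτ _ _ hx)).symm
  have h3 := hkey _ _ hT
  have h4 := hkey _ _ hT.symm
  rcases h3 with h3 | h3 <;> rcases h4 with h4 | h4
  · exact Or.inl ⟨h3, h4⟩
  · exact absurd ((τ (J l)).injective (h3.trans h4.symm)) hT.1
  · exact absurd ((τ (J l)).injective (h3.trans h4.symm)) hT.1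
  · exact Or.inr ⟨h3, h4⟩

/-- all pairs occur in `v` and in `A` -/
theorem SymA.full [Finite G] (h : SyC T H V D o e) (c : ChM T H V D e J X Y) {A : Subgroup G}
    (hA : SymA T H V D A e) {v z a₀ : G} (hv : v ∈ V) (hz : z ∉ D) (hzT : ∀ t ∈ T, t * z = z * t)
    (ha₀ : a₀ ∈ A) (haz : a₀ * v * a₀⁻¹ * v⁻¹ = z) :
    (∃ τ, Gd H V D e τ a₀ ∧ ∀ l, τ (J l) (X l) = Y l ∧ τ (J l) (Y l) = X l) ∧
      (∀ l, e v (J l) (X l) + e v (J l) (Y l) = 1) ∧
      ∀ l, ∃ b ∈ A, Gd H V D e (Function.update 1 (J l) (Equiv.swap (X l) (Y l))) b := by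
  have ha₀H := h.TH (hA.AT ha₀)
  have hzV : z ∈ V := by
    rw [← haz]
    exact mul_mem (h.Vn a₀ ha₀H v hv) (inv_mem hv)
  obtain ⟨τ, hτ, hτ'⟩ := hA.act a₀ ha₀
  have key : ∀ l, τ (J l) (X l) = Y l ∧ τ (J l) (Y l) = X l := by
    intro l
    rcases SymA.pts (A := A) h c (fun i x hx => (hτ' i x hx).1) l with h1 | h1
    · exfalso
      have h2 := e_comm_sym h hv ha₀H hτ.act (J l) (X l)
      rw [h1.1, haz, fix_sym h c hzV hz hzT ((c.tr l).ne h), CharTwo.add_self_eq_zero] at h2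
      exact one_ne_zero h2
    · exact h1
  refine ⟨⟨τ, hτ, key⟩, fun l => ?_, fun l => ?_⟩
  · have h2 := e_comm_sym h hv ha₀H hτ.act (J l) (X l)
    rw [(key l).1, haz, fix_sym h c hzV hz hzT ((c.tr l).symm.ne h)] at h2
    exact h2.symm
  · have h1 : τ (J l) (X l) ≠ X l := by
      rw [(key l).1]
      exact (c.tr l).1.symm
    obtain ⟨-, b, hb, h2⟩ := hτ' _ _ h1
    rw [(key l).1] at h2
    exact ⟨b, hb, h2⟩

/-- an element which moves no point `≠ o` centralises `V` -/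
theorem SymA.cent [Finite G] (h : SyC T H V D o e) (c : ChM T H V D e J X Y) {a : G}
    {τ : Fin k → Equiv.Perm (Fin n)} (hg : Gd H V D e τ a) (ho : ∀ i, τ i o = o)
    (hτ : ∀ l, τ (J l) (X l) = X l ∧ τ (J l) (Y l) = Y l) : a ∈ centralizer (V : Set G) := by
  have h1 : τ = 1 := by
    funext j
    ext1 x
    rw [Pi.one_apply, Equiv.Perm.one_apply]
    by_cases hx : x = o
    · rw [hx, ho]
    · obtain ⟨y, hy⟩ := h.cover j hx
      obtain ⟨i, hiJ, -, hi⟩ := c.exists_idx h hy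
      rw [← hiJ]
      rcases hi with ⟨hi, -⟩ | ⟨-, hi⟩
      · rw [← hi]; exact (hτ i).1
      · rw [← hi]; exact (hτ i).2
  subst h1
  refine mem_centralizer_iff.2 fun v hv => ?_
  have h2 := h.gd_sim hg h.gd_one v hv
  rw [one_mul, inv_one, mul_one] at h2
  symm
  calc a * v = (a * v * a⁻¹) * a := by group
    _ = v * a := by rw [h2]

end sym

/-! ### The result -/

variable [Finite G] {S : Sylow 2 G} {P : Subgroup G}

/-- `[a b, v] = [a, v] [b, v]` if `a` centralises `[b, v]` -/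
theorem comm_mul {a b v : G} (h : a * (b * v * b⁻¹ * v⁻¹) = b * v * b⁻¹ * v⁻¹ * a) :
    a * b * v * (a * b)⁻¹ * v⁻¹ = b * v * b⁻¹ * v⁻¹ * (a * v * a⁻¹ * v⁻¹) := by
  calc a * b * v * (a * b)⁻¹ * v⁻¹ = a * (b * v * b⁻¹ * v⁻¹) * v * a⁻¹ * v⁻¹ := by group
    _ = b * v * b⁻¹ * v⁻¹ * a * v * a⁻¹ * v⁻¹ := by rw [h]
    _ = _ := by group

/-- **LEMMA FS (full support).** -/
theorem exists_fs (hFF : StmtM.{u}) (hG : IsCharacteristicTwoType G) (hP : IsParS (S : Subgroup G) P)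
    {A : Subgroup G} (hA : A ≤ (S : Subgroup G)) (hoff : OffM (zl (S : Subgroup G) P) A) {v z a₀ : G}
    (hv : v ∈ zl (S : Subgroup G) P) (hz : z ∈ zc (S : Subgroup G)) (hzD : z ∉ cv (S : Subgroup G) P)
    (ha₀ : a₀ ∈ A) (haz : a₀ * v * a₀⁻¹ * v⁻¹ = z) :
    ∃ V1, FS (S : Subgroup G) P A V1 v := by
  have hsyl := syl_of hP
  have hch := hP.isLoc.char2 S hG
  have hm := minH hG hP
  have hcV := (IsParS.inf_centralizer S hG hP).le
  have hzT : ∀ t ∈ (S : Subgroup G), t * z = z * t := (mem_zc.1 hz).2.2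
  have hTH := hm.syl.1
  obtain ⟨hno, hcon⟩ := hFF G (S : Subgroup G) P hsyl hP.toIsMinPar hch ⟨A, hA.trans hsyl.1, hoff⟩
  rcases hcon with ⟨F, _, _, _, k, hk, ⟨M⟩⟩ | ⟨k, m, hk, hm2, ⟨M⟩⟩
  · let N := natC_of hm hk M.toNatK
    obtain ⟨I, h4, h5⟩ := M.offM A hA hoff
    obtain ⟨hv1, hI⟩ := nat_fs N hm hcV hA hoff h4 h5 hv hzD hzT ha₀ haz
    have hcA : A ≤ centralizer (lineM N : Set G) := fun b hb => mem_centralizer_iff.2 fun v hv =>
      (N.cent_line hm hA hoff.le h4 h5 hv.1 hv.2 hb).symm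
    refine ⟨lineM N, fun v hv => hv.1, D_le_lineM N, hcA, ?_, ?_, ?_, ?_, ?_, hno⟩
    · rintro w ⟨hw, hwA⟩
      refine ⟨hw, fun i => ?_⟩
      obtain ⟨a, ha, h6⟩ := h5 (fun _ => 1) fun i hi => absurd (hI i) hi
      have h7 := e_comm N hw (hTH (hA ha)) h6 i
      have h8 : a * w * a⁻¹ * w⁻¹ = 1 := by
        rw [mem_centralizer_iff.1 hwA a ha]; group
      rw [h8, N.map_one] at h7
      have h9 := congrFun h7 0
      simpa using h9.symm
    · intro a ha
      obtain ⟨b, hb, h6⟩ := h4 a ha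
      refine ⟨mul_mem (N.Vn a (hTH (hA ha)) v hv) (inv_mem hv), fun i => ?_⟩
      rw [e_comm N hv (hTH (hA ha)) h6 i]
      simp
    · intro w hw
      obtain ⟨a, ha, h6⟩ := h5 (fun i => N.nat.e w i 0 / N.nat.e v i 1) fun i hi => absurd (hI i) hi
      refine ⟨a, ha, ?_⟩
      have h7 : a * v * a⁻¹ * v⁻¹ ∈ zl (S : Subgroup G) P :=
        mul_mem (N.Vn a (hTH (hA ha)) v hv) (inv_mem hv)
      rw [← N.nat.ker _ (mul_mem hw.1 h7), N.nat.mul w hw.1 _ h7]
      funext i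
      rw [Pi.add_apply, e_comm N hv (hTH (hA ha)) h6 i]
      refine ext2 ?_ ?_
      · rw [Pi.add_apply]
        simp only [Matrix.cons_val_zero]
        rw [div_mul_cancel₀ _ (hv1 i), CharTwo.add_self_eq_zero]
        rfl
      · rw [Pi.add_apply]
        show N.nat.e w i 1 + 0 = 0
        rw [add_zero]
        exact hw.2 i
    · intro a ha hD
      obtain ⟨b, hb, h6⟩ := h4 a ha
      have h7 := (N.nat.ker _ (N.DV hD)).2 hD
      have h8 : b = 0 := by
        funext i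
        have h9 := e_comm N hv (hTH (hA ha)) h6 i
        rw [h7] at h9
        have h10 := congrFun h9 0
        simp only [Pi.zero_apply, Matrix.cons_val_zero] at h10
        exact (mul_eq_zero.1 h10.symm).resolve_right (hv1 i)
      subst h8
      refine mem_centralizer_iff.2 fun w hw => (N.cent_of_stab hm ⟨hTH (hA ha), fun u hu i => ?_, h6.2⟩ hw).symm
      have h9 : _ = ap (up ((0 : Fin k → F) i)) _ := h6.1 u hu i
      have h10 : up ((0 : Fin k → F) i) = 1 := up_zero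
      rw [h10] at h9
      exact h9
    · have h1 := natCenM N hm hcV
      rw [natCard1M N, mul_comm]
      exact Nat.mul_le_mul_left _ h1
  · have hs := sy_of hm M.toSymK hk (by omega) SQ1.FFOf.cv_le SQ1.FFOf.cv_norm
    have hswap : ∀ B : Subgroup G, B ≤ (S : Subgroup G) → OffM (zl (S : Subgroup G) P) B → ∀ b ∈ B,
        ∃ τ, Gd P (zl (S : Subgroup G) P) (cv (S : Subgroup G) P) M.e τ b ∧ ∀ i x, τ i x ≠ x →
          TrM (S : Subgroup G) P (zl (S : Subgroup G) P) (cv (S : Subgroup G) P) M.e i x (τ i x) ∧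
          ∃ b' ∈ B, Gd P (zl (S : Subgroup G) P) (cv (S : Subgroup G) P) M.e
            (Function.update 1 i (Equiv.swap x (τ i x))) b' := by
      intro B hB hB' b hb
      obtain ⟨hD, h2⟩ := M.offM B hB hB'
      obtain ⟨τ, hτ, hτ'⟩ := h2 b hb
      refine ⟨τ, ⟨hTH (hB hb), hD b hb, hτ⟩, fun i x hx => ?_⟩
      obtain ⟨-, b', hb', hb''⟩ := hτ' i x hx
      exact ⟨⟨Ne.symm hx, b', hB hb', hTH (hB hb'), hD b' hb', hb''⟩, b', hb', hTH (hB hb'), hD b' hb', hb''⟩
    have hSA : SymA (S : Subgroup G) P (zl (S : Subgroup G) P) (cv (S : Subgroup G) P) A M.e :=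
      ⟨hA, hswap A hA hoff⟩
    have h : SyC (S : Subgroup G) P (zl (S : Subgroup G) P) (cv (S : Subgroup G) P) (0 : Fin (2 ^ m + 1)) M.e := by
      refine ⟨hs, hTH, hm.syl.2.1, M.trans, M.fix0, fun j x y hx hy => cyc_T' hm M.toSymK hs (by omega) j hx hy, ?_⟩
      by_contra hcon
      push Not at hcon
      apply hoff.ne
      intro a ha
      obtain ⟨τ, hτ, hτ'⟩ := hswap A hA hoff a ha
      have h1 : τ = 1 := by
        funext i
        ext x
        by_contra hx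
        have hx' : τ i x ≠ x := fun e => hx (by rw [e]; rfl)
        exact hcon i x (τ i x) (hτ' i x hx').1
      subst h1
      refine mem_centralizer_iff.2 fun v hv => ?_
      have h2 := hs.gd_sim hτ hs.gd_one v hv
      symm
      calc a * v = (a * v * a⁻¹) * a := by group
        _ = v * a := by rw [h2]; group
    obtain ⟨ι, J, X, Y, _, c⟩ := h.exists_ch
    obtain ⟨⟨τ₀, hτ₀, hτ₀'⟩, hvl, hbl⟩ := hSA.full h c hv hzD hzT ha₀ haz
    have hV1 := uM_le_V h (J := J) (X := X) (Y := Y)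
    have hcA : A ≤ centralizer (uM P (zl (S : Subgroup G) P) (cv (S : Subgroup G) P) M.e J X Y : Set G) := by
      intro b hb
      obtain ⟨τ, hτ, hτ'⟩ := hSA.act b hb
      exact symOffM h c hτ.mem hτ.cd hτ.act fun i x hx => (hτ' i x hx).1
    have hmem : ∀ a ∈ A, a * v * a⁻¹ * v⁻¹ ∈ uM P (zl (S : Subgroup G) P) (cv (S : Subgroup G) P) M.e J X Y := by
      intro a ha
      have haH := hTH (hA ha)
      obtain ⟨τ, hτ, hτ'⟩ := hSA.act a ha
      refine mem_uM_of h c (mul_mem (h.Vn a haH v hv) (inv_mem hv)) fun l => ?_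
      have h1 := e_comm_sym h hv haH hτ.act (J l) (X l)
      have h2 := e_comm_sym h hv haH hτ.act (J l) (Y l)
      rcases SymA.pts (A := A) h c (fun i x hx => (hτ' i x hx).1) l with ⟨h3, h4⟩ | ⟨h3, h4⟩
      · rw [h3] at h1
        rw [h4] at h2
        rw [h1, h2, CharTwo.add_self_eq_zero, CharTwo.add_self_eq_zero]
      · rw [h3] at h1
        rw [h4] at h2
        rw [h1, h2, add_comm]
    refine ⟨uM P (zl (S : Subgroup G) P) (cv (S : Subgroup G) P) M.e J X Y, hV1, D_le_uM, hcA, ?_, hmem, ?_, ?_, ?_,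
      hno⟩
    · rintro w ⟨hw, hwA⟩
      refine mem_uM_of h c hw fun l => ?_
      have h1 := e_comm_sym h hw (hTH (hA ha₀)) hτ₀.act (J l) (X l)
      have h8 : a₀ * w * a₀⁻¹ * w⁻¹ = 1 := by
        rw [mem_centralizer_iff.1 hwA a₀ ha₀]; group
      rw [h8, (hτ₀' l).1, h.e_one] at h1
      exact (CharTwo.add_eq_zero.1 h1.symm)
    · -- `V₁ = D [v, A]`
      let K : Subgroup G :=
        { carrier := {w | w ∈ zl (S : Subgroup G) P ∧ ∃ a ∈ A, w * (a * v * a⁻¹ * v⁻¹) ∈ cv (S : Subgroup G) P}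
          mul_mem' := by
            rintro x y ⟨hx, a, ha, hxa⟩ ⟨hy, b, hb, hyb⟩
            refine ⟨mul_mem hx hy, a * b, mul_mem ha hb, ?_⟩
            have h1 := comm_mul (a := a) (b := b) (v := v) (mem_centralizer_iff.1 (hcA ha) _ (hmem b hb)).symm
            rw [h1]
            have h2 := hV1 (hmem a ha)
            have h3 := hV1 (hmem b hb)
            have e1 : x * y * (b * v * b⁻¹ * v⁻¹ * (a * v * a⁻¹ * v⁻¹)) =
                x * (a * v * a⁻¹ * v⁻¹) * (y * (b * v * b⁻¹ * v⁻¹)) := by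
              have c1 := h.comm _ (mul_mem hy h3) _ h2
              calc x * y * (b * v * b⁻¹ * v⁻¹ * (a * v * a⁻¹ * v⁻¹))
                  = x * (y * (b * v * b⁻¹ * v⁻¹) * (a * v * a⁻¹ * v⁻¹)) := by group
                _ = x * ((a * v * a⁻¹ * v⁻¹) * (y * (b * v * b⁻¹ * v⁻¹))) := by rw [c1]
                _ = _ := by group
            rw [e1]
            exact mul_mem hxa hyb
          one_mem' := ⟨one_mem _, 1, one_mem _, by simp⟩
          inv_mem' := by
            rintro x ⟨hx, a, ha, hxa⟩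
            have h1 : x⁻¹ = x := inv_eq_of_mul_eq_one_left (by rw [← pow_two]; exact h.sq x hx)
            rw [h1]
            exact ⟨hx, a, ha, hxa⟩ }
      have hle : uM P (zl (S : Subgroup G) P) (cv (S : Subgroup G) P) M.e J X Y ≤ K := by
        refine uM_le (fun d hd => ⟨h.DV hd, 1, one_mem _, by simpa using hd⟩) fun l => ?_
        obtain ⟨b, hb, hbg⟩ := hbl l
        refine ⟨h.u_mem _ _ _, b, hb, ?_⟩
        have h7 := hV1 (hmem b hb)
        refine mem_D_ofM h c (mul_mem (h.u_mem _ _ _) h7) fun l' => ?_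
        rw [h.mul _ (h.u_mem _ _ _) _ h7, Pi.add_apply, Pi.add_apply, Pi.add_apply]
        classical
        obtain ⟨h1, h2⟩ := e_u_valM h c l l'
        rw [h1, h2]
        have h3 := e_comm_sym h hv hbg.mem hbg.act (J l') (X l')
        have h4 := e_comm_sym h hv hbg.mem hbg.act (J l') (Y l')
        by_cases hl : l' = l
        · subst hl
          rw [if_pos rfl]
          rw [Function.update_self, Equiv.swap_apply_left, hvl l'] at h3
          rw [Function.update_self, Equiv.swap_apply_right, add_comm, hvl l'] at h4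
          rw [h3, h4]
          exact ⟨CharTwo.add_self_eq_zero _, CharTwo.add_self_eq_zero _⟩
        · rw [if_neg hl]
          have h5 : (Function.update 1 (J l) (Equiv.swap (X l) (Y l)) : Fin k → Equiv.Perm (Fin (2 ^ m + 1))) (J l')
              (X l') = X l' ∧ (Function.update 1 (J l) (Equiv.swap (X l) (Y l)) : Fin k → Equiv.Perm (Fin (2 ^ m + 1)))
              (J l') (Y l') = Y l' := by
            by_cases hJ : J l' = J l
            · obtain ⟨a1, a2, a3, a4⟩ := c.cases h hl hJ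
              rw [hJ, Function.update_self]
              exact ⟨Equiv.swap_apply_of_ne_of_ne a1 a2, Equiv.swap_apply_of_ne_of_ne a3 a4⟩
            · rw [Function.update_of_ne hJ]
              exact ⟨rfl, rfl⟩
          rw [h5.1, CharTwo.add_self_eq_zero] at h3
          rw [h5.2, CharTwo.add_self_eq_zero] at h4
          rw [h3, h4, add_zero]
          exact ⟨rfl, rfl⟩
      exact fun w hw => (hle hw).2
    · intro a ha hD
      obtain ⟨τ, hτ, hτ'⟩ := hSA.act a ha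
      have h7 := (hs.ker _ (h.DV hD)).2 hD
      refine SymA.cent h c hτ (fun i => h.fix0 a (hA ha) 1 τ hτ.act i) fun l => ?_
      rcases SymA.pts (A := A) h c (fun i x hx => (hτ' i x hx).1) l with h3 | h3
      · exact h3
      · exfalso
        have h1 := e_comm_sym h hv hτ.mem hτ.act (J l) (X l)
        rw [h3.1, hvl l, h7] at h1
        exact zero_ne_one h1
    · have h1 := symCenM h c hcV
      rw [symCard1M h c, mul_comm]
      exact Nat.mul_le_mul_left _ h1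

end Cfsg.Agent.Omega.NO3S.BetaFF

end
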